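import Mathlib
import Cfsg.Agent.H10.HO.Defs

/-!
# S2075 piece HO-CZL (helper53 for helper10)

If `|C(z)| ≤ 16`, `z` has order 8 and `t ∈ C(z) \ ⟨z⟩`, then `C(z) = ⟨z⟩ ∪ ⟨z⟩ t`.
-/

set_option autoImplicit false

namespace Cfsg.Agent.H53.Ho

open Cfsg.Agent.H10.HO

universe u

theorem cZL : StCZL.{u} := by
  intro G _ _ z t hcard hz8 hz4 htz ht g hg
  have hord : orderOf z = 8 := by
    have hdvd : orderOf z ∣ 2 ^ 3 := orderOf_dvd_of_pow_eq_one (by simpa using hz8)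
    obtain ⟨j, hj3, hj⟩ := (Nat.dvd_prime_pow Nat.prime_two).mp hdvd
    have hj' : j = 3 := by
      by_contra hne
      have hj2 : j ≤ 2 := by omega
      apply hz4
      have h4 : orderOf z ∣ 4 := by
        rw [hj]
        exact pow_dvd_pow 2 hj2
      exact orderOf_dvd_iff_pow_eq_one.mp h4
    rw [hj, hj']
    norm_num
  have memC : ∀ y : G, y * z = z * y → y ∈ Subgroup.centralizer ({z} : Set G) := by
    intro y hy
    rw [Subgroup.mem_centralizer_iff]
    intro w hw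
    rw [Set.mem_singleton_iff.mp hw]
    exact hy.symm
  have hpz : ∀ a : ℕ, z ^ a * z = z * z ^ a := fun a => by
    rw [← pow_succ, ← pow_succ']
  have hpt : ∀ a : ℕ, z ^ a * t * z = z * (z ^ a * t) := fun a => by
    rw [mul_assoc, htz, ← mul_assoc, hpz, mul_assoc]
  let f : Fin 8 × Bool → ↥(Subgroup.centralizer ({z} : Set G)) := fun p =>
    if p.2 then ⟨z ^ (p.1 : ℕ) * t, memC _ (hpt _)⟩ else ⟨z ^ (p.1 : ℕ), memC _ (hpz _)⟩
  have hpow : ∀ a b : Fin 8, z ^ (a : ℕ) = z ^ (b : ℕ) → a = b := by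
    intro a b hab
    have h1 := (pow_inj_mod (x := z)).mp hab
    rw [hord, Nat.mod_eq_of_lt a.2, Nat.mod_eq_of_lt b.2] at h1
    exact Fin.ext h1
  have hmix : ∀ a b : Fin 8, z ^ (a : ℕ) * t ≠ z ^ (b : ℕ) := by
    intro a b hab
    have h1 : t = z ^ ((8 - (a : ℕ) + (b : ℕ)) % 8) := by
      have h2 : t = z ^ (8 - (a : ℕ)) * z ^ (b : ℕ) := by
        rw [← hab, ← mul_assoc, ← pow_add, Nat.sub_add_cancel (le_of_lt a.2), hz8, one_mul]
      rw [h2, ← pow_add]
      conv_lhs => rw [← Nat.div_add_mod (8 - (a : ℕ) + (b : ℕ)) 8]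
      rw [pow_add, pow_mul, hz8, one_pow, one_mul]
    exact ht _ (Nat.mod_lt _ (by norm_num)) h1
  have hinj : Function.Injective f := by
    rintro ⟨a, ε⟩ ⟨b, δ⟩ hab
    cases ε <;> cases δ
    · have h1 : z ^ (a : ℕ) = z ^ (b : ℕ) := congrArg Subtype.val hab
      rw [hpow a b h1]
    · have h1 : z ^ (a : ℕ) = z ^ (b : ℕ) * t := congrArg Subtype.val hab
      exact absurd h1.symm (hmix b a)
    · have h1 : z ^ (a : ℕ) * t = z ^ (b : ℕ) := congrArg Subtype.val hab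
      exact absurd h1 (hmix a b)
    · have h1 : z ^ (a : ℕ) * t = z ^ (b : ℕ) * t := congrArg Subtype.val hab
      rw [hpow a b (mul_right_cancel h1)]
  have hc16 : Nat.card (Fin 8 × Bool) = 16 := by
    simp [Nat.card_eq_fintype_card]
  have hcardeq : Nat.card (Fin 8 × Bool) = Nat.card ↥(Subgroup.centralizer ({z} : Set G)) :=
    le_antisymm (Nat.card_le_card_of_injective f hinj) (by rw [hc16]; exact hcard)
  obtain ⟨⟨a, ε⟩, hfa⟩ :=
    ((Nat.bijective_iff_injective_and_card f).mpr ⟨hinj, hcardeq⟩).2 ⟨g, memC g hg⟩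
  refine ⟨a, a.2, ?_⟩
  cases ε
  · left
    exact (congrArg Subtype.val hfa).symm
  · right
    exact (congrArg Subtype.val hfa).symm

end Cfsg.Agent.H53.Ho

universe u in
example : Cfsg.Agent.H10.HO.StCZL.{u} := Cfsg.Agent.H53.Ho.cZL
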