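import Mathlib
import Cfsg.Agent.H10.HO.Defs

/-!
# S2075 piece HO-NCXA (helper53 for helper10)

`⟨z⟩` acts by conjugation on `C(x)` with the identity as only fixed point, so `|C(x)|` is odd; and
`C(x)` is conjugate into a subgroup of order 1958400.
-/

set_option autoImplicit false
set_option linter.style.haveILetI false

namespace Cfsg.Agent.H53.Ho

open Cfsg.Agent.H10.HO

universe u

section Aux

variable {G : Type u} [Group G]

/-- the conjugation action of a subgroup `B` on a subgroup `M` that it normalizes -/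
@[reducible] def conjActOn (B M : Subgroup G) (hinv : ∀ b ∈ B, ∀ m ∈ M, b * m * b⁻¹ ∈ M) :
    MulAction ↥B ↥M where
  smul b m := ⟨b * m * b⁻¹, hinv b b.2 m m.2⟩
  one_smul m := by
    apply Subtype.ext
    show ((1 : ↥B) : G) * (m : G) * ((1 : ↥B) : G)⁻¹ = m
    simp
  mul_smul b c m := by
    apply Subtype.ext
    show ((b * c : ↥B) : G) * (m : G) * ((b * c : ↥B) : G)⁻¹ = b * (c * m * (c : G)⁻¹) * (b : G)⁻¹
    simp [mul_assoc]

/-- a 2-group acting by conjugation on a subgroup of even order has a non-identity fixed point -/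
theorem fixed_pt_of_even [Finite G] (B M : Subgroup G) (hB : IsPGroup 2 ↥B)
    (hinv : ∀ b ∈ B, ∀ m ∈ M, b * m * b⁻¹ ∈ M) (hM : 2 ∣ Nat.card ↥M) :
    ∃ m ∈ M, m ≠ 1 ∧ ∀ b ∈ B, b * m * b⁻¹ = m := by
  letI := conjActOn B M hinv
  haveI : Fact (Nat.Prime 2) := ⟨Nat.prime_two⟩
  have h1 : (1 : ↥M) ∈ MulAction.fixedPoints ↥B ↥M := by
    intro b
    apply Subtype.ext
    show (b : G) * ((1 : ↥M) : G) * (b : G)⁻¹ = ((1 : ↥M) : G)
    simp
  obtain ⟨m, hm, hne⟩ := hB.exists_fixed_point_of_prime_dvd_card_of_fixed_point ↥M hM h1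
  refine ⟨m, m.2, fun h => hne (Subtype.ext h.symm), fun b hb => ?_⟩
  have := hm ⟨b, hb⟩
  exact congrArg Subtype.val this

end Aux

theorem nCXA : StNCXA.{u} := by
  intro G _ _ x z t h S hx17 hzx hz8 hCz hza hzat hS hhS
  have memC : ∀ g : G, g ∈ Subgroup.centralizer ({x} : Set G) ↔ g * x = x * g := by
    intro g
    rw [Subgroup.mem_centralizer_iff]
    constructor
    · intro hg
      exact (hg x rfl).symm
    · intro hg y hy
      rw [Set.mem_singleton_iff.mp hy]
      exact hg.symm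
  -- `z` normalizes `C(x)`
  have hzC : ∀ g ∈ Subgroup.centralizer ({x} : Set G),
      z * g * z⁻¹ ∈ Subgroup.centralizer ({x} : Set G) := by
    intro g hg
    rw [memC] at hg ⊢
    have h2 : Commute (z * g * z⁻¹) (x ^ 2) := by
      show z * g * z⁻¹ * x ^ 2 = x ^ 2 * (z * g * z⁻¹)
      rw [← hzx]
      calc z * g * z⁻¹ * (z * x * z⁻¹) = z * (g * x) * z⁻¹ := by group
        _ = z * (x * g) * z⁻¹ := by rw [hg]
        _ = z * x * z⁻¹ * (z * g * z⁻¹) := by group
    have hx18 : (x ^ 2) ^ 9 = x := by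
      rw [← pow_mul]
      calc x ^ (2 * 9) = x ^ 17 * x := by rw [← pow_succ]
        _ = x := by rw [hx17, one_mul]
    have h4 := h2.pow_right 9
    rw [hx18] at h4
    exact h4
  have hBC : ∀ b ∈ Subgroup.zpowers z, ∀ g ∈ Subgroup.centralizer ({x} : Set G),
      b * g * b⁻¹ ∈ Subgroup.centralizer ({x} : Set G) := by
    intro b hb
    obtain ⟨k, rfl⟩ := (Submonoid.mem_powers_iff _ _).mp (mem_powers_iff_mem_zpowers.mpr hb)
    clear hb
    induction k with
    | zero =>
      intro g hg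
      simpa using hg
    | succ k ih =>
      intro g hg
      have h1 : z ^ (k + 1) * g * (z ^ (k + 1))⁻¹ = z ^ k * (z * g * z⁻¹) * (z ^ k)⁻¹ := by
        rw [pow_succ]
        group
      rw [h1]
      exact ih _ (hzC g hg)
  have hB2 : IsPGroup 2 ↥(Subgroup.zpowers z) := by
    have hdvd : orderOf z ∣ 2 ^ 3 := orderOf_dvd_of_pow_eq_one (by simpa using hz8)
    obtain ⟨j, -, hj⟩ := (Nat.dvd_prime_pow Nat.prime_two).mp hdvd
    apply IsPGroup.of_card (n := j)
    rw [Nat.card_zpowers, hj]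
  constructor
  · by_contra hodd
    have heven : 2 ∣ Nat.card ↥(Subgroup.centralizer ({x} : Set G)) :=
      even_iff_two_dvd.mp (Nat.not_odd_iff_even.mp hodd)
    obtain ⟨g, hgC, hg1, hgB⟩ := fixed_pt_of_even (Subgroup.zpowers z) _ hB2 hBC heven
    have hgz : g * z = z * g := by
      have h1 := hgB z (Subgroup.mem_zpowers z)
      calc g * z = (z * g * z⁻¹) * z := by rw [h1]
        _ = z * g := by group
    have hgx : g * x = x * g := (memC g).mp hgC
    obtain ⟨a, ha, hga | hga⟩ := hCz g hgz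
    · rcases Nat.eq_zero_or_pos a with h0 | h0
      · rw [h0, pow_zero] at hga
        exact hg1 hga
      · rw [hga] at hgx
        exact hza a h0 ha hgx
    · rw [hga] at hgx
      exact hzat a ha hgx
  · have hle : (Subgroup.centralizer ({x} : Set G)).map (MulAut.conj h).toMonoidHom ≤ S := by
      rintro _ ⟨g, hg, rfl⟩
      show h * g * h⁻¹ ∈ S
      exact hhS g ((memC g).mp hg)
    have hcard : Nat.card ↥((Subgroup.centralizer ({x} : Set G)).map
        (MulAut.conj h).toMonoidHom) = Nat.card ↥(Subgroup.centralizer ({x} : Set G)) :=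
      Subgroup.card_map_of_injective (MulAut.conj h).injective
    rw [← hS, ← hcard]
    exact Subgroup.card_dvd_of_le hle

end Cfsg.Agent.H53.Ho

universe u in
example : Cfsg.Agent.H10.HO.StNCXA.{u} := Cfsg.Agent.H53.Ho.nCXA
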