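import Mathlib
import Cfsg.Prelude.Def_LocalStructure

set_option autoImplicit false

namespace Cfsg.Agent.H53

open Cfsg
open scoped commutatorElement Pointwise

/-- The conjugate `g H g⁻¹`, in the form used by the statements. -/
notation:max "cj(" g ", " H ")" => Subgroup.map (MulEquiv.toMonoidHom (MulAut.conj g)) H

theorem mem_cj {G : Type*} [Group G] {g x : G} {H : Subgroup G} :
    x ∈ cj(g, H) ↔ g⁻¹ * x * g ∈ H := by
  constructor
  · rintro ⟨y, hy, rfl⟩
    simpa [mul_assoc] using hy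
  · intro h
    exact ⟨g⁻¹ * x * g, h, by simp [mul_assoc]⟩

theorem conj_mem_cj {G : Type*} [Group G] {g x : G} {H : Subgroup G} (hx : x ∈ H) :
    g * x * g⁻¹ ∈ cj(g, H) := ⟨x, hx, by simp⟩

theorem mem_normalizer_iff_cj {G : Type*} [Group G] {H : Subgroup G} {g : G} :
    g ∈ Subgroup.normalizer (H : Set G) ↔ cj(g, H) = H :=
  Subgroup.mem_normalizer_iff_map_conj_eq

theorem cj_of_mem_normalizer {G : Type*} [Group G] {H : Subgroup G} {g : G}
    (hg : g ∈ Subgroup.normalizer (H : Set G)) : cj(g, H) = H :=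
  mem_normalizer_iff_cj.mp hg

theorem cj_of_normal {G : Type*} [Group G] (H : Subgroup G) [hH : H.Normal] (g : G) : cj(g, H) = H :=
  cj_of_mem_normalizer (by rw [Subgroup.normalizer_eq_top_iff.mpr hH]; trivial)

theorem cj_cj {G : Type*} [Group G] (g h : G) (H : Subgroup G) : cj(g, (cj(h, H))) = cj((g * h), H) := by
  ext x
  simp only [mem_cj]
  constructor <;> intro hx <;> simpa [mul_assoc] using hx

theorem cj_one {G : Type*} [Group G] (H : Subgroup G) : cj(1, H) = H := by
  ext x; simp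

theorem cj_inv_cj {G : Type*} [Group G] (g : G) (H : Subgroup G) : cj(g⁻¹, (cj(g, H))) = H := by
  rw [cj_cj, inv_mul_cancel, cj_one]

theorem cj_cj_inv {G : Type*} [Group G] (g : G) (H : Subgroup G) : cj(g, (cj(g⁻¹, H))) = H := by
  rw [cj_cj, mul_inv_cancel, cj_one]

theorem cj_mono {G : Type*} [Group G] (g : G) {H K : Subgroup G} (h : H ≤ K) : cj(g, H) ≤ cj(g, K) :=
  Subgroup.map_mono h

theorem cj_le_iff {G : Type*} [Group G] {g : G} {H K : Subgroup G} : cj(g, H) ≤ K ↔ H ≤ cj(g⁻¹, K) := by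
  constructor
  · intro h
    have := cj_mono g⁻¹ h
    rwa [cj_inv_cj] at this
  · intro h
    have := cj_mono g h
    rwa [cj_cj_inv] at this

theorem cj_le_of_mem {G : Type*} [Group G] {g : G} {H K : Subgroup G} (hg : g ∈ K) (h : H ≤ K) :
    cj(g, H) ≤ K := by
  intro x hx
  rw [mem_cj] at hx
  have := K.mul_mem (K.mul_mem hg (h hx)) (K.inv_mem hg)
  simpa [mul_assoc] using this

theorem cj_eq_of_mem {G : Type*} [Group G] {g : G} {K : Subgroup G} (hg : g ∈ K) : cj(g, K) = K :=
  cj_of_mem_normalizer (Subgroup.le_normalizer hg)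

theorem isPGroup_cj {p : ℕ} {G : Type*} [Group G] (g : G) {H : Subgroup G} (h : IsPGroup p ↥H) :
    IsPGroup p ↥(cj(g, H)) :=
  h.map _

theorem card_cj {G : Type*} [Group G] (g : G) (H : Subgroup G) : Nat.card ↥(cj(g, H)) = Nat.card ↥H :=
  Nat.card_congr ((Subgroup.equivMapOfInjective H (MulAut.conj g).toMonoidHom (MulAut.conj g).injective).toEquiv.symm)

theorem cj_sup {G : Type*} [Group G] (g : G) (H K : Subgroup G) : cj(g, (H ⊔ K)) = cj(g, H) ⊔ cj(g, K) :=
  Subgroup.map_sup H K _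

theorem cj_inf {G : Type*} [Group G] (g : G) (H K : Subgroup G) : cj(g, (H ⊓ K)) = cj(g, H) ⊓ cj(g, K) :=
  Subgroup.map_inf H K _ (MulAut.conj g).injective

theorem cj_commutator {G : Type*} [Group G] (g : G) (H K : Subgroup G) : cj(g, ⁅H, K⁆) = ⁅cj(g, H), cj(g, K)⁆ :=
  Subgroup.map_commutator H K _

theorem cj_centralizer {G : Type*} [Group G] (g : G) (H : Subgroup G) :
    cj(g, (Subgroup.centralizer (H : Set G))) = Subgroup.centralizer ((cj(g, H) : Subgroup G) : Set G) := by
  ext x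
  rw [mem_cj, Subgroup.mem_centralizer_iff, Subgroup.mem_centralizer_iff]
  constructor
  · intro h y hy
    have hy' : g⁻¹ * y * g ∈ H := mem_cj.mp hy
    have := h _ hy'
    have e1 : y * x = g * ((g⁻¹ * y * g) * (g⁻¹ * x * g)) * g⁻¹ := by group
    have e2 : x * y = g * ((g⁻¹ * x * g) * (g⁻¹ * y * g)) * g⁻¹ := by group
    rw [e1, e2, this]
  · intro h y hy
    have := h _ (conj_mem_cj (g := g) hy)
    have e1 : y * (g⁻¹ * x * g) = g⁻¹ * ((g * y * g⁻¹) * x) * g := by group
    have e2 : g⁻¹ * x * g * y = g⁻¹ * (x * (g * y * g⁻¹)) * g := by group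
    rw [e1, e2, this]

theorem cj_normalizer {G : Type*} [Group G] (g : G) (H : Subgroup G) :
    cj(g, (Subgroup.normalizer (H : Set G))) = Subgroup.normalizer ((cj(g, H) : Subgroup G) : Set G) := by
  ext x
  rw [mem_cj, mem_normalizer_iff_cj, mem_normalizer_iff_cj, cj_cj]
  constructor
  · intro h
    have := congrArg (fun K => cj(g, K)) h
    rw [cj_cj] at this
    rw [← this]; congr 1; group
  · intro h
    have := congrArg (fun K => cj(g⁻¹, K)) h
    rw [cj_cj, cj_inv_cj] at this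
    rw [← this]; congr 1; group

theorem cj_eq_self_of_le_of_card {G : Type*} [Group G] [Finite G] {g : G} {H : Subgroup G}
    (h : cj(g, H) ≤ H) : cj(g, H) = H := by
  apply Subgroup.eq_of_le_of_card_ge h
  rw [card_cj]

end Cfsg.Agent.H53
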