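import Mathlib
import Cfsg.Prelude.Def_LocalStructure
import Cfsg.Agent.H53.Basic
import Cfsg.Agent.H53.PRes

set_option autoImplicit false

namespace Cfsg.Agent.H53

open Cfsg

theorem isPGroup_quotient_of_sup_eq_top {p : ℕ} {G : Type*} [Group G] (N : Subgroup G)
    [hN : N.Normal] (T : Subgroup G) (hT : IsPGroup p ↥T) (h : N ⊔ T = ⊤) :
    IsPGroup p (G ⧸ N) := by
  intro x
  induction x using QuotientGroup.induction_on with
  | H g =>
    have hg : g ∈ N ⊔ T := by rw [h]; trivial
    obtain ⟨n, hn, t, ht, rfl⟩ := Subgroup.mem_sup_of_normal_left.mp hg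
    obtain ⟨k, hk⟩ := hT ⟨t, ht⟩
    refine ⟨k, ?_⟩
    have h1 : (QuotientGroup.mk (n * t) : G ⧸ N) = QuotientGroup.mk t := by
      rw [QuotientGroup.mk_mul, (QuotientGroup.eq_one_iff n).mpr hn, one_mul]
    rw [h1, ← QuotientGroup.mk_pow]
    have h2 : t ^ p ^ k = 1 := by
      have := congrArg Subtype.val hk
      simpa using this
    rw [h2]; rfl

/-- If `Y` lies in the coatom `M` and in no other coatom, every proper subgroup over `Y` is in `M`. -/
theorem le_coatom_of_unique {H : Type*} [Group H] [Finite H] {Y M : Subgroup H}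
    (huniq : ∀ M' : Subgroup H, IsCoatom M' ∧ Y ≤ M' → M' = M) {K : Subgroup H}
    (hK : K ≠ ⊤) (hYK : Y ≤ K) : K ≤ M := by
  obtain ⟨M', hM', hKM'⟩ := exists_coatom_ge K hK
  have := huniq M' ⟨hM', hYK.trans hKM'⟩
  subst this
  exact hKM'

theorem le_normalizer_inf_of_normal {G : Type*} [Group G] (T N : Subgroup G) [hN : N.Normal] :
    T ≤ Subgroup.normalizer ((T ⊓ N : Subgroup G) : Set G) := by
  intro t ht
  rw [Subgroup.mem_normalizer_iff]
  intro h
  constructor
  · rintro ⟨h1, h2⟩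
    exact ⟨T.mul_mem (T.mul_mem ht h1) (T.inv_mem ht), hN.conj_mem h h2 t⟩
  · rintro ⟨h1, h2⟩
    refine ⟨?_, ?_⟩
    · have := T.mul_mem (T.mul_mem (T.inv_mem ht) h1) ht
      simpa [mul_assoc] using this
    · have := hN.conj_mem _ h2 t⁻¹
      simpa [mul_assoc] using this

/-- A `T`-minimal group (`T` a Sylow `p`-subgroup) is `p`-irreducible. -/
theorem isPIrreducible_of_isMinimalOver {H : Type*} [Group H] [Finite H] {p : ℕ} [Fact p.Prime]
    (T : Sylow p H) (hmin : Cfsg.IsMinimalOver (T : Subgroup H)) : Cfsg.IsPIrreducible p H := by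
  obtain ⟨hncl, M, ⟨hMc, hTM⟩, huniq⟩ := hmin
  have huniq' : ∀ M' : Subgroup H, IsCoatom M' ∧ (T : Subgroup H) ≤ M' → M' = M := huniq
  constructor
  · intro hcl
    have hTn : (T : Subgroup H).Normal := hcl T
    rw [Subgroup.normalClosure_eq_self] at hncl
    rw [hncl] at hTM
    exact hMc.1 (top_le_iff.mp hTM)
  · intro N hN hNc
    obtain ⟨Q, hQ⟩ := sylow_subgroupOf_normal N T
    have hQn : ¬ (Q : Subgroup ↥N).Normal := fun h =>
      hNc (isPClosed_iff_exists_normal.mpr ⟨Q, h⟩)
    have hfr := Sylow.normalizer_sup_eq_top Q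
    rw [hQ, Subgroup.subgroupOf_map_subtype] at hfr
    have hTK : (T : Subgroup H) ≤ Subgroup.normalizer (((T : Subgroup H) ⊓ N : Subgroup H) : Set H) :=
      le_normalizer_inf_of_normal _ N
    have hKtop : Subgroup.normalizer (((T : Subgroup H) ⊓ N : Subgroup H) : Set H) ≠ ⊤ := by
      intro hK
      apply hQn
      rw [hQ]
      have hn : ((T : Subgroup H) ⊓ N).Normal := Subgroup.normalizer_eq_top_iff.mp hK
      have : (T : Subgroup H).subgroupOf N = ((T : Subgroup H) ⊓ N).subgroupOf N := by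
        rw [Subgroup.inf_subgroupOf_right]
      rw [this]
      exact hn.subgroupOf N
    have hKM := le_coatom_of_unique huniq' hKtop hTK
    have hNM : ¬ N ≤ M := by
      intro hNM
      apply hMc.1
      rw [eq_top_iff, ← hfr]
      exact sup_le hKM hNM
    have hNT : N ⊔ (T : Subgroup H) = ⊤ := by
      by_contra hne
      exact hNM (le_sup_left.trans (le_coatom_of_unique huniq' hne le_sup_right))
    exact pResidual_le_of_isPGroup_quotient N
      (isPGroup_quotient_of_sup_eq_top N (T : Subgroup H) T.isPGroup' hNT)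

/-! ### Coatoms and surjective homomorphisms -/

theorem isCoatom_comap_of_surjective {G K : Type*} [Group G] [Group K] {f : G →* K}
    (hf : Function.Surjective f) {M : Subgroup K} (h : IsCoatom M) : IsCoatom (M.comap f) := by
  constructor
  · intro htop
    apply h.1
    rw [← Subgroup.map_comap_eq_self_of_surjective hf M, htop, Subgroup.map_top_of_surjective f hf]
  · intro K' hK'
    have hker : f.ker ≤ K' := le_trans (Subgroup.ker_le_comap f M) hK'.le
    have h1 : M ≤ K'.map f := by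
      rw [← Subgroup.map_comap_eq_self_of_surjective hf M]
      exact Subgroup.map_mono hK'.le
    have h2 : M ≠ K'.map f := by
      intro heq
      apply hK'.ne
      rw [heq, Subgroup.comap_map_eq_self hker]
    have h3 := h.2 _ (lt_of_le_of_ne h1 h2)
    rw [← Subgroup.comap_map_eq_self hker, h3, Subgroup.comap_top]

theorem isCoatom_map_of_ker_le {G K : Type*} [Group G] [Group K] {f : G →* K}
    (hf : Function.Surjective f) {M : Subgroup G} (hker : f.ker ≤ M) (h : IsCoatom M) :
    IsCoatom (M.map f) := by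
  constructor
  · intro htop
    apply h.1
    rw [← Subgroup.comap_map_eq_self hker, htop, Subgroup.comap_top]
  · intro K' hK'
    have h1 : M ≤ K'.comap f := by
      rw [← Subgroup.comap_map_eq_self hker]
      exact Subgroup.comap_mono hK'.le
    have h2 : M ≠ K'.comap f := by
      intro heq
      apply hK'.ne
      rw [heq, Subgroup.map_comap_eq_self_of_surjective hf]
    have h3 := h.2 _ (lt_of_le_of_ne h1 h2)
    rw [← Subgroup.map_comap_eq_self_of_surjective hf K', h3, Subgroup.map_top_of_surjective f hf]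

/-- Quotients of `T`-minimal groups: a `p`-group, or minimal over the image of `T`. -/
theorem isMinimalOver_quotient {H : Type*} [Group H] [Finite H] {p : ℕ} [Fact p.Prime]
    (T : Sylow p H) (hmin : Cfsg.IsMinimalOver (T : Subgroup H)) (N : Subgroup H) [N.Normal] :
    IsPGroup p (H ⧸ N) ∨ Cfsg.IsMinimalOver ((T : Subgroup H).map (QuotientGroup.mk' N)) := by
  by_cases hNT : N ⊔ (T : Subgroup H) = ⊤
  · exact Or.inl (isPGroup_quotient_of_sup_eq_top N (T : Subgroup H) T.isPGroup' hNT)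
  right
  obtain ⟨hncl, M, ⟨hMc, hTM⟩, huniq⟩ := hmin
  have huniq' : ∀ M' : Subgroup H, IsCoatom M' ∧ (T : Subgroup H) ≤ M' → M' = M := huniq
  have hsurj : Function.Surjective (QuotientGroup.mk' N) := QuotientGroup.mk'_surjective N
  have hNM : N ≤ M := le_sup_left.trans (le_coatom_of_unique huniq' hNT le_sup_right)
  have hker : (QuotientGroup.mk' N).ker ≤ M := by rw [QuotientGroup.ker_mk']; exact hNM
  refine ⟨?_, M.map (QuotientGroup.mk' N), ⟨isCoatom_map_of_ker_le hsurj hker hMc, Subgroup.map_mono hTM⟩, ?_⟩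
  · rw [Subgroup.coe_map, ← Subgroup.map_normalClosure _ _ hsurj, hncl,
      Subgroup.map_top_of_surjective _ hsurj]
  · rintro K ⟨hKc, hTK⟩
    have h1 : IsCoatom (K.comap (QuotientGroup.mk' N)) := isCoatom_comap_of_surjective hsurj hKc
    have h2 : (T : Subgroup H) ≤ K.comap (QuotientGroup.mk' N) :=
      Subgroup.map_le_iff_le_comap.mp hTK
    have h3 := huniq' _ ⟨h1, h2⟩
    rw [← h3, Subgroup.map_comap_eq_self_of_surjective hsurj]

/-! ### Groups minimal over a subgroup -/

theorem minimalOver_unique {L : Type*} [Group L] {L₀ Y : Subgroup L} (hL₀ : IsCoatom L₀)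
    (hY : Y ≤ L₀) (hmin : Cfsg.IsMinimalOver Y) :
    ∀ M' : Subgroup L, IsCoatom M' ∧ Y ≤ M' → M' = L₀ := by
  obtain ⟨_, M, ⟨_, _⟩, huniq⟩ := hmin
  intro M' hM'
  rw [huniq M' hM', huniq L₀ ⟨hL₀, hY⟩]

theorem minimalOver_eq_top_of_normal {L : Type*} [Group L] {Y K : Subgroup L}
    (hmin : Cfsg.IsMinimalOver Y) (hK : K.Normal) (hYK : Y ≤ K) : K = ⊤ := by
  rw [eq_top_iff, ← hmin.1]
  exact Subgroup.normalClosure_le_normal hYK

theorem minimalOver_normalizer_coatom {L : Type*} [Group L] {L₀ Y : Subgroup L} (hL₀ : IsCoatom L₀)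
    (hY : Y ≤ L₀) (hmin : Cfsg.IsMinimalOver Y) : Subgroup.normalizer (L₀ : Set L) = L₀ := by
  by_contra hne
  have hlt : L₀ < Subgroup.normalizer (L₀ : Set L) := lt_of_le_of_ne Subgroup.le_normalizer (Ne.symm hne)
  have htop := hL₀.2 _ hlt
  have hn : L₀.Normal := Subgroup.normalizer_eq_top_iff.mp htop
  exact hL₀.1 (minimalOver_eq_top_of_normal hmin hn hY)

theorem minimalOver_sup_conj {L : Type*} [Group L] [Finite L] {L₀ Y : Subgroup L} (hL₀ : IsCoatom L₀)
    (hY : Y ≤ L₀) (hmin : Cfsg.IsMinimalOver Y) (g : L) (hg : g ∉ L₀) :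
    Y ⊔ Y.map (MulAut.conj g).toMonoidHom = ⊤ := by
  by_contra hne
  have huniq := minimalOver_unique hL₀ hY hmin
  have hK := le_coatom_of_unique huniq hne le_sup_left
  have hYg : Y.map (MulAut.conj g).toMonoidHom ≤ L₀ := le_sup_right.trans hK
  have hsurj : Function.Surjective (MulAut.conj g⁻¹).toMonoidHom := (MulAut.conj g⁻¹).surjective
  have hker : (MulAut.conj g⁻¹).toMonoidHom.ker ≤ L₀ := by
    rw [(MonoidHom.ker_eq_bot_iff _).mpr (MulAut.conj g⁻¹).injective]; exact bot_le
  have hco : IsCoatom (L₀.map (MulAut.conj g⁻¹).toMonoidHom) := isCoatom_map_of_ker_le hsurj hker hL₀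
  have hYle : Y ≤ L₀.map (MulAut.conj g⁻¹).toMonoidHom := by
    intro y hy
    refine ⟨g * y * g⁻¹, hYg ⟨y, hy, by simp⟩, ?_⟩
    simp [mul_assoc]
  have heq := huniq _ ⟨hco, hYle⟩
  have hmem : g⁻¹ ∈ Subgroup.normalizer (L₀ : Set L) := Subgroup.mem_normalizer_iff_map_conj_eq.mpr heq
  rw [minimalOver_normalizer_coatom hL₀ hY hmin] at hmem
  exact hg (by simpa using L₀.inv_mem hmem)

/-- The intersection of an abelian `Y` with a conjugate generating the group with it is central. -/
theorem inf_conj_eq_inf_center {L : Type*} [Group L] {Y : Subgroup L} (hc : IsMulCommutative ↥Y) (g : L)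
    (hgen : Y ⊔ Y.map (MulAut.conj g).toMonoidHom = ⊤) :
    Y ⊓ Y.map (MulAut.conj g).toMonoidHom = Y ⊓ Subgroup.center L := by
  have hcomm : ∀ a ∈ Y, ∀ b ∈ Y, a * b = b * a := by
    intro a ha b hb
    have := (isMulCommutative_iff.mp hc) ⟨a, ha⟩ ⟨b, hb⟩
    exact congrArg Subtype.val this
  apply le_antisymm
  · intro z hz
    obtain ⟨hz1, hz2⟩ := Subgroup.mem_inf.mp hz
    refine Subgroup.mem_inf.mpr ⟨hz1, ?_⟩
    have hle : (⊤ : Subgroup L) ≤ Subgroup.centralizer ({z} : Set L) := by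
      rw [← hgen]
      refine sup_le ?_ ?_
      · intro y hy
        rw [Subgroup.mem_centralizer_iff]
        intro w hw
        rw [Set.mem_singleton_iff] at hw; subst hw
        exact hcomm w hz1 y hy
      · rintro _ ⟨y, hy, rfl⟩
        obtain ⟨z', hz', rfl⟩ := hz2
        rw [Subgroup.mem_centralizer_iff]
        intro w hw
        rw [Set.mem_singleton_iff] at hw; subst hw
        simp only [MulEquiv.coe_toMonoidHom, MulAut.conj_apply]
        have := hcomm z' hz' y hy
        calc g * z' * g⁻¹ * (g * y * g⁻¹) = g * (z' * y) * g⁻¹ := by group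
          _ = g * (y * z') * g⁻¹ := by rw [this]
          _ = g * y * g⁻¹ * (g * z' * g⁻¹) := by group
    rw [Subgroup.mem_center_iff]
    intro x
    have := (Subgroup.mem_centralizer_iff.mp (hle (Subgroup.mem_top x))) z rfl
    exact this.symm
  · intro z hz
    obtain ⟨hz1, hz2⟩ := Subgroup.mem_inf.mp hz
    refine Subgroup.mem_inf.mpr ⟨hz1, z, hz1, ?_⟩
    simp only [MulEquiv.coe_toMonoidHom, MulAut.conj_apply]
    rw [Subgroup.mem_center_iff] at hz2
    rw [hz2 g]; group

/-- A Sylow subgroup `T` of the coatom `L₀` whose normalizer lies in `L₀` is Sylow in `L`. -/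
theorem sylow_of_coatom_normalizer_le {L : Type*} [Group L] [Finite L] {p : ℕ} [Fact p.Prime]
    (L₀ : Subgroup L) (T : Sylow p ↥L₀)
    (hN : Subgroup.normalizer (((T : Subgroup ↥L₀).map L₀.subtype : Subgroup L) : Set L) ≤ L₀) :
    ∃ P : Sylow p L, (P : Subgroup L) = (T : Subgroup ↥L₀).map L₀.subtype := by
  set T' : Subgroup L := (T : Subgroup ↥L₀).map L₀.subtype with hT'
  have hT'L₀ : T' ≤ L₀ := Subgroup.map_subtype_le _
  have hT'p : IsPGroup p ↥T' := T.isPGroup'.map L₀.subtype
  obtain ⟨P, hP⟩ := hT'p.exists_le_sylow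
  refine ⟨P, le_antisymm ?_ hP⟩
  -- P ∩ L₀ ≤ T'
  have hPL₀ : (P : Subgroup L) ⊓ L₀ ≤ T' := by
    have hp : IsPGroup p ↥(((P : Subgroup L) ⊓ L₀).subgroupOf L₀) := by
      have h1 : IsPGroup p ↥((P : Subgroup L) ⊓ L₀) := P.isPGroup'.to_le inf_le_left
      exact h1.comap_subtype
    have hle : (T : Subgroup ↥L₀) ≤ ((P : Subgroup L) ⊓ L₀).subgroupOf L₀ := by
      intro t ht
      rw [Subgroup.mem_subgroupOf]
      exact ⟨hP ⟨t, ht, rfl⟩, t.2⟩
    have heq := T.is_maximal' hp hle
    intro y hy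
    have : (⟨y, hy.2⟩ : ↥L₀) ∈ ((P : Subgroup L) ⊓ L₀).subgroupOf L₀ := by
      rw [Subgroup.mem_subgroupOf]; exact hy
    rw [heq] at this
    exact ⟨⟨y, hy.2⟩, this, rfl⟩
  -- normalizer condition in P
  by_contra hnot
  have hS : T'.subgroupOf (P : Subgroup L) < ⊤ := by
    rw [lt_top_iff_ne_top]
    intro htop
    apply hnot
    intro x hx
    have : (⟨x, hx⟩ : ↥(P : Subgroup L)) ∈ T'.subgroupOf (P : Subgroup L) := by rw [htop]; trivial
    exact this
  have hnil : Group.IsNilpotent ↥(P : Subgroup L) := P.isPGroup'.isNilpotent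
  have hnc := Group.normalizerCondition_of_isNilpotent (G := ↥(P : Subgroup L)) _ hS
  obtain ⟨x, hx1, hx2⟩ := SetLike.exists_of_lt hnc
  have hxN : (x : L) ∈ Subgroup.normalizer (T' : Set L) := by
    rw [Subgroup.mem_normalizer_iff]
    intro h
    rw [Subgroup.mem_normalizer_iff] at hx1
    constructor
    · intro hh
      have := (hx1 ⟨h, hP hh⟩).mp hh
      exact this
    · intro hh
      have hhP : h ∈ (P : Subgroup L) := by
        have h1 := (P : Subgroup L).mul_mem ((P : Subgroup L).mul_mem ((P : Subgroup L).inv_mem x.2) (hP hh)) x.2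
        simpa [mul_assoc] using h1
      exact (hx1 ⟨h, hhP⟩).mpr hh
  exact hx2 (hPL₀ ⟨x.2, hN hxN⟩)

end Cfsg.Agent.H53
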