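import Mathlib
import Cfsg.Prelude.Def_LocalStructure
import Cfsg.Agent.H53.Basic
import Cfsg.Agent.H53.PRes
import Cfsg.Agent.H53.Minimal
import Cfsg.Agent.H53.Conj

set_option autoImplicit false

namespace Cfsg.Agent.H53

open Cfsg
open scoped commutatorElement Pointwise

theorem map_pCore_subtype_le_of_normal {p : ℕ} {H : Type*} [Group H] (N : Subgroup H) [hN : N.Normal] :
    (pCore p ↥N).map N.subtype ≤ pCore p H :=
  le_pCore (@ConjAct.normal_of_characteristic_of_normal _ _ N hN _ (pCore_characteristic p ↥N))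
    ((pCore_isPGroup p ↥N).map N.subtype)

/-- In a `p`-irreducible group, a normal subgroup containing a `p`-subgroup outside `O_p` contains `O^p`. -/
theorem pResidual_le_of_normal_of_not_le_pCore {p : ℕ} {H : Type*} [Group H]
    (hH : IsPIrreducible p H) {N : Subgroup H} (hN : N.Normal) {Y : Subgroup H}
    (hYp : IsPGroup p ↥Y) (hYN : Y ≤ N) (hY : ¬ Y ≤ pCore p H) : pResidual p H ≤ N := by
  apply hH.2 N hN
  intro hcl
  apply hY
  have h1 : Y.subgroupOf N ≤ pCore p ↥N := isPClosed_le_pCore_of_isPGroup hcl hYp.comap_subtype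
  have h2 := map_pCore_subtype_le_of_normal (p := p) N
  intro y hy
  exact h2 ⟨⟨y, hYN hy⟩, h1 (by rw [Subgroup.mem_subgroupOf]; exact hy), rfl⟩

theorem pow_mul_mem_of_mem_normalizer {G : Type*} [Group G] (K : Subgroup G) {k y : G} (hk : k ∈ K)
    (hy : y ∈ Subgroup.normalizer (K : Set G)) (n : ℕ) : (k * y) ^ n * (y ^ n)⁻¹ ∈ K := by
  induction n with
  | zero => simp
  | succ n ih =>
    have h1 : (k * y) ^ (n + 1) * (y ^ (n + 1))⁻¹ = ((k * y) ^ n * (y ^ n)⁻¹) * (y ^ n * k * (y ^ n)⁻¹) := by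
      rw [pow_succ, pow_succ]; group
    rw [h1]
    exact K.mul_mem ih ((Subgroup.mem_normalizer_iff.mp (Subgroup.pow_mem _ hy n) k).mp hk)

/-- If `Y` is a `p`-group normalizing `K`, every element of `K ⊔ Y` has a `p`-power in `K`. -/
theorem exists_pow_mem_of_mem_sup {p : ℕ} {G : Type*} [Group G] {K Y : Subgroup G}
    (hYK : Y ≤ Subgroup.normalizer (K : Set G)) (hYp : IsPGroup p ↥Y) {g : G} (hg : g ∈ K ⊔ Y) :
    ∃ m : ℕ, g ^ p ^ m ∈ K := by
  have hset : ((K ⊔ Y : Subgroup G) : Set G) = (K : Set G) * (Y : Set G) :=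
    Subgroup.coe_mul_of_right_le_normalizer_left K Y hYK
  have hg' : g ∈ ((K ⊔ Y : Subgroup G) : Set G) := hg
  rw [hset] at hg'
  obtain ⟨k, hk, y, hy, rfl⟩ := hg'
  obtain ⟨m, hm⟩ := hYp ⟨y, hy⟩
  have hm' : y ^ p ^ m = 1 := by simpa using congrArg Subtype.val hm
  refine ⟨m, ?_⟩
  have := pow_mul_mem_of_mem_normalizer K hk (hYK hy) (p ^ m)
  rwa [hm', inv_one, mul_one] at this

/-- If every element of the subgroup `R` has a `p`-power in `K` and `O^p(R) = R`, then `R ≤ K`. -/
theorem le_of_pResidual_eq_top_of_pow_mem {p : ℕ} {G : Type*} [Group G] {R K : Subgroup G}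
    (hR : pResidual p ↥R = ⊤) (h : ∀ g ∈ R, ∃ m : ℕ, g ^ p ^ m ∈ K) : R ≤ K := by
  have h1 : pResidual p ↥R ≤ K.subgroupOf R := by
    apply pResidual_le_of_pow_mem
    intro g
    obtain ⟨m, hm⟩ := h g g.2
    exact ⟨m, by rw [Subgroup.mem_subgroupOf]; simpa using hm⟩
  rw [hR] at h1
  intro x hx
  have := h1 (Subgroup.mem_top (⟨x, hx⟩ : ↥R))
  rwa [Subgroup.mem_subgroupOf] at this

theorem isPIrreducible_generation {H : Type*} [Group H] [Finite H] {p : ℕ} [Fact p.Prime]
    (hH : Cfsg.IsPIrreducible p H) (T : Sylow p H) :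
    Subgroup.normalClosure ((T : Subgroup H) : Set H) = ⊤ ∧ commutator H ⊔ (T : Subgroup H) = ⊤ ∧
    Cfsg.pResidual p H ≤ commutator H ∧
    ∀ Y : Subgroup H, Y ≤ (T : Subgroup H) → (T : Subgroup H) ≤ Subgroup.normalizer (Y : Set H) →
      ¬ Y ≤ Cfsg.pCore p H → ⁅Cfsg.pResidual p H, Y⁆ = Cfsg.pResidual p H ∧
        Cfsg.pResidual p H ≤ Subgroup.normalClosure (Y : Set H) := by
  have hTnot : ¬ (T : Subgroup H) ≤ pCore p H := by
    intro hle
    apply hH.1
    rw [isPClosed_iff_sylow_eq_pCore T]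
    exact le_antisymm hle (pCore_le_sylow T)
  have h1 : Subgroup.normalClosure ((T : Subgroup H) : Set H) = ⊤ := by
    rw [eq_top_iff, ← pResidual_sup_sylow T]
    exact sup_le (pResidual_le_of_normal_of_not_le_pCore hH Subgroup.normalClosure_normal T.isPGroup'
      Subgroup.le_normalClosure hTnot) Subgroup.le_normalClosure
  have h2 : commutator H ⊔ (T : Subgroup H) = ⊤ := by
    have hn : (commutator H ⊔ (T : Subgroup H)).Normal := Subgroup.Normal.of_commutator_le H le_sup_left
    rw [eq_top_iff, ← h1]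
    exact Subgroup.normalClosure_le_normal (show ((T : Subgroup H) : Set H) ⊆ _ from
      (le_sup_right : (T : Subgroup H) ≤ commutator H ⊔ (T : Subgroup H)))
  have h3 : Cfsg.pResidual p H ≤ commutator H :=
    pResidual_le_of_isPGroup_quotient _ (isPGroup_quotient_of_sup_eq_top _ (T : Subgroup H) T.isPGroup' h2)
  refine ⟨h1, h2, h3, ?_⟩
  intro Y hYT hTY hY
  have hYp : IsPGroup p ↥Y := T.isPGroup'.to_le hYT
  have h4b : Cfsg.pResidual p H ≤ Subgroup.normalClosure (Y : Set H) :=
    pResidual_le_of_normal_of_not_le_pCore hH Subgroup.normalClosure_normal hYp Subgroup.le_normalClosure hY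
  refine ⟨?_, h4b⟩
  set R := Cfsg.pResidual p H with hR
  set K := ⁅R, Y⁆ with hK
  have hKR : K ≤ R := Subgroup.commutator_le_left R Y
  apply le_antisymm hKR
  -- K ⊔ Y is normal
  have hRK : R ≤ Subgroup.normalizer ((K ⊔ Y : Subgroup H) : Set H) := by
    intro r hr
    rw [mem_normalizer_iff_cj, Subgroup.map_sup]
    have hrK : K.map (MulAut.conj r).toMonoidHom = K :=
      cj_of_mem_normalizer (Subgroup.normalizer_commutator_ge_left R Y hr)
    rw [hrK]
    apply le_antisymm
    · refine sup_le le_sup_left ?_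
      rintro _ ⟨y, hy, rfl⟩
      have : (MulAut.conj r).toMonoidHom y = ⁅r, y⁆ * y := by
        simp only [commutatorElement_def, MulEquiv.coe_toMonoidHom, MulAut.conj_apply]; group
      rw [this]
      exact Subgroup.mul_mem_sup (Subgroup.commutator_mem_commutator hr hy) hy
    · refine sup_le le_sup_left ?_
      intro y hy
      have : y = ⁅r, y⁆⁻¹ * (MulAut.conj r).toMonoidHom y := by
        simp only [commutatorElement_def, MulEquiv.coe_toMonoidHom, MulAut.conj_apply]; group
      rw [this]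
      exact Subgroup.mul_mem_sup (K.inv_mem (Subgroup.commutator_mem_commutator hr hy)) ⟨y, hy, rfl⟩
  have hTK : (T : Subgroup H) ≤ Subgroup.normalizer ((K ⊔ Y : Subgroup H) : Set H) := by
    refine le_trans ?_ (Subgroup.normalizer_inf_normalizer_le_normalizer_sup K Y)
    refine le_inf ?_ hTY
    intro t ht
    rw [mem_normalizer_iff_cj, hK, Subgroup.map_commutator]
    have h5 : R.map (MulAut.conj t).toMonoidHom = R := cj_of_normal R t
    have h6 : Y.map (MulAut.conj t).toMonoidHom = Y := cj_of_mem_normalizer (hTY ht)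
    rw [h5, h6]
  have hnorm : (K ⊔ Y).Normal := by
    rw [← Subgroup.normalizer_eq_top_iff, eq_top_iff, ← pResidual_sup_sylow T]
    exact sup_le hRK hTK
  have hRle : R ≤ K ⊔ Y :=
    pResidual_le_of_normal_of_not_le_pCore hH hnorm hYp le_sup_right hY
  have hYK : Y ≤ Subgroup.normalizer (K : Set H) := Subgroup.normalizer_commutator_ge_right R Y
  exact le_of_pResidual_eq_top_of_pow_mem (pResidual_pResidual p H)
    (fun g hg => exists_pow_mem_of_mem_sup hYK hYp (hRle hg))

end Cfsg.Agent.H53
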