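import Mathlib
import Cfsg.Prelude.Def_LocalStructure
import Cfsg.Agent.H53.Basic
import Cfsg.Agent.H53.PRes
import Cfsg.Agent.H53.Minimal
import Cfsg.Agent.H53.Conj
import Cfsg.Agent.H53.Irred

set_option autoImplicit false

namespace Cfsg.Agent.H53

open Cfsg
open scoped commutatorElement Pointwise

/-! ### Sylow conjugacy in the `cj` form -/

theorem sylow_smul_eq_cj {p : ℕ} {H : Type*} [Group H] (h : H) (T : Sylow p H) :
    ((h • T : Sylow p H) : Subgroup H) = cj(h, (T : Subgroup H)) := by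
  ext x
  rw [Sylow.smul_def, Sylow.pointwise_smul_def, Subgroup.mem_pointwise_smul_iff_inv_smul_mem, mem_cj]
  simp [MulAut.smul_def, mul_assoc]

/-- Two `p`-subgroups of `K`: one lies in a `p`-subgroup `R` of `K`, the other in a `K`-conjugate of `R`. -/
theorem exists_conj_le_of_isPGroup_le {p : ℕ} [Fact p.Prime] {H : Type*} [Group H] [Finite H]
    (K : Subgroup H) {A B : Subgroup H} (hA : A ≤ K) (hB : B ≤ K) (hAp : IsPGroup p ↥A)
    (hBp : IsPGroup p ↥B) :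
    ∃ k ∈ K, ∃ R : Subgroup H, R ≤ K ∧ IsPGroup p ↥R ∧ A ≤ R ∧ B ≤ cj(k, R) := by
  obtain ⟨PA, hPA⟩ := (hAp.comap_subtype (K := K)).exists_le_sylow
  obtain ⟨PB, hPB⟩ := (hBp.comap_subtype (K := K)).exists_le_sylow
  obtain ⟨k, hk⟩ := MulAction.exists_smul_eq ↥K PA PB
  refine ⟨k, k.2, (PA : Subgroup ↥K).map K.subtype, Subgroup.map_subtype_le _, PA.isPGroup'.map _, ?_, ?_⟩
  · intro a ha
    exact ⟨⟨a, hA ha⟩, hPA (Subgroup.mem_subgroupOf.mpr ha), rfl⟩
  · intro b hb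
    have h1 : (⟨b, hB hb⟩ : ↥K) ∈ (PB : Subgroup ↥K) := hPB (Subgroup.mem_subgroupOf.mpr hb)
    rw [← hk, sylow_smul_eq_cj, mem_cj] at h1
    rw [mem_cj]
    exact ⟨_, h1, rfl⟩

/-! ### Weakly closed subgroups -/

/-- The working form of weak closure: `Q` is the only conjugate of itself in any `p`-subgroup
containing it. -/
def UniqConj (p : ℕ) {H : Type*} [Group H] (Q : Subgroup H) : Prop :=
  ∀ R : Subgroup H, IsPGroup p ↥R → Q ≤ R → ∀ g : H, cj(g, Q) ≤ R → cj(g, Q) = Q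

theorem uniqConj_of_isWeaklyClosedSubgroup {p : ℕ} [Fact p.Prime] {H : Type*} [Group H] [Finite H]
    {Q : Subgroup H} (h : IsWeaklyClosedSubgroup p Q) : UniqConj p Q := by
  obtain ⟨T, hQT, hT⟩ := h
  intro R hR hQR g hg
  obtain ⟨T', hT'⟩ := hR.exists_le_sylow
  obtain ⟨h, rfl⟩ := MulAction.exists_smul_eq H T T'
  rw [sylow_smul_eq_cj] at hT'
  have h1 : cj(h⁻¹, Q) = Q := hT h⁻¹ (cj_le_iff.mpr (by rw [inv_inv]; exact hQR.trans hT'))
  have h2 : cj(h⁻¹ * g, Q) = Q := by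
    apply hT
    rw [← cj_cj, cj_le_iff, inv_inv]
    exact hg.trans hT'
  have h3 : cj(g, Q) = cj(h, Q) := by
    have := congrArg (fun K => cj(h, K)) h2
    simp only [cj_cj, mul_inv_cancel_left] at this
    rw [this]
  rw [h3]
  have := congrArg (fun K => cj(h, K)) h1
  simp only [cj_cj, mul_inv_cancel, cj_one] at this
  exact this.symm

theorem isPGroup_of_isWeaklyClosedSubgroup {p : ℕ} {H : Type*} [Group H]
    {Q : Subgroup H} (h : IsWeaklyClosedSubgroup p Q) : IsPGroup p ↥Q := by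
  obtain ⟨T, hQT, _⟩ := h
  exact T.isPGroup'.to_le hQT

theorem isWeaklyClosedSubgroup_of_uniqConj {p : ℕ} {H : Type*} [Group H]
    {Q : Subgroup H} (hQ : IsPGroup p ↥Q) (h : UniqConj p Q) : IsWeaklyClosedSubgroup p Q := by
  obtain ⟨T, hT⟩ := hQ.exists_le_sylow
  exact ⟨T, hT, fun g hg => h T T.isPGroup' hT g hg⟩

theorem isWeaklyClosedSubgroup_iff {p : ℕ} [Fact p.Prime] {H : Type*} [Group H] [Finite H]
    {Q : Subgroup H} : IsWeaklyClosedSubgroup p Q ↔ IsPGroup p ↥Q ∧ UniqConj p Q :=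
  ⟨fun h => ⟨isPGroup_of_isWeaklyClosedSubgroup h, uniqConj_of_isWeaklyClosedSubgroup h⟩,
    fun h => isWeaklyClosedSubgroup_of_uniqConj h.1 h.2⟩

/-- Two conjugates of `Q` in a common `p`-subgroup are equal. -/
theorem UniqConj.eq_of_le {p : ℕ} {H : Type*} [Group H] {Q : Subgroup H} (h : UniqConj p Q)
    {R : Subgroup H} (hR : IsPGroup p ↥R) {a b : H} (ha : cj(a, Q) ≤ R) (hb : cj(b, Q) ≤ R) :
    cj(a, Q) = cj(b, Q) := by
  have h1 : Q ≤ cj(a⁻¹, R) := cj_le_iff.mp ha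
  have h2 : cj(a⁻¹ * b, Q) ≤ cj(a⁻¹, R) := by rw [← cj_cj]; exact cj_mono _ hb
  have h3 := h _ (isPGroup_cj a⁻¹ hR) h1 _ h2
  have := congrArg (fun K => cj(a, K)) h3
  simp only [cj_cj, mul_inv_cancel_left] at this
  exact this.symm

/-- `Q` is normal in the normalizer of any `p`-subgroup containing it. -/
theorem UniqConj.normalizer_le {p : ℕ} {H : Type*} [Group H] {Q : Subgroup H} (h : UniqConj p Q)
    {R : Subgroup H} (hR : IsPGroup p ↥R) (hQR : Q ≤ R) :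
    Subgroup.normalizer (R : Set H) ≤ Subgroup.normalizer (Q : Set H) := by
  intro n hn
  rw [mem_normalizer_iff_cj]
  apply h R hR hQR
  have := cj_mono n hQR
  rwa [cj_of_mem_normalizer hn] at this

theorem UniqConj.le_normalizer {p : ℕ} {H : Type*} [Group H] {Q : Subgroup H} (h : UniqConj p Q)
    {R : Subgroup H} (hR : IsPGroup p ↥R) (hQR : Q ≤ R) : R ≤ Subgroup.normalizer (Q : Set H) :=
  Subgroup.le_normalizer.trans (h.normalizer_le hR hQR)

theorem UniqConj.conj {p : ℕ} {H : Type*} [Group H] {Q : Subgroup H} (h : UniqConj p Q) (x : H) :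
    UniqConj p cj(x, Q) := by
  intro R hR hQR g hg
  rw [cj_cj]
  exact (h.eq_of_le hR (by rw [← cj_cj]; exact hg) hQR)

/-- Conjugates of `Q` inside a subgroup `K ≥ Q` are `K`-conjugates. -/
theorem UniqConj.exists_conj_mem {p : ℕ} [Fact p.Prime] {H : Type*} [Group H] [Finite H]
    {Q : Subgroup H} (h : UniqConj p Q) (hQ : IsPGroup p ↥Q) {K : Subgroup H} (hQK : Q ≤ K) {g : H}
    (hg : cj(g, Q) ≤ K) : ∃ k ∈ K, cj(g, Q) = cj(k, Q) := by
  obtain ⟨k, hk, R, _, hRp, hQR, hgR⟩ := exists_conj_le_of_isPGroup_le K hQK hg hQ (isPGroup_cj g hQ)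
  exact ⟨k, hk, h.eq_of_le (isPGroup_cj k hRp) hgR (cj_mono k hQR)⟩

/-- Frattini argument for a weakly closed subgroup. -/
theorem UniqConj.frattini {p : ℕ} [Fact p.Prime] {H : Type*} [Group H] [Finite H]
    {Q : Subgroup H} (h : UniqConj p Q) (hQ : IsPGroup p ↥Q) {X : Subgroup H} (hQX : Q ≤ X) {g : H}
    (hg : cj(g, X) = X) : ∃ x ∈ X, x⁻¹ * g ∈ Subgroup.normalizer (Q : Set H) := by
  have h1 : cj(g, Q) ≤ X := by rw [← hg]; exact cj_mono g hQX
  obtain ⟨x, hx, hxe⟩ := h.exists_conj_mem hQ hQX h1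
  refine ⟨x, hx, ?_⟩
  rw [mem_normalizer_iff_cj, ← cj_cj, hxe, cj_inv_cj]

end Cfsg.Agent.H53
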