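import Mathlib
import Cfsg.Prelude.Def_LocalStructure
import Cfsg.Agent.H53.WC

set_option autoImplicit false

namespace Cfsg.Agent.H53

open Cfsg
open scoped commutatorElement Pointwise

theorem card_lt_of_lt {H : Type*} [Group H] [Finite H] {A B : Subgroup H} (h : A < B) :
    Nat.card ↥A < Nat.card ↥B := by
  by_contra hcon
  exact h.ne (Subgroup.eq_of_le_of_card_ge h.le (not_lt.mp hcon))

/-- Normalizer condition in a finite `p`-subgroup. -/
theorem exists_mem_normalizer_not_mem {p : ℕ} [Fact p.Prime] {H : Type*} [Group H] [Finite H]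
    {R A : Subgroup H} (hR : IsPGroup p ↥R) (hAR : A < R) :
    ∃ x ∈ R, x ∈ Subgroup.normalizer (A : Set H) ∧ x ∉ A := by
  have : Group.IsNilpotent ↥R := hR.isNilpotent
  have hnc := Group.normalizerCondition_of_isNilpotent (G := ↥R)
  have hlt : A.subgroupOf R < ⊤ := by
    rw [lt_top_iff_ne_top]
    intro h
    rw [Subgroup.subgroupOf_eq_top] at h
    exact absurd (le_antisymm hAR.le h) hAR.ne
  have h2 := hnc _ hlt
  obtain ⟨x, hxN, hxA⟩ := SetLike.exists_of_lt h2
  refine ⟨x, x.2, ?_, fun h => hxA (Subgroup.mem_subgroupOf.mpr h)⟩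
  rw [Subgroup.mem_normalizer_iff]
  intro a
  rw [Subgroup.mem_normalizer_iff] at hxN
  constructor
  · intro ha
    have := (hxN ⟨a, hAR.le ha⟩).mp (Subgroup.mem_subgroupOf.mpr ha)
    exact Subgroup.mem_subgroupOf.mp this
  · intro ha
    have haR : a ∈ R := by
      have h3 : (x : H) * a * (x : H)⁻¹ ∈ R := hAR.le ha
      have h4 := R.mul_mem (R.mul_mem (R.inv_mem x.2) h3) x.2
      simpa [mul_assoc] using h4
    have := (hxN ⟨a, haR⟩).mpr (Subgroup.mem_subgroupOf.mpr ha)
    exact Subgroup.mem_subgroupOf.mp this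

/-- Two subgroups normalizing each other have commutator in the intersection. -/
theorem commutator_le_inf_of_le_normalizer {H : Type*} [Group H] {A B : Subgroup H}
    (hA : A ≤ Subgroup.normalizer (B : Set H)) (hB : B ≤ Subgroup.normalizer (A : Set H)) :
    ⁅A, B⁆ ≤ A ⊓ B :=
  le_inf (Subgroup.le_normalizer_iff_commutator_le_left.mp hB)
    (Subgroup.le_normalizer_iff_commutator_le_right.mp hA)

/-- Under the commutator criterion, every conjugate of `Q` inside a `p`-subgroup is normal there. -/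
theorem normal_conj_of_commutator_criterion {p : ℕ} [Fact p.Prime] {H : Type*} [Group H] [Finite H]
    {Q : Subgroup H}
    (h2 : ∀ g : H, ⁅Q, cj(g, Q)⁆ ≤ Q ⊓ cj(g, Q) → cj(g, Q) = Q) :
    ∀ (n : ℕ) (R : Subgroup H), Nat.card ↥R ≤ n → IsPGroup p ↥R → ∀ c : H, cj(c, Q) ≤ R →
      R ≤ Subgroup.normalizer ((cj(c, Q) : Subgroup H) : Set H) := by
  intro n
  induction n with
  | zero =>
    intro R hR
    have := Nat.card_pos (α := ↥R)
    omega
  | succ n ih =>
    intro R hcard hR c hc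
    by_contra hcon
    have hlt : R ⊓ Subgroup.normalizer ((cj(c, Q) : Subgroup H) : Set H) < R :=
      lt_of_le_of_ne inf_le_left (fun h => hcon (h ▸ inf_le_right))
    obtain ⟨x, hxR, hxN, hxn⟩ := exists_mem_normalizer_not_mem hR hlt
    set N := R ⊓ Subgroup.normalizer ((cj(c, Q) : Subgroup H) : Set H) with hN
    have hNp : IsPGroup p ↥N := hR.to_le inf_le_left
    have hNcard : Nat.card ↥N ≤ n := by
      have := card_lt_of_lt hlt
      omega
    have hAN : cj(c, Q) ≤ N := le_inf hc Subgroup.le_normalizer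
    have hA'N : cj((x * c), Q) ≤ N := by
      rw [← cj_cj]
      have := cj_mono x hAN
      rwa [cj_of_mem_normalizer hxN] at this
    have n1 := ih N hNcard hNp c hAN
    have n2 := ih N hNcard hNp (x * c) hA'N
    have hcomm : ⁅cj(c, Q), cj((x * c), Q)⁆ ≤ cj(c, Q) ⊓ cj((x * c), Q) :=
      commutator_le_inf_of_le_normalizer (hAN.trans n2) (hA'N.trans n1)
    have hcomm' : ⁅Q, cj((c⁻¹ * x * c), Q)⁆ ≤ Q ⊓ cj((c⁻¹ * x * c), Q) := by
      have := cj_mono c⁻¹ hcomm
      rw [cj_commutator, cj_inf, cj_inv_cj, cj_cj] at this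
      have e : c⁻¹ * (x * c) = c⁻¹ * x * c := by group
      rwa [e] at this
    have h3 := h2 _ hcomm'
    have h4 : cj(x, (cj(c, Q))) = cj(c, Q) := by
      have := congrArg (fun K => cj(c, K)) h3
      simp only [cj_cj] at this
      rw [cj_cj, ← this]
      congr 1; group
    exact hxn (Subgroup.mem_inf.mpr ⟨hxR, mem_normalizer_iff_cj.mpr h4⟩)

theorem uniqConj_of_commutator_criterion {p : ℕ} [Fact p.Prime] {H : Type*} [Group H] [Finite H]
    {Q : Subgroup H}
    (h2 : ∀ g : H, ⁅Q, cj(g, Q)⁆ ≤ Q ⊓ cj(g, Q) → cj(g, Q) = Q) : UniqConj p Q := by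
  intro R hR hQR g hg
  have n1 := normal_conj_of_commutator_criterion h2 _ R le_rfl hR 1 (by rw [cj_one]; exact hQR)
  rw [cj_one] at n1
  have n2 := normal_conj_of_commutator_criterion h2 _ R le_rfl hR g hg
  exact h2 g (commutator_le_inf_of_le_normalizer (hQR.trans n2) (hg.trans n1))

theorem UniqConj.commutator_criterion {p : ℕ} [Fact p.Prime] {H : Type*} [Group H] [Finite H]
    {Q : Subgroup H} (h : UniqConj p Q) (hQ : IsPGroup p ↥Q) (g : H)
    (hg : ⁅Q, cj(g, Q)⁆ ≤ Q ⊓ cj(g, Q)) : cj(g, Q) = Q := by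
  have h1 : cj(g, Q) ≤ Subgroup.normalizer (Q : Set H) :=
    Subgroup.le_normalizer_iff_commutator_le_left.mpr (hg.trans inf_le_left)
  have hp : IsPGroup p ↥(Q ⊔ cj(g, Q) : Subgroup H) :=
    IsPGroup.to_sup_of_normal_left' hQ (isPGroup_cj g hQ) h1
  exact h _ hp le_sup_left g le_sup_right

/-- If `Q` is normal in the normalizer of every `p`-subgroup containing it, it is weakly closed. -/
theorem uniqConj_of_normalizer_le {p : ℕ} [Fact p.Prime] {H : Type*} [Group H] [Finite H]
    {Q : Subgroup H}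
    (h3 : ∀ R : Subgroup H, IsPGroup p ↥R → Q ≤ R →
      Subgroup.normalizer (R : Set H) ≤ Subgroup.normalizer (Q : Set H)) : UniqConj p Q := by
  -- first: `Q` is normal in every `p`-subgroup containing it
  have hnorm : ∀ R : Subgroup H, IsPGroup p ↥R → Q ≤ R → R ≤ Subgroup.normalizer (Q : Set H) :=
    fun R hR hQR => Subgroup.le_normalizer.trans (h3 R hR hQR)
  intro R hR hQR g hg
  -- Sylow `T ≥ R`
  obtain ⟨T, hT⟩ := hR.exists_le_sylow
  have hQT : Q ≤ (T : Subgroup H) := hQR.trans hT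
  have hgT : cj(g, Q) ≤ (T : Subgroup H) := hg.trans hT
  -- `T` normalizes both `Q` and `cj(g, Q)`
  have hTQ : (T : Subgroup H) ≤ Subgroup.normalizer (Q : Set H) := hnorm _ T.isPGroup' hQT
  have hTgQ : (T : Subgroup H) ≤ Subgroup.normalizer ((cj(g, Q) : Subgroup H) : Set H) := by
    have h5 : cj(g⁻¹, (T : Subgroup H)) ≤ Subgroup.normalizer (Q : Set H) :=
      hnorm _ (isPGroup_cj _ T.isPGroup') (cj_le_iff.mp hgT)
    have := cj_mono g h5
    rwa [cj_cj_inv, cj_normalizer] at this
  -- `T` and `cj(g, T)` are Sylow subgroups of `N(cj(g, Q))`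
  set N := Subgroup.normalizer ((cj(g, Q) : Subgroup H) : Set H) with hN
  have hgTN : cj(g, (T : Subgroup H)) ≤ N := by
    have := cj_mono g hTQ
    rwa [cj_normalizer] at this
  have e1 : cj(g, (T : Subgroup H)) = ((g • T : Sylow p H) : Subgroup H) := (sylow_smul_eq_cj g T).symm
  rw [e1] at hgTN
  obtain ⟨n, hn⟩ := MulAction.exists_smul_eq ↥N (T.subtype hTgQ) ((g • T).subtype hgTN)
  have h6 : (n : H) • T = g • T := by
    rw [Sylow.smul_subtype] at hn
    have := Sylow.subtype_injective hn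
    rwa [Subgroup.smul_def] at this
  -- so `g⁻¹ n` normalizes `T`, hence `Q`
  have h7 : cj((g⁻¹ * (n : H)), (T : Subgroup H)) = (T : Subgroup H) := by
    have := congrArg (fun K : Sylow p H => cj(g⁻¹, (K : Subgroup H))) h6
    simp only [sylow_smul_eq_cj, cj_cj, inv_mul_cancel, cj_one] at this
    exact this
  have h8 : cj((g⁻¹ * (n : H)), Q) = Q :=
    mem_normalizer_iff_cj.mp (h3 _ T.isPGroup' hQT (mem_normalizer_iff_cj.mpr h7))
  have h9 : cj((n : H), (cj(g, Q))) = cj(g, Q) := cj_of_mem_normalizer n.2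
  -- conclude
  have h10 : cj((n : H), Q) = cj(g, Q) := by
    have := congrArg (fun K => cj(g, K)) h8
    simp only [cj_cj, mul_inv_cancel_left] at this
    exact this
  have h11 : cj((n : H), (cj(g, Q))) = cj((n : H), Q) := by rw [h9, h10]
  have := congrArg (fun K => cj((n : H)⁻¹, K)) h11
  simp only [cj_inv_cj] at this
  exact this

end Cfsg.Agent.H53
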