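import Mathlib
import Cfsg.Prelude.Def_LocalStructure
import Cfsg.Agent.H53.WC2

set_option autoImplicit false

namespace Cfsg.Agent.H53

open Cfsg
open scoped commutatorElement Pointwise

/-! ### `O_p` of a subgroup, viewed in the ambient group -/

theorem pCoreOf_le (p : ℕ) {G : Type*} [Group G] (L : Subgroup G) : pCoreOf p L ≤ L :=
  Subgroup.map_subtype_le _

theorem pCoreOf_isPGroup (p : ℕ) {G : Type*} [Group G] (L : Subgroup G) :
    IsPGroup p ↥(pCoreOf p L) :=
  (pCore_isPGroup p ↥L).map _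

theorem map_subtype_le_normalizer {G : Type*} [Group G] {L : Subgroup G} (N : Subgroup ↥L)
    [hN : N.Normal] : L ≤ Subgroup.normalizer ((N.map L.subtype : Subgroup G) : Set G) := by
  have h := Subgroup.le_normalizer_map (H := N) L.subtype
  rw [Subgroup.normalizer_eq_top_iff.mpr hN, ← MonoidHom.range_eq_map, Subgroup.range_subtype] at h
  exact h

theorem le_normalizer_pCoreOf (p : ℕ) {G : Type*} [Group G] (L : Subgroup G) :
    L ≤ Subgroup.normalizer ((pCoreOf p L : Subgroup G) : Set G) :=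
  map_subtype_le_normalizer _

theorem pCoreOf_subgroupOf (p : ℕ) {G : Type*} [Group G] (L : Subgroup G) :
    (pCoreOf p L).subgroupOf L = pCore p ↥L := by
  ext x
  rw [Subgroup.mem_subgroupOf]
  constructor
  · rintro ⟨y, hy, hyx⟩
    have : y = x := Subtype.ext hyx
    rwa [← this]
  · intro hx
    exact ⟨x, hx, rfl⟩

theorem pCoreOf_eq_bot_iff (p : ℕ) {G : Type*} [Group G] (L : Subgroup G) :
    pCoreOf p L = ⊥ ↔ pCore p ↥L = ⊥ := by
  unfold pCoreOf
  rw [Subgroup.map_eq_bot_iff_of_injective _ L.subtype_injective]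

/-- A `p`-subgroup of `L` normalized by `L` lies in `O_p(L)`. -/
theorem le_pCoreOf {p : ℕ} {G : Type*} [Group G] {A L : Subgroup G} (hAL : A ≤ L)
    (hn : L ≤ Subgroup.normalizer (A : Set G)) (hA : IsPGroup p ↥A) : A ≤ pCoreOf p L := by
  have h1 : (A.subgroupOf L).Normal := (Subgroup.normal_subgroupOf_iff_le_normalizer hAL).mpr hn
  have h2 : IsPGroup p ↥(A.subgroupOf L) := hA.comap_subtype
  have h3 := le_pCore h1 h2
  intro a ha
  exact ⟨⟨a, hAL ha⟩, h3 (Subgroup.mem_subgroupOf.mpr ha), rfl⟩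

theorem mem_pCoreOf {p : ℕ} {G : Type*} [Group G] {L : Subgroup G} {x : G} :
    x ∈ pCoreOf p L ↔ ∃ h : x ∈ L, (⟨x, h⟩ : ↥L) ∈ pCore p ↥L := by
  constructor
  · rintro ⟨y, hy, rfl⟩
    exact ⟨y.2, hy⟩
  · rintro ⟨h, hx⟩
    exact ⟨⟨x, h⟩, hx, rfl⟩

/-! ### Large subgroups -/

theorem isLarge_cj {H : Type*} [Group H] {Q : Subgroup H} (hL : IsLarge Q) (g : H) :
    IsLarge (cj(g, Q)) := by
  refine ⟨?_, ?_⟩
  · rw [← cj_centralizer]
    exact cj_mono g hL.1
  · intro U hU hU1
    have h1 : cj(g⁻¹, U) ≤ Subgroup.centralizer (Q : Set H) := by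
      rw [cj_le_iff, inv_inv, cj_centralizer]
      exact hU
    have h2 : cj(g⁻¹, U) ≠ ⊥ := by
      intro h
      apply hU1
      have := congrArg (fun K => cj(g, K)) h
      simp only [cj_cj_inv] at this
      rw [this]
      exact Subgroup.map_bot _
    have h3 := cj_mono g (hL.2 _ h1 h2)
    rwa [cj_normalizer, cj_normalizer, cj_cj_inv] at h3

/-- A nontrivial finite `p`-group has nontrivial centre; `p`-subgroup form. -/
theorem center_inf_ne_bot {p : ℕ} [Fact p.Prime] {H : Type*} [Group H] [Finite H] {R : Subgroup H}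
    (hR : IsPGroup p ↥R) (hR1 : R ≠ ⊥) : R ⊓ Subgroup.centralizer (R : Set H) ≠ ⊥ := by
  have : Nontrivial ↥R := (Subgroup.nontrivial_iff_ne_bot R).mpr hR1
  have h1 : Subgroup.center ↥R ≠ ⊥ := by
    have := hR.center_nontrivial
    exact (Subgroup.nontrivial_iff_ne_bot _).mp this
  obtain ⟨z, hz1⟩ := (Subgroup.ne_bot_iff_exists_ne_one).mp h1
  intro h
  have h2 : (z : ↥R).1 ∈ R ⊓ Subgroup.centralizer (R : Set H) := by
    refine Subgroup.mem_inf.mpr ⟨z.1.2, ?_⟩
    rw [Subgroup.mem_centralizer_iff]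
    intro y hy
    have := (Subgroup.mem_center_iff.mp z.2) ⟨y, hy⟩
    exact congrArg Subtype.val this
  rw [h, Subgroup.mem_bot] at h2
  apply hz1
  exact Subtype.ext (Subtype.ext h2)

/-- A large `p`-subgroup is weakly closed (working form). -/
theorem isLarge_uniqConj {p : ℕ} [Fact p.Prime] {H : Type*} [Group H] [Finite H] {Q : Subgroup H}
    (hL : IsLarge Q) (hQ1 : Q ≠ ⊥) : UniqConj p Q := by
  apply uniqConj_of_normalizer_le
  intro R hR hQR
  have hR1 : R ≠ ⊥ := fun h => hQ1 (le_bot_iff.mp (h ▸ hQR))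
  have h1 := center_inf_ne_bot hR hR1
  have h2 : R ⊓ Subgroup.centralizer (R : Set H) ≤ Subgroup.centralizer (Q : Set H) :=
    inf_le_right.trans (Subgroup.centralizer_le hQR)
  refine le_trans ?_ (hL.2 _ h2 h1)
  intro n hn
  rw [mem_normalizer_iff_cj, cj_inf, cj_centralizer, cj_of_mem_normalizer hn]

theorem isLarge_centralizer_inf_eq_bot {p : ℕ} [Fact p.Prime] {H : Type*} [Group H] [Finite H]
    {Q : Subgroup H} (hL : IsLarge Q) (hQp : IsPGroup p ↥Q) (hQ1 : Q ≠ ⊥) {g : H}
    (hg : g ∉ Subgroup.normalizer (Q : Set H)) :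
    Subgroup.centralizer (Q : Set H) ⊓ Subgroup.centralizer ((cj(g, Q) : Subgroup H) : Set H) = ⊥ := by
  by_contra hU
  set U := Subgroup.centralizer (Q : Set H) ⊓ Subgroup.centralizer ((cj(g, Q) : Subgroup H) : Set H)
  have h1 : Subgroup.normalizer (U : Set H) ≤ Subgroup.normalizer (Q : Set H) := hL.2 U inf_le_left hU
  have h2 : Subgroup.normalizer (U : Set H) ≤ Subgroup.normalizer ((cj(g, Q) : Subgroup H) : Set H) :=
    (isLarge_cj hL g).2 U inf_le_right hU
  have hcU : ∀ A : Subgroup H, U ≤ Subgroup.centralizer (A : Set H) →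
      A ≤ Subgroup.normalizer (U : Set H) := by
    intro A hA
    have : A ≤ Subgroup.centralizer (U : Set H) := by
      intro a ha
      rw [Subgroup.mem_centralizer_iff]
      intro u hu
      exact ((Subgroup.mem_centralizer_iff.mp (hA hu)) a ha).symm
    exact this.trans (Subgroup.centralizer_le_normalizer _)
  have h3 : Q ≤ Subgroup.normalizer ((cj(g, Q) : Subgroup H) : Set H) := (hcU Q inf_le_left).trans h2
  have h4 : cj(g, Q) ≤ Subgroup.normalizer (Q : Set H) := (hcU _ inf_le_right).trans h1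
  exact hg (mem_normalizer_iff_cj.mpr
    ((isLarge_uniqConj (p := p) hL hQ1).commutator_criterion hQp g (commutator_le_inf_of_le_normalizer h3 h4)))

theorem le_largeBullet {p : ℕ} {H : Type*} [Group H] {Q : Subgroup H} (hQp : IsPGroup p ↥Q) :
    Q ≤ largeBullet p Q :=
  le_pCoreOf Subgroup.le_normalizer le_rfl hQp

theorem isLarge_normalizer_largeBullet {p : ℕ} [Fact p.Prime] {H : Type*} [Group H] [Finite H]
    {Q : Subgroup H} (hL : IsLarge Q) (hQp : IsPGroup p ↥Q) (hQ1 : Q ≠ ⊥) :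
    Subgroup.normalizer (Q : Set H) = Subgroup.normalizer ((largeBullet p Q : Subgroup H) : Set H) :=
  le_antisymm (le_normalizer_pCoreOf p _)
    ((isLarge_uniqConj (p := p) hL hQ1).normalizer_le (pCoreOf_isPGroup p _) (le_largeBullet hQp))

theorem isLarge_largeBullet {p : ℕ} [Fact p.Prime] {H : Type*} [Group H] [Finite H]
    {Q : Subgroup H} (hL : IsLarge Q) (hQp : IsPGroup p ↥Q) (hQ1 : Q ≠ ⊥) :
    IsLarge (largeBullet p Q) := by
  have hle := le_largeBullet hQp
  refine ⟨(Subgroup.centralizer_le hle).trans (hL.1.trans hle), ?_⟩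
  intro U hU hU1
  rw [← isLarge_normalizer_largeBullet hL hQp hQ1]
  exact hL.2 U (hU.trans (Subgroup.centralizer_le hle)) hU1

end Cfsg.Agent.H53
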