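import Mathlib
import Cfsg.Prelude.Def_LocalStructure
import Cfsg.Agent.H53.Basic
import Cfsg.Agent.H53.PRes
import Cfsg.Agent.H53.Minimal
import Cfsg.Agent.H53.Conj
import Cfsg.Agent.H53.Irred

set_option autoImplicit false

namespace Cfsg.Agent.H53

open Cfsg
open scoped commutatorElement Pointwise

theorem isPClosed_of_mulEquiv {p : ℕ} {A B : Type*} [Group A] [Group B] (e : A ≃* B)
    (h : IsPClosed p A) : IsPClosed p B := by
  intro P
  have hle : (P : Subgroup B) ≤ e.toMonoidHom.range := by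
    rw [MonoidHom.range_eq_top.mpr e.surjective]; exact le_top
  have h1 : ((P : Subgroup B).comap e.toMonoidHom).Normal :=
    h (P.comapOfInjective e.toMonoidHom e.injective hle)
  have h2 : ((P : Subgroup B).comap e.toMonoidHom).map e.toMonoidHom = P :=
    Subgroup.map_comap_eq_self_of_surjective e.surjective _
  rw [← h2]
  exact h1.map e.toMonoidHom e.surjective

/-- A `p`-subgroup of a `p`-closed normal subgroup lies in `O_p` of the whole group. -/
theorem le_pCore_of_le_normal_isPClosed {p : ℕ} {K : Type*} [Group K] {N Q : Subgroup K}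
    [hN : N.Normal] (hcl : IsPClosed p ↥N) (hQN : Q ≤ N) (hQ : IsPGroup p ↥Q) : Q ≤ pCore p K := by
  have h1 : Q.subgroupOf N ≤ pCore p ↥N := isPClosed_le_pCore_of_isPGroup hcl hQ.comap_subtype
  have h2 := map_pCore_subtype_le_of_normal (p := p) N
  intro y hy
  exact h2 ⟨⟨y, hQN hy⟩, h1 (by rw [Subgroup.mem_subgroupOf]; exact hy), rfl⟩

/-- If every element of `D` has a `p`-power in `C` and some Sylow `p`-subgroup of `D` lies in `C`,
then `D ≤ C`. -/
theorem le_of_pow_mem_of_sylow_le {p : ℕ} [Fact p.Prime] {K : Type*} [Group K] [Finite K]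
    {D C : Subgroup K} (hpow : ∀ d ∈ D, ∃ k : ℕ, d ^ p ^ k ∈ C) (P : Sylow p ↥D)
    (hP : (P : Subgroup ↥D).map D.subtype ≤ C) : D ≤ C := by
  have h1 : pResidual p ↥D ≤ C.subgroupOf D := by
    apply pResidual_le_of_pow_mem
    intro g
    obtain ⟨k, hk⟩ := hpow g g.2
    exact ⟨k, by rw [Subgroup.mem_subgroupOf]; simpa using hk⟩
  have h2 : (P : Subgroup ↥D) ≤ C.subgroupOf D := by
    intro x hx
    rw [Subgroup.mem_subgroupOf]
    exact hP ⟨x, hx, rfl⟩
  have h3 : (⊤ : Subgroup ↥D) ≤ C.subgroupOf D := by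
    rw [← pResidual_sup_sylow P]
    exact sup_le h1 h2
  intro x hx
  have := h3 (Subgroup.mem_top (⟨x, hx⟩ : ↥D))
  rwa [Subgroup.mem_subgroupOf] at this

/-- In a `p`-irreducible group `K`, a normal subgroup `C` not containing `O^p(K)` and containing
`O_p(K)` has `O_p(K/C) = 1`. -/
theorem pCore_quotient_eq_bot_of_isPIrreducible {p : ℕ} [Fact p.Prime] {K : Type*} [Group K] [Finite K]
    (hK : IsPIrreducible p K) (C : Subgroup K) [hC : C.Normal] (hnc : ¬ pResidual p K ≤ C)
    (hO : pCore p K ≤ C) : pCore p (K ⧸ C) = ⊥ := by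
  set D := (pCore p (K ⧸ C)).comap (QuotientGroup.mk' C) with hD
  have hDn : D.Normal := Subgroup.Normal.comap (pCore_normal p (K ⧸ C)) _
  have hpow : ∀ d ∈ D, ∃ k : ℕ, d ^ p ^ k ∈ C := by
    intro d hd
    obtain ⟨k, hk⟩ := (pCore_isPGroup p (K ⧸ C)) ⟨QuotientGroup.mk' C d, hd⟩
    refine ⟨k, ?_⟩
    have hk' : (QuotientGroup.mk' C d) ^ p ^ k = 1 := by simpa using congrArg Subtype.val hk
    rw [← QuotientGroup.eq_one_iff]
    simpa using hk'
  have hDcl : IsPClosed p ↥D := by
    by_contra hncl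
    apply hnc
    have hle := hK.2 D hDn hncl
    unfold pResidual
    rw [Subgroup.closure_le]
    intro g hg
    have hg' : Nat.Coprime (orderOf g) p := hg
    obtain ⟨k, hk⟩ := hpow g (hle (mem_pResidual_of_coprime hg'))
    exact mem_of_pow_mem_of_coprime (Nat.Coprime.pow_left k hg'.symm) hk
  obtain ⟨P⟩ := (inferInstance : Nonempty (Sylow p ↥D))
  have hP : (P : Subgroup ↥D).map D.subtype ≤ C := by
    refine le_trans ?_ hO
    exact le_pCore_of_le_normal_isPClosed hDcl (Subgroup.map_subtype_le _) (P.isPGroup'.map _)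
  have hDC : D ≤ C := le_of_pow_mem_of_sylow_le hpow P hP
  rw [eq_bot_iff]
  intro x hx
  induction x using QuotientGroup.induction_on with
  | H g =>
    have hg : g ∈ D := hx
    rw [Subgroup.mem_bot, QuotientGroup.eq_one_iff]
    exact hDC hg

/-- `K.subgroupOf H` and `H ⊓ K` are isomorphic. -/
noncomputable def subgroupOfEquivInf {G : Type*} [Group G] (H K : Subgroup G) :
    ↥(K.subgroupOf H) ≃* ↥(H ⊓ K) :=
  (MulEquiv.subgroupCongr (Subgroup.inf_subgroupOf_left K H).symm).trans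
    (Subgroup.subgroupOfEquivOfLe (inf_le_left : H ⊓ K ≤ H))

theorem isPClosed_inf_of_subgroupOf {p : ℕ} {G : Type*} [Group G] (H K : Subgroup G)
    (h : IsPClosed p ↥(K.subgroupOf H)) : IsPClosed p ↥(H ⊓ K) :=
  isPClosed_of_mulEquiv (subgroupOfEquivInf H K) h

theorem isPClosed_subgroupOf_of_inf {p : ℕ} {G : Type*} [Group G] (H K : Subgroup G)
    (h : IsPClosed p ↥(H ⊓ K)) : IsPClosed p ↥(K.subgroupOf H) :=
  isPClosed_of_mulEquiv (subgroupOfEquivInf H K).symm h

end Cfsg.Agent.H53
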