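import Mathlib
import Cfsg.Prelude.Def_LocalStructure
import Cfsg.Agent.H53.Basic
import Cfsg.Agent.H53.PRes
import Cfsg.Agent.H53.Minimal
import Cfsg.Agent.H53.Conj
import Cfsg.Agent.H53.Irred
import Cfsg.Agent.H53.Closed

set_option autoImplicit false

namespace Cfsg.Agent.H53

open Cfsg
open scoped commutatorElement Pointwise

theorem isPClosed_of_surjective {p : ℕ} [Fact p.Prime] {A B : Type*} [Group A] [Group B] [Finite A]
    (f : A →* B) (hf : Function.Surjective f) (h : IsPClosed p A) : IsPClosed p B := by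
  have : Finite B := Finite.of_surjective f hf
  obtain ⟨P⟩ := (inferInstance : Nonempty (Sylow p A))
  rw [isPClosed_iff_exists_normal]
  refine ⟨P.mapSurjective hf, ?_⟩
  rw [Sylow.coe_mapSurjective]
  exact (h P).map f hf

theorem isPClosed_of_surjective_of_ker {p : ℕ} [Fact p.Prime] {A B : Type*} [Group A] [Group B]
    [Finite A] (f : A →* B) (hf : Function.Surjective f) (hker : IsPGroup p ↥f.ker)
    (h : IsPClosed p B) : IsPClosed p A := by
  have : Finite B := Finite.of_surjective f hf
  intro P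
  have h1 : ((P.mapSurjective hf : Sylow p B) : Subgroup B).Normal := h _
  rw [Sylow.coe_mapSurjective] at h1
  have h2 : ((P : Subgroup A).map f).comap f = P := by
    rw [Subgroup.comap_map_eq, sup_eq_left]
    exact hker.le_sylow_of_normal P
  rw [← h2]
  exact h1.comap f

theorem map_pResidual_of_surjective {p : ℕ} [Fact p.Prime] {A B : Type*} [Group A] [Group B]
    [Finite A] (f : A →* B) (hf : Function.Surjective f) :
    (pResidual p A).map f = pResidual p B := by
  apply le_antisymm
  · conv_lhs => unfold pResidual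
    rw [MonoidHom.map_closure, Subgroup.closure_le]
    rintro _ ⟨g, hg, rfl⟩
    have hg' : Nat.Coprime (orderOf g) p := hg
    exact mem_pResidual_of_coprime (Nat.Coprime.coprime_dvd_left (orderOf_map_dvd f g) hg')
  · apply pResidual_le_of_pow_mem
    intro x
    obtain ⟨g, rfl⟩ := hf x
    obtain ⟨k, hk⟩ := exists_pow_mem_pResidual (p := p) g
    exact ⟨k, ⟨g ^ p ^ k, hk, by simp⟩⟩

theorem comap_pCore_le {p : ℕ} {A B : Type*} [Group A] [Group B] (f : A →* B)
    (hker : IsPGroup p ↥f.ker) : (pCore p B).comap f ≤ pCore p A :=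
  le_pCore ((pCore_normal p B).comap f) ((pCore_isPGroup p B).comap_of_ker_isPGroup f hker)

theorem map_pCore_le {p : ℕ} {A B : Type*} [Group A] [Group B] (f : A →* B)
    (hf : Function.Surjective f) : (pCore p A).map f ≤ pCore p B :=
  le_pCore ((pCore_normal p A).map f hf) ((pCore_isPGroup p A).map f)

theorem map_pCore_of_surjective_of_ker {p : ℕ} {A B : Type*} [Group A] [Group B] (f : A →* B)
    (hf : Function.Surjective f) (hker : IsPGroup p ↥f.ker) : (pCore p A).map f = pCore p B := by
  apply le_antisymm (map_pCore_le f hf)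
  rw [← Subgroup.map_comap_eq_self_of_surjective hf (pCore p B)]
  exact Subgroup.map_mono (comap_pCore_le f hker)

theorem isPGroup_ker_subgroupMap {p : ℕ} {A B : Type*} [Group A] [Group B] (f : A →* B)
    (hker : IsPGroup p ↥f.ker) (N : Subgroup A) : IsPGroup p ↥(f.subgroupMap N).ker := by
  intro x
  have hx : ((x : ↥N) : A) ∈ f.ker := by
    have := x.2
    rw [MonoidHom.mem_ker] at this ⊢
    exact congrArg Subtype.val this
  obtain ⟨k, hk⟩ := hker ⟨_, hx⟩
  refine ⟨k, ?_⟩
  have hk' : ((x : ↥N) : A) ^ p ^ k = 1 := by simpa using congrArg Subtype.val hk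
  apply Subtype.ext
  apply Subtype.ext
  simpa using hk'

/-- The image of a `p`-closed subgroup is `p`-closed. -/
theorem isPClosed_map {p : ℕ} [Fact p.Prime] {A B : Type*} [Group A] [Group B] [Finite A]
    (f : A →* B) (N : Subgroup A) (h : IsPClosed p ↥N) : IsPClosed p ↥(N.map f) :=
  isPClosed_of_surjective (f.subgroupMap N) (f.subgroupMap_surjective N) h

/-- If the kernel is a `p`-group and the image of `N` is `p`-closed, then `N` is `p`-closed. -/
theorem isPClosed_of_map {p : ℕ} [Fact p.Prime] {A B : Type*} [Group A] [Group B] [Finite A]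
    (f : A →* B) (hker : IsPGroup p ↥f.ker) (N : Subgroup A) (h : IsPClosed p ↥(N.map f)) :
    IsPClosed p ↥N :=
  isPClosed_of_surjective_of_ker (f.subgroupMap N) (f.subgroupMap_surjective N)
    (isPGroup_ker_subgroupMap f hker N) h

/-- `O^p(A) ≤ N` as soon as `O^p(A) ≤ N ⊔ D` for a `p`-group `D` normalizing `N`. -/
theorem pResidual_le_of_le_sup {p : ℕ} {A : Type*} [Group A] {N D : Subgroup A}
    (hDN : D ≤ Subgroup.normalizer (N : Set A)) (hD : IsPGroup p ↥D) (h : pResidual p A ≤ N ⊔ D) :
    pResidual p A ≤ N := by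
  unfold pResidual
  rw [Subgroup.closure_le]
  intro g hg
  have hg' : Nat.Coprime (orderOf g) p := hg
  obtain ⟨k, hk⟩ := exists_pow_mem_of_mem_sup hDN hD (h (mem_pResidual_of_coprime hg'))
  exact mem_of_pow_mem_of_coprime (Nat.Coprime.pow_left k hg'.symm) hk

theorem irreducible_quotient_iff {H : Type*} [Group H] [Finite H] {p : ℕ} [Fact p.Prime]
    (D : Subgroup H) [hDn : D.Normal] (hD : IsPGroup p ↥D) :
    (Cfsg.IsPIrreducible p H ↔ Cfsg.IsPIrreducible p (H ⧸ D)) ∧
    (Cfsg.IsStronglyPIrreducible p H ↔ Cfsg.IsStronglyPIrreducible p (H ⧸ D)) := by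
  have hsurj : Function.Surjective (QuotientGroup.mk' D) := QuotientGroup.mk'_surjective D
  have hker : IsPGroup p ↥(QuotientGroup.mk' D).ker := by rw [QuotientGroup.ker_mk']; exact hD
  have hcl : IsPClosed p H ↔ IsPClosed p (H ⧸ D) :=
    ⟨isPClosed_of_surjective _ hsurj, isPClosed_of_surjective_of_ker _ hsurj hker⟩
  have hres : (pResidual p H).map (QuotientGroup.mk' D) = pResidual p (H ⧸ D) :=
    map_pResidual_of_surjective _ hsurj
  have hcore : (pCore p H).map (QuotientGroup.mk' D) = pCore p (H ⧸ D) :=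
    map_pCore_of_surjective_of_ker _ hsurj hker
  -- pulling back the conclusion
  have hback : ∀ N : Subgroup H, N.Normal → pResidual p (H ⧸ D) ≤ N.map (QuotientGroup.mk' D) →
      pResidual p H ≤ N := by
    intro N hN hle
    have hDN : D ≤ Subgroup.normalizer (N : Set H) := by
      rw [Subgroup.normalizer_eq_top_iff.mpr hN]; exact le_top
    apply pResidual_le_of_le_sup hDN hD
    have h1 : pResidual p H ≤ ((pResidual p H).map (QuotientGroup.mk' D)).comap (QuotientGroup.mk' D) :=
      Subgroup.le_comap_map _ _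
    rw [hres] at h1
    have h2 := h1.trans (Subgroup.comap_mono hle)
    rwa [Subgroup.comap_map_eq, QuotientGroup.ker_mk'] at h2
  have hfwd : ∀ N : Subgroup (H ⧸ D), pResidual p H ≤ N.comap (QuotientGroup.mk' D) →
      pResidual p (H ⧸ D) ≤ N := by
    intro N hle
    rw [← hres]
    exact Subgroup.map_le_iff_le_comap.mpr hle
  refine ⟨⟨?_, ?_⟩, ⟨?_, ?_⟩⟩
  · rintro ⟨h1, h2⟩
    refine ⟨fun h => h1 (hcl.mpr h), fun N hN hNc => hfwd N (h2 _ (hN.comap _) ?_)⟩
    intro hc
    apply hNc
    have := isPClosed_map (QuotientGroup.mk' D) _ hc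
    rwa [Subgroup.map_comap_eq_self_of_surjective hsurj] at this
  · rintro ⟨h1, h2⟩
    refine ⟨fun h => h1 (hcl.mp h), fun N hN hNc => hback N hN (h2 _ (hN.map _ hsurj) ?_)⟩
    intro hc
    exact hNc (isPClosed_of_map (QuotientGroup.mk' D) hker N hc)
  · rintro ⟨h1, h2⟩
    refine ⟨fun h => h1 (hcl.mpr h), fun N hN hNc => hfwd N (h2 _ (hN.comap _) ?_)⟩
    intro hc
    apply hNc
    have h3 := Subgroup.map_mono (f := QuotientGroup.mk' D) hc
    rw [Subgroup.map_commutator, Subgroup.map_comap_eq_self_of_surjective hsurj,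
      Subgroup.map_top_of_surjective _ hsurj, hcore] at h3
    exact h3
  · rintro ⟨h1, h2⟩
    refine ⟨fun h => h1 (hcl.mp h), fun N hN hNc => hback N hN (h2 _ (hN.map _ hsurj) ?_)⟩
    intro hc
    apply hNc
    have h3 : (⁅N, (⊤ : Subgroup H)⁆).map (QuotientGroup.mk' D) ≤ pCore p (H ⧸ D) := by
      rw [Subgroup.map_commutator, Subgroup.map_top_of_surjective _ hsurj]
      exact hc
    exact (Subgroup.map_le_iff_le_comap.mp h3).trans (comap_pCore_le _ hker)

end Cfsg.Agent.H53
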