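import Mathlib
import Cfsg.Prelude.Def_LocalStructure
import Cfsg.Agent.H53.POf

set_option autoImplicit false

namespace Cfsg.Agent.H53

open Cfsg
open scoped commutatorElement Pointwise

/-- In a finite `p`-group, a nontrivial normal subgroup contains a nontrivial central element. -/
theorem exists_central_of_normal {p : ℕ} [Fact p.Prime] {G : Type*} [Group G] [Finite G]
    (hG : IsPGroup p G) (N : Subgroup G) [N.Normal] (hN : N ≠ ⊥) :
    ∃ z ∈ N, z ≠ 1 ∧ ∀ g : G, g * z = z * g := by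
  have hG' : IsPGroup p (ConjAct G) := hG
  have hcard : p ∣ Nat.card ↥N := by
    rcases (hG.to_subgroup N).card_eq_or_dvd with h | h
    · exact absurd (Subgroup.card_eq_one.mp h) hN
    · exact h
  have h1 : (1 : ↥N) ∈ MulAction.fixedPoints (ConjAct G) ↥N := by
    intro g; exact smul_one g
  obtain ⟨b, hb, hb1⟩ := hG'.exists_fixed_point_of_prime_dvd_card_of_fixed_point (α := ↥N) hcard h1
  refine ⟨b, b.2, fun h => hb1 (Subtype.ext h.symm), fun g => ?_⟩
  have h2 := hb (ConjAct.toConjAct g)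
  have h3 := congrArg Subtype.val h2
  rw [ConjAct.Subgroup.val_conj_smul, ConjAct.smul_def, ConjAct.ofConjAct_toConjAct] at h3
  calc g * b = g * b * g⁻¹ * g := by group
    _ = b * g := by rw [h3]

/-- A `p`-group `Q` normalizing a nontrivial `p`-subgroup `P` centralizes a nontrivial element of it. -/
theorem exists_fixed_of_le_normalizer {p : ℕ} [Fact p.Prime] {H : Type*} [Group H] [Finite H]
    {P Q : Subgroup H} (hP : IsPGroup p ↥P) (hQ : IsPGroup p ↥Q) (hP1 : P ≠ ⊥)
    (hn : Q ≤ Subgroup.normalizer (P : Set H)) :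
    ∃ z ∈ P, z ≠ 1 ∧ ∀ x ∈ Q ⊔ P, x * z = z * x := by
  have hR : IsPGroup p ↥(Q ⊔ P : Subgroup H) := IsPGroup.to_sup_of_normal_right' hQ hP hn
  have hle : P ≤ Q ⊔ P := le_sup_right
  have hnorm : (P.subgroupOf (Q ⊔ P)).Normal :=
    (Subgroup.normal_subgroupOf_iff_le_normalizer hle).mpr (sup_le hn Subgroup.le_normalizer)
  have hne : P.subgroupOf (Q ⊔ P) ≠ ⊥ := by
    intro h
    rw [Subgroup.subgroupOf_eq_bot] at h
    exact hP1 (le_bot_iff.mp (h le_rfl hle))
  obtain ⟨z, hz, hz1, hzc⟩ := exists_central_of_normal hR (P.subgroupOf (Q ⊔ P)) hne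
  refine ⟨z, Subgroup.mem_subgroupOf.mp hz, fun h => hz1 (Subtype.ext h), fun x hx => ?_⟩
  exact congrArg Subtype.val (hzc ⟨x, hx⟩)

/-- Stability: if `a ^ n = 1`, the commutator `c = a x a⁻¹ x⁻¹` satisfies `c ^ m = 1` with `n, m`
coprime, and `a` commutes with `c`, then `a` commutes with `x`. -/
theorem commute_of_coprime_of_commute_commutator {G : Type*} [Group G] {a x : G} {n m : ℕ}
    (ha : a ^ n = 1) (hc : (a * x * a⁻¹ * x⁻¹) ^ m = 1) (hnm : n.Coprime m)
    (hcomm : Commute a (a * x * a⁻¹ * x⁻¹)) : Commute a x := by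
  set c := a * x * a⁻¹ * x⁻¹ with hcdef
  have key : ∀ k : ℕ, a ^ k * x * (a ^ k)⁻¹ = c ^ k * x := by
    intro k
    induction k with
    | zero => simp
    | succ k ih =>
      have e1 : a ^ (k + 1) * x * (a ^ (k + 1))⁻¹ = a * (a ^ k * x * (a ^ k)⁻¹) * a⁻¹ := by
        rw [pow_succ']; group
      rw [e1, ih]
      have e2 : a * (c ^ k * x) * a⁻¹ = (a * c ^ k) * (x * a⁻¹) := by group
      rw [e2, (hcomm.pow_right k).eq, pow_succ]
      have e3 : a * x * a⁻¹ = c * x := by rw [hcdef]; group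
      calc c ^ k * a * (x * a⁻¹) = c ^ k * (a * x * a⁻¹) := by group
        _ = c ^ k * c * x := by rw [e3]; group
  have h1 := key n
  rw [ha] at h1
  have h2 : c ^ n = 1 := by
    have : x = c ^ n * x := by simpa using h1
    exact (mul_eq_right.mp this.symm)
  have h3 : orderOf c ∣ n := orderOf_dvd_of_pow_eq_one h2
  have h4 : orderOf c ∣ m := orderOf_dvd_of_pow_eq_one hc
  have h5 : orderOf c = 1 := Nat.eq_one_of_dvd_coprimes hnm h3 h4
  have h6 : c = 1 := orderOf_eq_one_iff.mp h5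
  have h7 : a * x = x * a := by
    have : a * x * a⁻¹ * x⁻¹ = 1 := h6
    calc a * x = (a * x * a⁻¹ * x⁻¹) * (x * a) := by group
      _ = x * a := by rw [this, one_mul]
  exact h7

theorem eq_one_of_isPGroup_of_coprime {p : ℕ} {H : Type*} [Group H] {a : H} {A : Subgroup H}
    (hA : IsPGroup p ↥A) (ha : a ∈ A) (hco : (orderOf a).Coprime p) : a = 1 := by
  obtain ⟨k, hk⟩ := hA ⟨a, ha⟩
  have h1 : a ^ p ^ k = 1 := by
    have := congrArg Subtype.val hk
    simpa using this
  have h2 : orderOf a ∣ p ^ k := orderOf_dvd_of_pow_eq_one h1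
  have h3 : orderOf a = 1 := Nat.Coprime.eq_one_of_dvd (Nat.Coprime.pow_right k hco) h2
  exact orderOf_eq_one_iff.mp h3

theorem isPGroup_of_forall_coprime_eq_one {p : ℕ} [Fact p.Prime] {H : Type*} [Group H] [Finite H]
    {X : Subgroup H} (h : ∀ a ∈ X, (orderOf a).Coprime p → a = 1) : IsPGroup p ↥X := by
  intro g
  have hpos : 0 < orderOf (g : H) := orderOf_pos _
  obtain ⟨k, m, hm, hkm⟩ := Nat.exists_eq_pow_mul_and_not_dvd hpos.ne' p (Fact.out : p.Prime).ne_one
  refine ⟨k, ?_⟩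
  have h1 : orderOf ((g : H) ^ p ^ k) = m := by
    rw [orderOf_pow' _ (pow_ne_zero k (Fact.out : p.Prime).ne_zero), hkm,
      Nat.gcd_eq_right (Dvd.intro _ rfl), Nat.mul_div_cancel_left _ (pow_pos (Fact.out : p.Prime).pos k)]
  have h2 : (g : H) ^ p ^ k = 1 := by
    apply h _ (X.pow_mem g.2 _)
    rw [h1]
    exact (Nat.Coprime.symm ((Nat.Prime.coprime_iff_not_dvd Fact.out).mpr hm))
  exact Subtype.ext (by simpa using h2)

theorem cj_pCoreOf {p : ℕ} {G : Type*} [Group G] (g : G) (L : Subgroup G) :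
    cj(g, (pCoreOf p L)) = pCoreOf p (cj(g, L)) := by
  have key : ∀ (g : G) (L : Subgroup G), cj(g, (pCoreOf p L)) ≤ pCoreOf p (cj(g, L)) := by
    intro g L
    apply le_pCoreOf (cj_mono g (pCoreOf_le p L))
    · rw [← cj_normalizer]
      exact cj_mono g (le_normalizer_pCoreOf p L)
    · exact isPGroup_cj g (pCoreOf_isPGroup p L)
  apply le_antisymm (key g L)
  have := key g⁻¹ (cj(g, L))
  rw [cj_inv_cj] at this
  have h2 := cj_le_iff.mp this
  rwa [inv_inv] at h2

theorem pCoreOf_le_of_normal {p : ℕ} {G : Type*} [Group G] {K L : Subgroup G} (hKL : K ≤ L)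
    (hn : L ≤ Subgroup.normalizer (K : Set G)) : pCoreOf p K ≤ pCoreOf p L := by
  apply le_pCoreOf ((pCoreOf_le p K).trans hKL) _ (pCoreOf_isPGroup p K)
  intro l hl
  rw [mem_normalizer_iff_cj, cj_pCoreOf, cj_of_mem_normalizer (hn hl)]

/-- the normalizer of a subgroup normalizes its centralizer -/
theorem normalizer_le_normalizer_centralizer {G : Type*} [Group G] (P : Subgroup G) :
    Subgroup.normalizer (P : Set G) ≤
      Subgroup.normalizer ((Subgroup.centralizer (P : Set G) : Subgroup G) : Set G) := by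
  intro n hn
  rw [mem_normalizer_iff_cj, cj_centralizer, cj_of_mem_normalizer hn]

/-- Key step: for `Q` large and `Q ≤ L` with `O_p(L) ≠ 1`, the centralizer of `O_p(L)` is a
`p`-group. -/
theorem isLarge_centralizer_pCoreOf_isPGroup {p : ℕ} [Fact p.Prime] {H : Type*} [Group H] [Finite H]
    {Q : Subgroup H} (hL : IsLarge Q) (hQp : IsPGroup p ↥Q) {L : Subgroup H}
    (hQL : Q ≤ L) (hP1 : pCoreOf p L ≠ ⊥) :
    IsPGroup p ↥(Subgroup.centralizer ((pCoreOf p L : Subgroup H) : Set H)) := by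
  set P := pCoreOf p L with hPdef
  set X := Subgroup.centralizer (P : Set H) with hXdef
  have hPp : IsPGroup p ↥P := pCoreOf_isPGroup p L
  have hLP : L ≤ Subgroup.normalizer (P : Set H) := le_normalizer_pCoreOf p L
  have hQP : Q ≤ Subgroup.normalizer (P : Set H) := hQL.trans hLP
  -- a nontrivial element of `P` centralized by `Q`
  obtain ⟨z, hzP, hz1, hzc⟩ := exists_fixed_of_le_normalizer hPp hQp hP1 hQP
  have hzQ : Subgroup.zpowers z ≤ Subgroup.centralizer (Q : Set H) := by
    rw [Subgroup.zpowers_le]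
    rw [Subgroup.mem_centralizer_iff]
    intro q hq
    exact hzc q (Subgroup.mem_sup_left hq)
  have hz1' : Subgroup.zpowers z ≠ ⊥ := by
    intro h
    exact hz1 (Subgroup.zpowers_eq_bot.mp h)
  have hXQ : X ≤ Subgroup.normalizer (Q : Set H) := by
    refine le_trans ?_ (hL.2 _ hzQ hz1')
    refine le_trans ?_ (Subgroup.centralizer_le_normalizer _)
    apply Subgroup.centralizer_le
    intro y hy
    have : Subgroup.zpowers z ≤ P := by rw [Subgroup.zpowers_le]; exact hzP
    exact this hy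
  have hQX : Q ≤ Subgroup.normalizer (X : Set H) :=
    hQP.trans (normalizer_le_normalizer_centralizer P)
  -- `Q ⊓ X ≤ P`
  have hD : Q ⊓ X ≤ P := by
    have hK : L ⊓ X ≤ L := inf_le_left
    have hKn : L ≤ Subgroup.normalizer ((L ⊓ X : Subgroup H) : Set H) := by
      intro l hl
      rw [mem_normalizer_iff_cj, cj_inf, cj_eq_of_mem hl,
        cj_of_mem_normalizer ((hLP.trans (normalizer_le_normalizer_centralizer P)) hl)]
    have h1 : Q ⊓ X ≤ pCoreOf p (L ⊓ X) := by
      apply le_pCoreOf (inf_le_inf hQL le_rfl) _ (hQp.to_le inf_le_left)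
      intro k hk
      rw [mem_normalizer_iff_cj, cj_inf, cj_of_mem_normalizer (hXQ hk.2), cj_eq_of_mem hk.2]
    exact h1.trans (pCoreOf_le_of_normal hK hKn)
  apply isPGroup_of_forall_coprime_eq_one
  intro a ha hco
  -- `a` centralizes `Q`
  have haQ : a ∈ Subgroup.centralizer (Q : Set H) := by
    rw [Subgroup.mem_centralizer_iff]
    intro q hq
    have hcQ : a * q * a⁻¹ * q⁻¹ ∈ Q := by
      have h1 : a * q * a⁻¹ ∈ Q := by
        have := cj_of_mem_normalizer (hXQ ha)
        rw [← this]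
        exact conj_mem_cj hq
      exact Q.mul_mem h1 (Q.inv_mem hq)
    have hcX : a * q * a⁻¹ * q⁻¹ ∈ X := by
      have h1 : q * a⁻¹ * q⁻¹ ∈ X := by
        have := cj_of_mem_normalizer (hQX hq)
        rw [← this]
        exact conj_mem_cj (X.inv_mem ha)
      have := X.mul_mem ha h1
      have e : a * (q * a⁻¹ * q⁻¹) = a * q * a⁻¹ * q⁻¹ := by group
      rwa [e] at this
    have hcP : a * q * a⁻¹ * q⁻¹ ∈ P := hD ⟨hcQ, hcX⟩
    have hcomm : Commute a (a * q * a⁻¹ * q⁻¹) :=
      ((Subgroup.mem_centralizer_iff.mp ha) _ hcP).symm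
    obtain ⟨k, hk⟩ := hQp ⟨_, hcQ⟩
    have hk' : (a * q * a⁻¹ * q⁻¹) ^ p ^ k = 1 := by
      have := congrArg Subtype.val hk
      simpa using this
    have := commute_of_coprime_of_commute_commutator (pow_orderOf_eq_one a) hk'
      (Nat.Coprime.pow_right k hco) hcomm
    exact this.eq.symm
  exact eq_one_of_isPGroup_of_coprime hQp (hL.1 haQ) hco

/-- `L` has characteristic `p` (ambient form). -/
theorem isLarge_inf_centralizer_pCoreOf_le {p : ℕ} [Fact p.Prime] {H : Type*} [Group H] [Finite H]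
    {Q : Subgroup H} (hL : IsLarge Q) (hQp : IsPGroup p ↥Q) {L : Subgroup H}
    (hQL : Q ≤ L) (hP1 : pCoreOf p L ≠ ⊥) :
    L ⊓ Subgroup.centralizer ((pCoreOf p L : Subgroup H) : Set H) ≤ pCoreOf p L := by
  apply le_pCoreOf inf_le_left _
    ((isLarge_centralizer_pCoreOf_isPGroup hL hQp hQL hP1).to_le inf_le_right)
  intro l hl
  rw [mem_normalizer_iff_cj, cj_inf, cj_eq_of_mem hl,
    cj_of_mem_normalizer (((le_normalizer_pCoreOf p L).trans
      (normalizer_le_normalizer_centralizer _)) hl)]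

/-- Translate characteristic `p` from the ambient form to the subtype form. -/
theorem charP_subtype_of_ambient {p : ℕ} {H : Type*} [Group H] {L : Subgroup H}
    (h : L ⊓ Subgroup.centralizer ((pCoreOf p L : Subgroup H) : Set H) ≤ pCoreOf p L) :
    Subgroup.centralizer (pCore p ↥L : Set ↥L) ≤ pCore p ↥L := by
  intro x hx
  have h1 : (x : H) ∈ L ⊓ Subgroup.centralizer ((pCoreOf p L : Subgroup H) : Set H) := by
    refine Subgroup.mem_inf.mpr ⟨x.2, ?_⟩
    rw [Subgroup.mem_centralizer_iff]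
    rintro _ ⟨y, hy, rfl⟩
    have := (Subgroup.mem_centralizer_iff.mp hx) y hy
    exact congrArg Subtype.val this
  obtain ⟨hxL, hx'⟩ := mem_pCoreOf.mp (h h1)
  exact hx'

/-- Translate characteristic `p` from the subtype form to the ambient form. -/
theorem charP_ambient_of_subtype {p : ℕ} {H : Type*} [Group H] {L : Subgroup H}
    (h : Subgroup.centralizer (pCore p ↥L : Set ↥L) ≤ pCore p ↥L) :
    L ⊓ Subgroup.centralizer ((pCoreOf p L : Subgroup H) : Set H) ≤ pCoreOf p L := by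
  rintro x ⟨hxL, hxc⟩
  rw [mem_pCoreOf]
  refine ⟨hxL, h ?_⟩
  rw [Subgroup.mem_centralizer_iff]
  intro y hy
  have := (Subgroup.mem_centralizer_iff.mp hxc) (y : H) ⟨y, hy, rfl⟩
  exact Subtype.ext this

end Cfsg.Agent.H53
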