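import Mathlib
import Cfsg.Prelude.Def_LocalStructure
import Cfsg.Agent.H53.Large2

set_option autoImplicit false

namespace Cfsg.Agent.H53

open Cfsg
open scoped commutatorElement Pointwise

/-! ### Weak closure -/

theorem cj_le_weakClosure {H : Type*} [Group H] {Q L : Subgroup H} {g : H} (h : cj(g, Q) ≤ L) :
    cj(g, Q) ≤ weakClosure Q L :=
  le_iSup (fun g : {g : H // cj(g, Q) ≤ L} => cj((g : H), Q)) ⟨g, h⟩

theorem self_le_weakClosure {H : Type*} [Group H] {Q L : Subgroup H} (h : Q ≤ L) :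
    Q ≤ weakClosure Q L := by
  have h1 : cj(1, Q) ≤ L := by rw [cj_one]; exact h
  have := cj_le_weakClosure h1
  rwa [cj_one] at this

theorem weakClosure_le {H : Type*} [Group H] (Q L : Subgroup H) : weakClosure Q L ≤ L :=
  iSup_le (fun g => g.2)

theorem weakClosure_le_iff {H : Type*} [Group H] {Q L K : Subgroup H} :
    weakClosure Q L ≤ K ↔ ∀ g : H, cj(g, Q) ≤ L → cj(g, Q) ≤ K := by
  constructor
  · intro h g hg
    exact (cj_le_weakClosure hg).trans h
  · intro h
    exact iSup_le (fun g => h g.1 g.2)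

theorem isLarge_weakClosure {p : ℕ} [Fact p.Prime] {H : Type*} [Group H] [Finite H]
    {Q : Subgroup H} (hL : IsLarge Q) (hQp : IsPGroup p ↥Q) (hQ1 : Q ≠ ⊥) {L : Subgroup H}
    (hQL : Q ≤ L) :
    weakClosure Q L = Q ∨ Subgroup.centralizer ((weakClosure Q L : Subgroup H) : Set H) = ⊥ := by
  by_cases h : ∀ g : H, cj(g, Q) ≤ L → cj(g, Q) = Q
  · left
    exact le_antisymm (weakClosure_le_iff.mpr (fun g hg => (h g hg).le)) (self_le_weakClosure hQL)
  · right
    push Not at h
    obtain ⟨g, hgL, hgQ⟩ := h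
    have hg : g ∉ Subgroup.normalizer (Q : Set H) := fun hn => hgQ (cj_of_mem_normalizer hn)
    rw [← le_bot_iff, ← isLarge_centralizer_inf_eq_bot hL hQp hQ1 hg]
    exact le_inf (Subgroup.centralizer_le (self_le_weakClosure hQL))
      (Subgroup.centralizer_le (cj_le_weakClosure hgL))

theorem isLarge_parabolic {p : ℕ} [Fact p.Prime] {H : Type*} [Group H] [Finite H]
    {Q : Subgroup H} (hL : IsLarge Q) (hQp : IsPGroup p ↥Q) {R : Subgroup H}
    (hR : IsParabolic p R) (hP1 : pCoreOf p R ≠ ⊥) :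
    Subgroup.centralizer ((pCoreOf p R : Subgroup H) : Set H) ≤ pCoreOf p R := by
  obtain ⟨T, hT⟩ := hR
  obtain ⟨T', hT'⟩ := hQp.exists_le_sylow
  obtain ⟨g, rfl⟩ := MulAction.exists_smul_eq H T' T
  have hQ' : cj(g, Q) ≤ R := by
    refine le_trans ?_ hT
    rw [sylow_smul_eq_cj]; exact cj_mono g hT'
  have hL' := isLarge_cj hL g
  have hXp := isLarge_centralizer_pCoreOf_isPGroup hL' (isPGroup_cj g hQp) hQ' hP1
  have hRX : R ≤ Subgroup.normalizer
      ((Subgroup.centralizer ((pCoreOf p R : Subgroup H) : Set H) : Subgroup H) : Set H) :=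
    (le_normalizer_pCoreOf p R).trans (normalizer_le_normalizer_centralizer _)
  have hXT : Subgroup.centralizer ((pCoreOf p R : Subgroup H) : Set H) ≤ ((g • T' : Sylow p H) : Subgroup H) := by
    have hp := IsPGroup.to_sup_of_normal_left' hXp (g • T').isPGroup' (hT.trans hRX)
    have h2 := (g • T').is_maximal' hp le_sup_right
    calc Subgroup.centralizer ((pCoreOf p R : Subgroup H) : Set H)
        ≤ Subgroup.centralizer ((pCoreOf p R : Subgroup H) : Set H) ⊔ ((g • T' : Sylow p H) : Subgroup H) := le_sup_left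
      _ = _ := h2
  exact le_pCoreOf (hXT.trans hT) hRX hXp

theorem isLarge_parabolicChar {p : ℕ} [Fact p.Prime] {H : Type*} [Group H] [Finite H]
    {Q : Subgroup H} (hL : IsLarge Q) (hQp : IsPGroup p ↥Q) :
    IsOfParabolicCharacteristic p H := by
  intro R hRp hR1 hpar
  apply charP_subtype_of_ambient
  refine inf_le_right.trans (isLarge_parabolic hL hQp hpar ?_)
  intro h
  have : R ≤ pCoreOf p (Subgroup.normalizer (R : Set H)) :=
    le_pCoreOf Subgroup.le_normalizer le_rfl hRp
  rw [h] at this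
  exact hR1 (le_bot_iff.mp this)

end Cfsg.Agent.H53
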