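import Mathlib
import Cfsg.Prelude.Def_LocalStructure
import Cfsg.Agent.H53.Large3

set_option autoImplicit false

namespace Cfsg.Agent.H53

open Cfsg
open scoped commutatorElement Pointwise

theorem conj_mem_of_mem_normalizer {G : Type*} [Group G] {N : Subgroup G} {g n : G}
    (hg : g ∈ Subgroup.normalizer (N : Set G)) (hn : n ∈ N) : g * n * g⁻¹ ∈ N :=
  (Subgroup.mem_normalizer_iff.mp hg n).mp hn

theorem conj_mem_of_mem_normalizer' {G : Type*} [Group G] {N : Subgroup G} {g n : G}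
    (hg : g ∈ Subgroup.normalizer (N : Set G)) (hn : n ∈ N) : g⁻¹ * n * g ∈ N := by
  have := conj_mem_of_mem_normalizer (Subgroup.inv_mem _ hg) hn
  simpa using this

/-- The elements normalizing `N` and centralizing `H` modulo `N`. -/
def commSub {G : Type*} [Group G] (H N : Subgroup G) : Subgroup G where
  carrier := {c | c ∈ Subgroup.normalizer (N : Set G) ∧ ∀ z ∈ H, ⁅c, z⁆ ∈ N}
  one_mem' := ⟨Subgroup.one_mem _, fun z _ => by simp⟩
  mul_mem' := by
    rintro c₁ c₂ ⟨h1, h1'⟩ ⟨h2, h2'⟩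
    refine ⟨Subgroup.mul_mem _ h1 h2, fun z hz => ?_⟩
    have e : ⁅c₁ * c₂, z⁆ = c₁ * ⁅c₂, z⁆ * c₁⁻¹ * ⁅c₁, z⁆ := by
      simp only [commutatorElement_def]; group
    rw [e]
    exact N.mul_mem (conj_mem_of_mem_normalizer h1 (h2' z hz)) (h1' z hz)
  inv_mem' := by
    rintro c ⟨h1, h1'⟩
    refine ⟨Subgroup.inv_mem _ h1, fun z hz => ?_⟩
    have e : ⁅c⁻¹, z⁆ = c⁻¹ * ⁅c, z⁆⁻¹ * c := by
      simp only [commutatorElement_def]; group
    rw [e]
    exact conj_mem_of_mem_normalizer' h1 (N.inv_mem (h1' z hz))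

theorem mem_commSub {G : Type*} [Group G] {H N : Subgroup G} {c : G} :
    c ∈ commSub H N ↔ c ∈ Subgroup.normalizer (N : Set G) ∧ ∀ z ∈ H, ⁅c, z⁆ ∈ N := Iff.rfl

/-- **Three subgroups lemma** modulo a subgroup `N` normalized by all three. -/
theorem three_subgroups_mod {G : Type*} [Group G] {H₁ H₂ H₃ N : Subgroup G}
    (hN₁ : H₁ ≤ Subgroup.normalizer (N : Set G)) (hN₂ : H₂ ≤ Subgroup.normalizer (N : Set G))
    (hN₃ : H₃ ≤ Subgroup.normalizer (N : Set G))
    (h1 : ⁅⁅H₂, H₃⁆, H₁⁆ ≤ N) (h2 : ⁅⁅H₃, H₁⁆, H₂⁆ ≤ N) : ⁅⁅H₁, H₂⁆, H₃⁆ ≤ N := by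
  have key : ⁅H₁, H₂⁆ ≤ commSub H₃ N := by
    rw [Subgroup.commutator_le]
    intro x hx y hy
    have hxN := hN₁ hx
    have hyN := hN₂ hy
    refine ⟨?_, fun z hz => ?_⟩
    · rw [commutatorElement_def]
      exact Subgroup.mul_mem _ (Subgroup.mul_mem _ (Subgroup.mul_mem _ hxN hyN)
        (Subgroup.inv_mem _ hxN)) (Subgroup.inv_mem _ hyN)
    · have hzN := hN₃ hz
      have e : ⁅z, ⁅x, y⁆⁆ = (x * z) * ⁅y, ⁅z⁻¹, x⁻¹⁆⁆⁻¹ * (x * z)⁻¹ *
          ((x * y) * ⁅x⁻¹, ⁅y⁻¹, z⁆⁆⁻¹ * (x * y)⁻¹) := by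
        simp only [commutatorElement_def]; group
      rw [← commutatorElement_inv, Subgroup.inv_mem_iff, e]
      have n1 : ⁅y, ⁅z⁻¹, x⁻¹⁆⁆ ∈ N := by
        have := h2 (Subgroup.commutator_mem_commutator
          (Subgroup.commutator_mem_commutator (H₃.inv_mem hz) (H₁.inv_mem hx)) hy)
        rw [← commutatorElement_inv]
        exact N.inv_mem this
      have n2 : ⁅x⁻¹, ⁅y⁻¹, z⁆⁆ ∈ N := by
        have := h1 (Subgroup.commutator_mem_commutator
          (Subgroup.commutator_mem_commutator (H₂.inv_mem hy) hz) (H₁.inv_mem hx))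
        rw [← commutatorElement_inv]
        exact N.inv_mem this
      exact N.mul_mem
        (conj_mem_of_mem_normalizer (Subgroup.mul_mem _ hxN hzN) (N.inv_mem n1))
        (conj_mem_of_mem_normalizer (Subgroup.mul_mem _ hxN hyN) (N.inv_mem n2))
  rw [Subgroup.commutator_le]
  intro c hc z hz
  exact (key hc).2 z hz

theorem le_normalizer_commutator {G : Type*} [Group G] {K X Y : Subgroup G}
    (hX : K ≤ Subgroup.normalizer (X : Set G)) (hY : K ≤ Subgroup.normalizer (Y : Set G)) :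
    K ≤ Subgroup.normalizer ((⁅X, Y⁆ : Subgroup G) : Set G) := by
  intro k hk
  rw [mem_normalizer_iff_cj, cj_commutator, cj_of_mem_normalizer (hX hk),
    cj_of_mem_normalizer (hY hk)]

theorem le_normalizer_lcs {G : Type*} [Group G] {K A : Subgroup G}
    (hK : K ≤ Subgroup.normalizer (A : Set G)) (i : ℕ) :
    K ≤ Subgroup.normalizer ((A.lowerCentralSeries i : Subgroup G) : Set G) := by
  induction i with
  | zero => simpa using hK
  | succ i ih =>
    rw [Subgroup.lowerCentralSeries_succ]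
    exact le_normalizer_commutator ih hK

theorem lcs_comm_one {G : Type*} [Group G] (A : Subgroup G) (i : ℕ) :
    ⁅⁅A, A⁆, A.lowerCentralSeries i⁆ ≤ A.lowerCentralSeries (i + 2) := by
  have hA := A.self_le_normalizer_lowerCentralSeries (i + 2)
  apply three_subgroups_mod hA hA ((A.lowerCentralSeries_le_self i).trans hA)
  · rw [Subgroup.commutator_comm A (A.lowerCentralSeries i)]
    exact le_rfl
  · exact le_rfl

/-- If `K` normalizes `A` and centralizes `A / A'`, it centralizes every lower central factor. -/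
theorem lcs_stab {G : Type*} [Group G] {A K : Subgroup G}
    (hK : K ≤ Subgroup.normalizer (A : Set G)) (h : ⁅A, K⁆ ≤ ⁅A, A⁆) (i : ℕ) :
    ⁅A.lowerCentralSeries i, K⁆ ≤ A.lowerCentralSeries (i + 1) := by
  induction i with
  | zero => simpa using h
  | succ i ih =>
    have hA := A.self_le_normalizer_lowerCentralSeries (i + 2)
    show ⁅⁅A.lowerCentralSeries i, A⁆, K⁆ ≤ A.lowerCentralSeries (i + 2)
    apply three_subgroups_mod ((A.lowerCentralSeries_le_self i).trans hA) hA
      (le_normalizer_lcs hK (i + 2))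
    · exact (Subgroup.commutator_mono h le_rfl).trans (lcs_comm_one A i)
    · rw [Subgroup.commutator_comm K (A.lowerCentralSeries i)]
      exact Subgroup.commutator_mono ih le_rfl

/-- A `p'`-element of a group `K` normalizing the finite `p`-group `A` and centralizing `A / A'`
centralizes `A`. -/
theorem mem_centralizer_of_coprime_of_commutator_le {p : ℕ} [Fact p.Prime] {G : Type*} [Group G]
    [Finite G] {A K : Subgroup G} (hA : IsPGroup p ↥A)
    (hK : K ≤ Subgroup.normalizer (A : Set G)) (h : ⁅A, K⁆ ≤ ⁅A, A⁆) {a : G} (haK : a ∈ K)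
    (hco : (orderOf a).Coprime p) : a ∈ Subgroup.centralizer (A : Set G) := by
  have hnil : Group.IsNilpotent ↥A := hA.isNilpotent
  obtain ⟨n, hn⟩ := (Subgroup.isNilpotent_iff_lowerCentralSeries A).mp hnil
  have step : ∀ i : ℕ, (∀ x ∈ A.lowerCentralSeries (i + 1), Commute a x) →
      ∀ x ∈ A.lowerCentralSeries i, Commute a x := by
    intro i hi x hx
    have hc : a * x * a⁻¹ * x⁻¹ ∈ A.lowerCentralSeries (i + 1) := by
      have h1 : ⁅x, a⁆ ∈ A.lowerCentralSeries (i + 1) :=
        lcs_stab hK h i (Subgroup.commutator_mem_commutator hx haK)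
      have h2 : a * x * a⁻¹ * x⁻¹ = ⁅x, a⁆⁻¹ := by
        simp only [commutatorElement_def]; group
      rw [h2]
      exact Subgroup.inv_mem _ h1
    obtain ⟨k, hk⟩ := hA ⟨_, A.lowerCentralSeries_le_self (i + 1) hc⟩
    have hk' : (a * x * a⁻¹ * x⁻¹) ^ p ^ k = 1 := by
      have := congrArg Subtype.val hk
      simpa using this
    exact commute_of_coprime_of_commute_commutator (pow_orderOf_eq_one a) hk'
      (Nat.Coprime.pow_right k hco) (hi _ hc)
  have all : ∀ j : ℕ, j ≤ n → ∀ x ∈ A.lowerCentralSeries (n - j), Commute a x := by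
    intro j
    induction j with
    | zero =>
      intro _ x hx
      rw [Nat.sub_zero, hn, Subgroup.mem_bot] at hx
      rw [hx]; exact Commute.one_right a
    | succ j ih =>
      intro hj x hx
      apply step (n - (j + 1)) _ x hx
      have e : n - (j + 1) + 1 = n - j := by omega
      rw [e]
      exact ih (by omega)
  rw [Subgroup.mem_centralizer_iff]
  intro x hx
  have := all n le_rfl x (by simpa using hx)
  exact this.eq.symm

end Cfsg.Agent.H53
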