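import Mathlib
import Cfsg.Prelude.Def_LocalStructure
import Cfsg.Agent.H53.Stab

set_option autoImplicit false

namespace Cfsg.Agent.H53

open Cfsg
open scoped commutatorElement Pointwise

/-- A finite group in which every commutator with a `p'`-element lies in a normal `p`-subgroup is
`p`-closed. -/
theorem isPClosed_of_coprime_commutator_mem {p : ℕ} [Fact p.Prime] {C : Type*} [Group C] [Finite C]
    (E : Subgroup C) [hEn : E.Normal] (hE : IsPGroup p ↥E)
    (h : ∀ a : C, (orderOf a).Coprime p → ∀ g : C, a * g * a⁻¹ * g⁻¹ ∈ E) : IsPClosed p C := by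
  intro T
  have hET : E ≤ (T : Subgroup C) := (le_pCore hEn hE).trans (pCore_le_sylow T)
  have hres : pResidual p C ≤ Subgroup.normalizer ((T : Subgroup C) : Set C) := by
    unfold pResidual
    rw [Subgroup.closure_le]
    intro a ha
    show a ∈ Subgroup.normalizer ((T : Subgroup C) : Set C)
    rw [mem_normalizer_iff_cj]
    apply cj_eq_self_of_le_of_card
    intro x hx
    rw [mem_cj] at hx
    have e : x = (a * (a⁻¹ * x * a) * a⁻¹ * (a⁻¹ * x * a)⁻¹) * (a⁻¹ * x * a) := by group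
    rw [e]
    exact Subgroup.mul_mem _ (hET (h a ha _)) hx
  have htop : Subgroup.normalizer ((T : Subgroup C) : Set C) = ⊤ := by
    rw [eq_top_iff, ← pResidual_sup_sylow T]
    exact sup_le hres Subgroup.le_normalizer
  exact Subgroup.normalizer_eq_top_iff.mp htop

theorem conj_mem_commSub {G : Type*} [Group G] {H N : Subgroup G} {l c : G}
    (hlH : l ∈ Subgroup.normalizer (H : Set G)) (hlN : l ∈ Subgroup.normalizer (N : Set G))
    (hc : c ∈ commSub H N) : l * c * l⁻¹ ∈ commSub H N := by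
  refine ⟨Subgroup.mul_mem _ (Subgroup.mul_mem _ hlN hc.1) (Subgroup.inv_mem _ hlN), fun z hz => ?_⟩
  have e : ⁅l * c * l⁻¹, z⁆ = l * ⁅c, l⁻¹ * z * l⁆ * l⁻¹ := by
    simp only [commutatorElement_def]; group
  rw [e]
  exact conj_mem_of_mem_normalizer hlN (hc.2 _ (conj_mem_of_mem_normalizer' hlH hz))

/-- The criterion behind S2864: `Y ≤ O_p(L)` if `Y` centralizes `A / A'` for a normal `p`-subgroup
`A` of `L` and lies in `O_p` of a subgroup containing `C_L(A)`. -/
theorem le_pCoreOf_of_centralizer_le {p : ℕ} [Fact p.Prime] {G : Type*} [Group G] [Finite G]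
    {L A Y Md : Subgroup G} (hAp : IsPGroup p ↥A) (hLA : L ≤ Subgroup.normalizer (A : Set G))
    (hYL : Y ≤ L) (hc : ⁅Y, A⁆ ≤ ⁅A, A⁆)
    (hD : L ⊓ Subgroup.centralizer (A : Set G) ≤ Md) (hY : Y ≤ pCoreOf p Md) :
    Y ≤ pCoreOf p L := by
  set D := L ⊓ Subgroup.centralizer (A : Set G) with hDdef
  set E := pCoreOf p D with hEdef
  have hLD : L ≤ Subgroup.normalizer (D : Set G) := by
    intro l hl
    rw [mem_normalizer_iff_cj, cj_inf, cj_eq_of_mem hl, cj_centralizer, cj_of_mem_normalizer (hLA hl)]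
  have hLE : L ≤ Subgroup.normalizer (E : Set G) := by
    intro l hl
    rw [mem_normalizer_iff_cj, cj_pCoreOf, cj_of_mem_normalizer (hLD hl)]
  have hLA' : L ≤ Subgroup.normalizer ((⁅A, A⁆ : Subgroup G) : Set G) :=
    le_normalizer_commutator hLA hLA
  set C := L ⊓ commSub A ⁅A, A⁆ ⊓ commSub D E with hCdef
  have hCL : C ≤ L := inf_le_left.trans inf_le_left
  -- `Y ≤ C`
  have hDOm : D ⊓ pCoreOf p Md ≤ E := by
    apply le_pCoreOf inf_le_left _ ((pCoreOf_isPGroup p Md).to_le inf_le_right)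
    intro d hd
    rw [mem_normalizer_iff_cj, cj_inf, cj_eq_of_mem hd,
      cj_of_mem_normalizer (le_normalizer_pCoreOf p Md (hD hd))]
  have hYC : Y ≤ C := by
    intro y hy
    refine ⟨⟨hYL hy, hLA' (hYL hy), fun z hz => hc (Subgroup.commutator_mem_commutator hy hz)⟩,
      hLE (hYL hy), fun d hd => hDOm ⟨?_, ?_⟩⟩
    · rw [commutatorElement_def]
      exact D.mul_mem (conj_mem_of_mem_normalizer (hLD (hYL hy)) hd) (D.inv_mem hd)
    · have h1 : d * y⁻¹ * d⁻¹ ∈ pCoreOf p Md :=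
        conj_mem_of_mem_normalizer (le_normalizer_pCoreOf p Md (hD hd)) (Subgroup.inv_mem _ (hY hy))
      have e : ⁅y, d⁆ = y * (d * y⁻¹ * d⁻¹) := by rw [commutatorElement_def]; group
      rw [e]
      exact Subgroup.mul_mem _ (hY hy) h1
  -- `L` normalizes `C`
  have hLC : L ≤ Subgroup.normalizer (C : Set G) := by
    intro l hl
    rw [mem_normalizer_iff_cj]
    apply cj_eq_self_of_le_of_card
    intro x hx
    rw [mem_cj] at hx
    have e : x = l * (l⁻¹ * x * l) * l⁻¹ := by group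
    rw [e]
    obtain ⟨⟨h1, h2⟩, h3⟩ := hx
    exact ⟨⟨L.mul_mem (L.mul_mem hl h1) (L.inv_mem hl),
      conj_mem_commSub (hLA hl) (hLA' hl) h2⟩, conj_mem_commSub (hLD hl) (hLE hl) h3⟩
  -- `C` is `p`-closed
  have hCE : C ≤ Subgroup.normalizer ((E ⊓ C : Subgroup G) : Set G) := by
    intro c hc
    rw [mem_normalizer_iff_cj, cj_inf, cj_eq_of_mem hc, cj_of_mem_normalizer (hLE (hCL hc))]
  have hEn : (E.subgroupOf C).Normal := Subgroup.normal_subgroupOf_iff_le_normalizer_inf.mpr hCE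
  have hEp : IsPGroup p ↥(E.subgroupOf C) := (pCoreOf_isPGroup p D).comap_subtype
  have hAC : ⁅A, C⁆ ≤ ⁅A, A⁆ := by
    rw [Subgroup.commutator_le]
    intro x hx c hc
    rw [← commutatorElement_inv]
    exact Subgroup.inv_mem _ (hc.1.2.2 x hx)
  have hclosed : IsPClosed p ↥C := by
    apply isPClosed_of_coprime_commutator_mem (E.subgroupOf C) hEp
    intro a ha g
    rw [Subgroup.mem_subgroupOf]
    have ha' : (orderOf (a : G)).Coprime p := by rwa [Subgroup.orderOf_coe]
    have haA : (a : G) ∈ Subgroup.centralizer (A : Set G) :=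
      mem_centralizer_of_coprime_of_commutator_le hAp (hCL.trans hLA) hAC a.2 ha'
    have haD : (a : G) ∈ D := ⟨hCL a.2, haA⟩
    have h1 : ⁅(g : G), (a : G)⁆ ∈ E := g.2.2.2 _ haD
    have e : ((a * g * a⁻¹ * g⁻¹ : ↥C) : G) = ⁅(g : G), (a : G)⁆⁻¹ := by
      simp only [commutatorElement_def, Subgroup.coe_mul, Subgroup.coe_inv]; group
    rw [e]
    exact Subgroup.inv_mem _ h1
  have hYp : IsPGroup p ↥Y := (pCoreOf_isPGroup p Md).to_le hY
  have h2 : Y.subgroupOf C ≤ pCore p ↥C :=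
    isPClosed_le_pCore_of_isPGroup hclosed hYp.comap_subtype
  have h3 : Y ≤ pCoreOf p C := by
    intro y hy
    exact mem_pCoreOf.mpr ⟨hYC hy, h2 (Subgroup.mem_subgroupOf.mpr hy)⟩
  exact h3.trans (pCoreOf_le_of_normal hCL hLC)

/-! ### The families `𝓛_H`, `𝓜_H` and the basic property -/

theorem exists_maxCharP_ge {p : ℕ} {H : Type*} [Group H] [Finite H] {X : Subgroup H}
    (hX : X ∈ charPSubgroups p H) : ∃ X' ∈ maxCharPSubgroups p H, X ≤ X' := by
  obtain ⟨b, hab, hb⟩ := (Set.toFinite (charPSubgroups p H)).exists_le_maximal hX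
  exact ⟨b, ⟨hb.1, fun L hL hbL => le_antisymm (hb.2 hL hbL) hbL⟩, hab⟩

theorem mem_charPSubgroups_iff {p : ℕ} {H : Type*} [Group H] {X : Subgroup H} :
    X ∈ charPSubgroups p H ↔ pCoreOf p X ≠ ⊥ ∧
      Subgroup.centralizer ((pCoreOf p X : Subgroup H) : Set H) ≤ pCoreOf p X := by
  have h : pCoreOf p X ≠ ⊥ ↔ pCore p ↥X ≠ ⊥ := not_congr (pCoreOf_eq_bot_iff p X)
  rw [h]
  rfl

/-- In the setting of a large subgroup and `M ∈ 𝔐_G(S)`: the normalizer of a nontrivial `p`-subgroup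
normalized by `M` lies in `M† = M C_G(Y_M)`. -/
theorem isInFrakM_normalizer_le {p : ℕ} [Fact p.Prime] {G : Type*} [Group G] [Finite G]
    {S : Sylow p G} {Q : Subgroup G} (hQp : IsPGroup p ↥Q) (hQ : IsLarge Q) {M : Subgroup G}
    (hSM : (S : Subgroup G) ≤ M) (hM : IsInFrakM p M) {I : Subgroup G} (hI1 : I ≠ ⊥)
    (hIp : IsPGroup p ↥I) (hIM : M ≤ Subgroup.normalizer (I : Set G)) :
    Subgroup.normalizer (I : Set G) ≤
      M ⊔ Subgroup.centralizer ((largestPReducedOf p M : Subgroup G) : Set G) := by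
  have hpar : IsParabolic p (Subgroup.normalizer (I : Set G)) := ⟨S, hSM.trans hIM⟩
  have hne : pCoreOf p (Subgroup.normalizer (I : Set G)) ≠ ⊥ := by
    intro h
    have : I ≤ pCoreOf p (Subgroup.normalizer (I : Set G)) :=
      le_pCoreOf Subgroup.le_normalizer le_rfl hIp
    rw [h] at this
    exact hI1 (le_bot_iff.mp this)
  have hX : Subgroup.normalizer (I : Set G) ∈ charPSubgroups p G :=
    mem_charPSubgroups_iff.mpr ⟨hne, isLarge_parabolic hQ hQp hpar hne⟩
  obtain ⟨X', hX', hle⟩ := exists_maxCharP_ge hX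
  have := hM.2.2.1 X' hX' (hIM.trans hle)
  rw [← this]
  exact hle

end Cfsg.Agent.H53
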