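import Mathlib
import Cfsg.Prelude.Def_LocalStructure
import Cfsg.Agent.H53.FrakM

set_option autoImplicit false

namespace Cfsg.Agent.H53

open Cfsg
open scoped commutatorElement Pointwise

theorem mem_sup_of_le_normalizer {G : Type*} [Group G] {K N : Subgroup G}
    (h : K ≤ Subgroup.normalizer (N : Set G)) {g : G} (hg : g ∈ K ⊔ N) :
    ∃ a ∈ K, ∃ b ∈ N, g = a * b := by
  have hset := Subgroup.coe_mul_of_left_le_normalizer_right K N h
  have hg' : g ∈ ((K ⊔ N : Subgroup G) : Set G) := hg
  rw [hset] at hg'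
  obtain ⟨a, ha, b, hb, rfl⟩ := hg'
  exact ⟨a, ha, b, hb, rfl⟩

/-- For `Q` large normalizing the nontrivial `p`-group `Y`, `C(Y)` normalizes `Q`. -/
theorem isLarge_centralizer_le_normalizer {p : ℕ} [Fact p.Prime] {H : Type*} [Group H] [Finite H]
    {Q : Subgroup H} (hL : IsLarge Q) (hQp : IsPGroup p ↥Q) {Y : Subgroup H} (hYp : IsPGroup p ↥Y)
    (hY1 : Y ≠ ⊥) (hQY : Q ≤ Subgroup.normalizer (Y : Set H)) :
    Subgroup.centralizer (Y : Set H) ≤ Subgroup.normalizer (Q : Set H) := by
  obtain ⟨z, hzY, hz1, hzc⟩ := exists_fixed_of_le_normalizer hYp hQp hY1 hQY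
  have hzQ : Subgroup.zpowers z ≤ Subgroup.centralizer (Q : Set H) := by
    rw [Subgroup.zpowers_le, Subgroup.mem_centralizer_iff]
    intro q hq
    exact hzc q (Subgroup.mem_sup_left hq)
  have hz1' : Subgroup.zpowers z ≠ ⊥ := fun h => hz1 (Subgroup.zpowers_eq_bot.mp h)
  refine le_trans ?_ (hL.2 _ hzQ hz1')
  refine le_trans ?_ (Subgroup.centralizer_le_normalizer _)
  apply Subgroup.centralizer_le
  intro y hy
  have : Subgroup.zpowers z ≤ Y := by rw [Subgroup.zpowers_le]; exact hzY
  exact this hy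

theorem isLarge_weakClosure_centralizer {p : ℕ} [Fact p.Prime] {H : Type*} [Group H] [Finite H]
    {Q : Subgroup H} (hQp : IsPGroup p ↥Q) (hQ1 : Q ≠ ⊥) (hL : IsLarge Q) {L : Subgroup H}
    (hQL : Q ≤ L) {Y : Subgroup H} (hYp : IsPGroup p ↥Y) (hY1 : Y ≠ ⊥)
    (hLY : L ≤ Subgroup.normalizer (Y : Set H)) :
    weakClosure Q L = weakClosure Q (L ⊔ Subgroup.centralizer (Y : Set H)) ∧
    ⁅weakClosure Q L, Subgroup.centralizer (Y : Set H)⁆ ≤ pCoreOf p (weakClosure Q L) ∧
    Subgroup.centralizer (Y : Set H) ≤ Subgroup.normalizer ((weakClosure Q L : Subgroup H) : Set H) := by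
  have hNX : Subgroup.normalizer (Y : Set H) ≤
      Subgroup.normalizer ((Subgroup.centralizer (Y : Set H) : Subgroup H) : Set H) :=
    normalizer_le_normalizer_centralizer Y
  have hLX := hLY.trans hNX
  have hconj : ∀ g : H, cj(g, Q) ≤ Subgroup.normalizer (Y : Set H) →
      Subgroup.centralizer (Y : Set H) ≤ Subgroup.normalizer ((cj(g, Q) : Subgroup H) : Set H) :=
    fun g hg => isLarge_centralizer_le_normalizer (isLarge_cj hL g) (isPGroup_cj g hQp) hYp hY1 hg
  have huc := isLarge_uniqConj (p := p) hL hQ1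
  have h3 : Subgroup.centralizer (Y : Set H) ≤
      Subgroup.normalizer ((weakClosure Q L : Subgroup H) : Set H) := by
    intro x hx
    rw [mem_normalizer_iff_cj]
    apply cj_eq_self_of_le_of_card
    rw [cj_le_iff, weakClosure_le_iff]
    intro g hg
    rw [← cj_le_iff, cj_of_mem_normalizer (hconj g (hg.trans hLY) hx)]
    exact cj_le_weakClosure hg
  have h1 : weakClosure Q L = weakClosure Q (L ⊔ Subgroup.centralizer (Y : Set H)) := by
    apply le_antisymm
    · rw [weakClosure_le_iff]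
      intro g hg
      exact cj_le_weakClosure (hg.trans le_sup_left)
    · rw [weakClosure_le_iff]
      intro g hg
      obtain ⟨k, hk, hgk⟩ := huc.exists_conj_mem hQp (hQL.trans le_sup_left) hg
      obtain ⟨l, hl, x, hx, rfl⟩ := mem_sup_of_le_normalizer hLX hk
      have hxQ : cj(x, Q) = Q := by
        apply cj_of_mem_normalizer
        have := hconj 1 (by rw [cj_one]; exact hQL.trans hLY) hx
        rwa [cj_one] at this
      rw [hgk, ← cj_cj, hxQ]
      exact cj_le_weakClosure (cj_le_of_mem hl hQL)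
  have h2 : ⁅weakClosure Q L, Subgroup.centralizer (Y : Set H)⁆ ≤ pCoreOf p (weakClosure Q L) := by
    have hL0L : weakClosure Q L ≤ L := weakClosure_le Q L
    have hL0X := hL0L.trans hLX
    have hD : weakClosure Q L ≤ Subgroup.normalizer
        ((weakClosure Q L ⊓ Subgroup.centralizer (Y : Set H) : Subgroup H) : Set H) := by
      intro l hl
      rw [mem_normalizer_iff_cj, cj_inf, cj_eq_of_mem hl, cj_of_mem_normalizer (hL0X hl)]
    have key : weakClosure Q L ≤ commSub (Subgroup.centralizer (Y : Set H)) (pCoreOf p (weakClosure Q L)) := by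
      rw [weakClosure_le_iff]
      intro g hg
      have hgX := hconj g (hg.trans hLY)
      have hgL0 : cj(g, Q) ≤ weakClosure Q L := cj_le_weakClosure hg
      have hin : cj(g, Q) ⊓ Subgroup.centralizer (Y : Set H) ≤ pCoreOf p (weakClosure Q L) := by
        have h1 : cj(g, Q) ⊓ Subgroup.centralizer (Y : Set H) ≤
            pCoreOf p (weakClosure Q L ⊓ Subgroup.centralizer (Y : Set H)) := by
          apply le_pCoreOf (inf_le_inf hgL0 le_rfl) _ ((isPGroup_cj g hQp).to_le inf_le_left)
          intro d hd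
          rw [mem_normalizer_iff_cj, cj_inf, cj_of_mem_normalizer (hgX hd.2), cj_eq_of_mem hd.2]
        exact h1.trans (pCoreOf_le_of_normal inf_le_left hD)
      intro c hc
      refine ⟨le_normalizer_pCoreOf p _ (hgL0 hc), fun x hx => hin ⟨?_, ?_⟩⟩
      · have h5 : x * c⁻¹ * x⁻¹ ∈ cj(g, Q) :=
          conj_mem_of_mem_normalizer (hgX hx) (Subgroup.inv_mem _ hc)
        have e : ⁅c, x⁆ = c * (x * c⁻¹ * x⁻¹) := by rw [commutatorElement_def]; group
        rw [e]
        exact Subgroup.mul_mem _ hc h5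
      · have h5 : c * x * c⁻¹ ∈ Subgroup.centralizer (Y : Set H) :=
          conj_mem_of_mem_normalizer (hL0X (hgL0 hc)) hx
        rw [commutatorElement_def]
        exact Subgroup.mul_mem _ h5 (Subgroup.inv_mem _ hx)
    rw [Subgroup.commutator_le]
    intro c hc x hx
    exact (key hc).2 x hx
  exact ⟨h1, h2, h3⟩

end Cfsg.Agent.H53
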