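import Mathlib
import Cfsg.Prelude.Def_LocalStructure
import Cfsg.Agent.H53.Large4

set_option autoImplicit false

namespace Cfsg.Agent.H53

open Cfsg
open scoped commutatorElement Pointwise

/-- For `Q` weakly closed and `N ⊴ H`: `N = N_N(Q) [N, Q]`. -/
theorem UniqConj.normal_decomp {p : ℕ} [Fact p.Prime] {H : Type*} [Group H] [Finite H]
    {Q : Subgroup H} (h : UniqConj p Q) (hQ : IsPGroup p ↥Q) (N' : Subgroup H) [hN : N'.Normal] :
    ∀ n ∈ N', ∃ a ∈ N' ⊓ Subgroup.normalizer (Q : Set H), ∃ b ∈ ⁅N', Q⁆, n = a * b := by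
  intro n hn
  have hWN : ⁅N', Q⁆ ≤ N' := Subgroup.commutator_le_left N' Q
  have hQW : Q ≤ Subgroup.normalizer ((⁅N', Q⁆ : Subgroup H) : Set H) :=
    Subgroup.normalizer_commutator_ge_right N' Q
  have hN'W : N' ≤ Subgroup.normalizer ((⁅N', Q⁆ : Subgroup H) : Set H) :=
    Subgroup.normalizer_commutator_ge_left N' Q
  have hX : ∀ m ∈ N', cj(m, (Q ⊔ ⁅N', Q⁆)) = Q ⊔ ⁅N', Q⁆ := by
    intro m hm
    apply cj_eq_self_of_le_of_card
    rw [cj_sup, cj_of_mem_normalizer (hN'W hm)]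
    apply sup_le _ le_sup_right
    intro x hx
    rw [mem_cj] at hx
    have e : x = ⁅m, m⁻¹ * x * m⁆ * (m⁻¹ * x * m) := by rw [commutatorElement_def]; group
    rw [e]
    exact Subgroup.mul_mem _ (Subgroup.mem_sup_right (Subgroup.commutator_mem_commutator hm hx))
      (Subgroup.mem_sup_left hx)
  obtain ⟨x, hx, hxn⟩ := h.frattini hQ (le_sup_left : Q ≤ Q ⊔ ⁅N', Q⁆) (hX n⁻¹ (N'.inv_mem hn))
  have h1 : n * x ∈ Subgroup.normalizer (Q : Set H) := by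
    have := Subgroup.inv_mem _ hxn
    simpa [mul_inv_rev] using this
  obtain ⟨q, hq, w, hw, hxqw⟩ := mem_sup_of_le_normalizer hQW (Subgroup.inv_mem _ hx)
  have h2 : x * q = w⁻¹ := by
    have h3 : x * (q * w) = 1 := by rw [← hxqw]; simp
    calc x * q = x * (q * w) * w⁻¹ := by group
      _ = w⁻¹ := by rw [h3, one_mul]
  refine ⟨n * x * q, ⟨?_, ?_⟩, w, hw, ?_⟩
  · have e : n * x * q = n * w⁻¹ := by rw [mul_assoc, h2]
    rw [e]
    exact N'.mul_mem hn (N'.inv_mem (hWN hw))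
  · exact Subgroup.mul_mem _ h1 (Subgroup.le_normalizer hq)
  · rw [mul_assoc n x q, h2, mul_assoc, inv_mul_cancel, mul_one]

/-- For `Q` weakly closed and `N ⊴ H`: `[N, Q] = (Q ∩ [N, Q]) [N, Q, Q]`. -/
theorem UniqConj.commutator_decomp {p : ℕ} [Fact p.Prime] {H : Type*} [Group H] [Finite H]
    {Q : Subgroup H} (h : UniqConj p Q) (hQ : IsPGroup p ↥Q) (N' : Subgroup H) [hN : N'.Normal] :
    ∀ c ∈ ⁅N', Q⁆, ∃ a ∈ Q ⊓ ⁅N', Q⁆, ∃ b ∈ ⁅⁅N', Q⁆, Q⁆, c = a * b := by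
  have hWW₂ : ⁅N', Q⁆ ≤ Subgroup.normalizer ((⁅⁅N', Q⁆, Q⁆ : Subgroup H) : Set H) :=
    Subgroup.normalizer_commutator_ge_left ⁅N', Q⁆ Q
  have hN'W : N' ≤ Subgroup.normalizer ((⁅N', Q⁆ : Subgroup H) : Set H) :=
    Subgroup.normalizer_commutator_ge_left N' Q
  have hsub : Q ⊓ ⁅N', Q⁆ ≤ Subgroup.normalizer ((⁅⁅N', Q⁆, Q⁆ : Subgroup H) : Set H) :=
    inf_le_right.trans hWW₂
  have key : ⁅N', Q⁆ ≤ (Q ⊓ ⁅N', Q⁆) ⊔ ⁅⁅N', Q⁆, Q⁆ := by
    rw [Subgroup.commutator_le]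
    intro n hn q hq
    obtain ⟨a, ⟨haN, haQ⟩, b, hb, rfl⟩ := h.normal_decomp hQ N' n hn
    have e : ⁅a * b, q⁆ = a * ⁅b, q⁆ * a⁻¹ * ⁅a, q⁆ := by
      simp only [commutatorElement_def]; group
    rw [e]
    have haW₂ : a ∈ Subgroup.normalizer ((⁅⁅N', Q⁆, Q⁆ : Subgroup H) : Set H) := by
      rw [mem_normalizer_iff_cj, cj_commutator, cj_of_mem_normalizer (hN'W haN),
        cj_of_mem_normalizer haQ]
    refine Subgroup.mul_mem _ (Subgroup.mem_sup_right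
      (conj_mem_of_mem_normalizer haW₂ (Subgroup.commutator_mem_commutator hb hq)))
      (Subgroup.mem_sup_left ⟨?_, Subgroup.commutator_mem_commutator haN hq⟩)
    rw [commutatorElement_def]
    exact Q.mul_mem (conj_mem_of_mem_normalizer haQ hq) (Q.inv_mem hq)
  intro c hc
  exact mem_sup_of_le_normalizer hsub (key hc)

end Cfsg.Agent.H53
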