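import Mathlib
import Cfsg.Prelude.Def_LocalStructure
import Cfsg.Agent.H53.WC3

set_option autoImplicit false

namespace Cfsg.Agent.H53

open Cfsg
open scoped commutatorElement Pointwise

/-- Stability, packaged: a `p'`-element `a` commuting with its commutator `a x a⁻¹ x⁻¹`, which lies in
a `p`-group, commutes with `x`. -/
theorem commute_of_stab {p : ℕ} {G : Type*} [Group G] {a x : G} {A : Subgroup G}
    (hA : IsPGroup p ↥A) (hco : (orderOf a).Coprime p) (hc : a * x * a⁻¹ * x⁻¹ ∈ A)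
    (hcomm : Commute a (a * x * a⁻¹ * x⁻¹)) : Commute a x := by
  obtain ⟨k, hk⟩ := hA ⟨_, hc⟩
  have hk' : (a * x * a⁻¹ * x⁻¹) ^ p ^ k = 1 := by
    have := congrArg Subtype.val hk
    simpa using this
  exact commute_of_coprime_of_commute_commutator (pow_orderOf_eq_one a) hk'
    (Nat.Coprime.pow_right k hco) hcomm

/-- If `C_H(O_p(L))` normalizes `Q`, where `Q ≤ L` is a `p`-group with `C_H(Q) ≤ Q`, then
`[Q, C_H(O_p(L))] ≤ Q ∩ O_p(L)`, `C_H(O_p(L))` is a `p`-group and `L` has characteristic `p`. -/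
theorem charP_of_centralizer_le_normalizer {p : ℕ} [Fact p.Prime] {H : Type*} [Group H] [Finite H]
    {Q L : Subgroup H} (hQp : IsPGroup p ↥Q) (hCQ : Subgroup.centralizer (Q : Set H) ≤ Q)
    (hQL : Q ≤ L)
    (hXQ : Subgroup.centralizer ((pCoreOf p L : Subgroup H) : Set H) ≤ Subgroup.normalizer (Q : Set H)) :
    ⁅Q, Subgroup.centralizer ((pCoreOf p L : Subgroup H) : Set H)⁆ ≤ Q ⊓ pCoreOf p L ∧
    IsPGroup p ↥(Subgroup.centralizer ((pCoreOf p L : Subgroup H) : Set H)) ∧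
    L ⊓ Subgroup.centralizer ((pCoreOf p L : Subgroup H) : Set H) ≤ pCoreOf p L := by
  have hLP : L ≤ Subgroup.normalizer ((pCoreOf p L : Subgroup H) : Set H) := le_normalizer_pCoreOf p L
  have hPX := normalizer_le_normalizer_centralizer (pCoreOf p L)
  have hQX : Q ≤ Subgroup.normalizer
      ((Subgroup.centralizer ((pCoreOf p L : Subgroup H) : Set H) : Subgroup H) : Set H) :=
    hQL.trans (hLP.trans hPX)
  have hKn : L ≤ Subgroup.normalizer
      ((L ⊓ Subgroup.centralizer ((pCoreOf p L : Subgroup H) : Set H) : Subgroup H) : Set H) := by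
    intro l hl
    rw [mem_normalizer_iff_cj, cj_inf, cj_eq_of_mem hl, cj_of_mem_normalizer (hPX (hLP hl))]
  have hD : Q ⊓ Subgroup.centralizer ((pCoreOf p L : Subgroup H) : Set H) ≤ pCoreOf p L := by
    have h1 : Q ⊓ Subgroup.centralizer ((pCoreOf p L : Subgroup H) : Set H) ≤
        pCoreOf p (L ⊓ Subgroup.centralizer ((pCoreOf p L : Subgroup H) : Set H)) := by
      apply le_pCoreOf (inf_le_inf hQL le_rfl) _ (hQp.to_le inf_le_left)
      intro k hk
      rw [mem_normalizer_iff_cj, cj_inf, cj_of_mem_normalizer (hXQ hk.2), cj_eq_of_mem hk.2]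
    exact h1.trans (pCoreOf_le_of_normal inf_le_left hKn)
  have hi : ⁅Q, Subgroup.centralizer ((pCoreOf p L : Subgroup H) : Set H)⁆ ≤ Q ⊓ pCoreOf p L :=
    (commutator_le_inf_of_le_normalizer hQX hXQ).trans (le_inf inf_le_left hD)
  have hii : IsPGroup p ↥(Subgroup.centralizer ((pCoreOf p L : Subgroup H) : Set H)) := by
    apply isPGroup_of_forall_coprime_eq_one
    intro a ha hco
    have haQ : a ∈ Subgroup.centralizer (Q : Set H) := by
      rw [Subgroup.mem_centralizer_iff]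
      intro q hq
      have hc : a * q * a⁻¹ * q⁻¹ ∈ Q ⊓ pCoreOf p L := by
        have h1 : ⁅q, a⁆ ∈ Q ⊓ pCoreOf p L := hi (Subgroup.commutator_mem_commutator hq ha)
        have e : a * q * a⁻¹ * q⁻¹ = ⁅q, a⁆⁻¹ := by rw [commutatorElement_def]; group
        rw [e]
        exact Subgroup.inv_mem _ h1
      have hcomm : Commute a (a * q * a⁻¹ * q⁻¹) :=
        ((Subgroup.mem_centralizer_iff.mp ha) _ hc.2).symm
      exact (commute_of_stab hQp hco hc.1 hcomm).eq.symm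
    exact eq_one_of_isPGroup_of_coprime hQp (hCQ haQ) hco
  exact ⟨hi, hii, le_pCoreOf inf_le_left hKn (hii.to_le inf_le_right)⟩

/-- Key lemma for S2842: `p'`-elements of `[C_H(O_p(L)), Q]` are trivial, provided `Q` and
`C_H(O_p(L))` lie in a subgroup `H₁` of characteristic `p` (witnessed by `P₁`). -/
theorem eq_one_of_mem_commutator_of_coprime {p : ℕ} [Fact p.Prime] {H : Type*} [Group H] [Finite H]
    {Q L H₁ P₁ : Subgroup H} (huc : UniqConj p Q) (hQp : IsPGroup p ↥Q) (hQL : Q ≤ L)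
    (hP₁ : IsPGroup p ↥P₁) (hH₁P₁ : H₁ ≤ Subgroup.normalizer (P₁ : Set H))
    (hchar : H₁ ⊓ Subgroup.centralizer (P₁ : Set H) ≤ P₁) (hQH₁ : Q ≤ H₁)
    (hCH₁ : Subgroup.centralizer ((pCoreOf p L : Subgroup H) : Set H) ≤ H₁) {a : H}
    (ha : a ∈ ⁅Subgroup.centralizer ((pCoreOf p L : Subgroup H) : Set H), Q⁆)
    (hco : (orderOf a).Coprime p) : a = 1 := by
  set P := pCoreOf p L with hPdef
  set C := Subgroup.centralizer (P : Set H) with hCdef
  have hLP : L ≤ Subgroup.normalizer (P : Set H) := le_normalizer_pCoreOf p L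
  have hPC : Subgroup.normalizer (P : Set H) ≤ Subgroup.normalizer (C : Set H) :=
    normalizer_le_normalizer_centralizer P
  have hQC : Q ≤ Subgroup.normalizer (C : Set H) := hQL.trans (hLP.trans hPC)
  have hWC : ⁅C, Q⁆ ≤ C := Subgroup.le_normalizer_iff_commutator_le_left.mp hQC
  have haC : a ∈ C := hWC ha
  have hCG : C ≤ C ⊔ Q := le_sup_left
  have hQG : Q ≤ C ⊔ Q := le_sup_right
  have hGH₁ : C ⊔ Q ≤ H₁ := sup_le hCH₁ hQH₁
  have hGC : C ⊔ Q ≤ Subgroup.normalizer (C : Set H) := sup_le Subgroup.le_normalizer hQC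
  have hCpC : pCoreOf p C ≤ C := pCoreOf_le p C
  have hNCp : Subgroup.normalizer (C : Set H) ≤ Subgroup.normalizer ((pCoreOf p C : Subgroup H) : Set H) := by
    intro n hn
    rw [mem_normalizer_iff_cj, cj_pCoreOf, cj_of_mem_normalizer hn]
  have hQCp : Q ≤ Subgroup.normalizer ((pCoreOf p C : Subgroup H) : Set H) := hQC.trans hNCp
  -- `O_p(C)` normalizes `Q` and `[Q, O_p(C)] ≤ Z(P)`
  have hCpQ : pCoreOf p C ≤ Subgroup.normalizer (Q : Set H) := by
    have hp : IsPGroup p ↥(pCoreOf p C ⊔ Q : Subgroup H) :=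
      IsPGroup.to_sup_of_normal_left' (pCoreOf_isPGroup p C) hQp hQCp
    exact le_sup_left.trans (huc.le_normalizer hp le_sup_right)
  have h2 : ⁅Q, pCoreOf p C⁆ ≤ P ⊓ C := by
    refine (commutator_le_inf_of_le_normalizer hQCp hCpQ).trans ?_
    have h3 : L ⊓ pCoreOf p C ≤ P := by
      apply le_pCoreOf inf_le_left _ ((pCoreOf_isPGroup p C).to_le inf_le_right)
      intro l hl
      rw [mem_normalizer_iff_cj, cj_inf, cj_eq_of_mem hl,
        cj_of_mem_normalizer (hNCp (hPC (hLP hl)))]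
    exact le_inf ((inf_le_inf hQL le_rfl).trans h3) (inf_le_right.trans hCpC)
  have hCZ : C ≤ Subgroup.normalizer ((P ⊓ C : Subgroup H) : Set H) := by
    intro c hc
    rw [mem_normalizer_iff_cj, cj_inf,
      cj_of_mem_normalizer (Subgroup.centralizer_le_normalizer _ hc), cj_eq_of_mem hc]
  have hQZ : Q ≤ Subgroup.normalizer ((P ⊓ C : Subgroup H) : Set H) := by
    intro q hq
    rw [mem_normalizer_iff_cj, cj_inf, cj_of_mem_normalizer (hLP (hQL hq)),
      cj_of_mem_normalizer (hQC hq)]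
  have hZC : ⁅P ⊓ C, C⁆ = ⊥ := by
    rw [Subgroup.commutator_eq_bot_iff_le_centralizer]
    intro x hx
    rw [Subgroup.mem_centralizer_iff]
    intro c hc
    exact ((Subgroup.mem_centralizer_iff.mp hc) x hx.1).symm
  have h3a : ⁅⁅C, Q⁆, pCoreOf p C⁆ ≤ P ⊓ C := by
    apply three_subgroups_mod hCZ hQZ (hCpC.trans hCZ)
    · calc ⁅⁅Q, pCoreOf p C⁆, C⁆ ≤ ⁅P ⊓ C, C⁆ := Subgroup.commutator_mono h2 le_rfl
        _ = ⊥ := hZC
        _ ≤ _ := bot_le
    · have h5 : ⁅pCoreOf p C, C⁆ ≤ pCoreOf p C :=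
        Subgroup.le_normalizer_iff_commutator_le_left.mp (le_normalizer_pCoreOf p C)
      calc ⁅⁅pCoreOf p C, C⁆, Q⁆ ≤ ⁅pCoreOf p C, Q⁆ := Subgroup.commutator_mono h5 le_rfl
        _ = ⁅Q, pCoreOf p C⁆ := Subgroup.commutator_comm _ _
        _ ≤ _ := h2
  -- stability 1: `a` centralizes `O_p(C)`
  have hst1 : ∀ x ∈ pCoreOf p C, Commute a x := by
    intro x hx
    have hc' : a * x * a⁻¹ * x⁻¹ ∈ P ⊓ C := h3a (Subgroup.commutator_mem_commutator ha hx)
    have hcomm : Commute a (a * x * a⁻¹ * x⁻¹) :=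
      ((Subgroup.mem_centralizer_iff.mp haC) _ hc'.1).symm
    exact commute_of_stab (pCoreOf_isPGroup p L) hco hc'.1 hcomm
  -- stability 2: `a` centralizes `O_p(C Q)`
  have hRGC : pCoreOf p (C ⊔ Q) ⊓ C ≤ pCoreOf p C := by
    apply le_pCoreOf inf_le_right _ ((pCoreOf_isPGroup p (C ⊔ Q)).to_le inf_le_left)
    intro c hc
    rw [mem_normalizer_iff_cj, cj_inf,
      cj_of_mem_normalizer (le_normalizer_pCoreOf p (C ⊔ Q) (hCG hc)), cj_eq_of_mem hc]
  have hst2 : ∀ r ∈ pCoreOf p (C ⊔ Q), Commute a r := by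
    intro r hr
    have hrG : r ∈ C ⊔ Q := pCoreOf_le p (C ⊔ Q) hr
    have hc' : a * r * a⁻¹ * r⁻¹ ∈ pCoreOf p (C ⊔ Q) ⊓ C := by
      refine ⟨?_, ?_⟩
      · exact Subgroup.mul_mem _ (conj_mem_of_mem_normalizer
          (le_normalizer_pCoreOf p (C ⊔ Q) (hCG haC)) hr) (Subgroup.inv_mem _ hr)
      · have h5 : r * a⁻¹ * r⁻¹ ∈ C := conj_mem_of_mem_normalizer (hGC hrG) (C.inv_mem haC)
        have e : a * r * a⁻¹ * r⁻¹ = a * (r * a⁻¹ * r⁻¹) := by group
        rw [e]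
        exact C.mul_mem haC h5
    exact commute_of_stab (pCoreOf_isPGroup p (C ⊔ Q)) hco hc'.1 (hst1 _ (hRGC hc'))
  -- commutators of `[C, Q]` with `P₁` lie in `P₁ ∩ C Q`
  have hGP₁ : C ⊔ Q ≤ Subgroup.normalizer ((P₁ ⊓ (C ⊔ Q) : Subgroup H) : Set H) := by
    intro g hg
    rw [mem_normalizer_iff_cj, cj_inf, cj_of_mem_normalizer (hH₁P₁ (hGH₁ hg)), cj_eq_of_mem hg]
  have hP₁G : P₁ ⊓ (C ⊔ Q) ≤ pCoreOf p (C ⊔ Q) := le_pCoreOf inf_le_right hGP₁ (hP₁.to_le inf_le_left)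
  have hconjS : ∀ c ∈ C, cj(c, Q) ≤ commSub P₁ (P₁ ⊓ (C ⊔ Q)) := by
    intro c hc
    have hcQG : cj(c, Q) ≤ C ⊔ Q := cj_le_of_mem (hCG hc) hQG
    have hcQH₁ : cj(c, Q) ≤ H₁ := hcQG.trans hGH₁
    have hP₁N : P₁ ≤ Subgroup.normalizer ((cj(c, Q) : Subgroup H) : Set H) := by
      have hp : IsPGroup p ↥(P₁ ⊔ cj(c, Q) : Subgroup H) :=
        IsPGroup.to_sup_of_normal_left' hP₁ (isPGroup_cj c hQp) (hcQH₁.trans hH₁P₁)
      exact le_sup_left.trans ((huc.conj c).le_normalizer hp le_sup_right)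
    intro r hr
    refine ⟨hGP₁ (hcQG hr), fun z hz => ⟨?_, ?_⟩⟩
    · rw [commutatorElement_def]
      exact P₁.mul_mem (conj_mem_of_mem_normalizer (hH₁P₁ (hcQH₁ hr)) hz) (P₁.inv_mem hz)
    · have h5 : z * r⁻¹ * z⁻¹ ∈ cj(c, Q) :=
        conj_mem_of_mem_normalizer (hP₁N hz) (Subgroup.inv_mem _ hr)
      have e : ⁅r, z⁆ = r * (z * r⁻¹ * z⁻¹) := by rw [commutatorElement_def]; group
      rw [e]
      exact hcQG (Subgroup.mul_mem _ hr h5)
  have hWS : ⁅C, Q⁆ ≤ commSub P₁ (P₁ ⊓ (C ⊔ Q)) := by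
    rw [Subgroup.commutator_le]
    intro c hc q hq
    have h5 : c * q * c⁻¹ ∈ commSub P₁ (P₁ ⊓ (C ⊔ Q)) := hconjS c hc (conj_mem_cj hq)
    have h6 : q ∈ commSub P₁ (P₁ ⊓ (C ⊔ Q)) := by
      have := hconjS 1 C.one_mem
      rw [cj_one] at this
      exact this hq
    rw [commutatorElement_def]
    exact Subgroup.mul_mem _ h5 (Subgroup.inv_mem _ h6)
  have haP₁ : a ∈ Subgroup.centralizer (P₁ : Set H) := by
    rw [Subgroup.mem_centralizer_iff]
    intro z hz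
    have hc' : a * z * a⁻¹ * z⁻¹ ∈ P₁ ⊓ (C ⊔ Q) := (hWS ha).2 z hz
    exact (commute_of_stab hP₁ hco hc'.1 (hst2 _ (hP₁G hc'))).eq.symm
  exact eq_one_of_isPGroup_of_coprime hP₁ (hchar ⟨hCH₁ haC, haP₁⟩) hco

/-- `C_H(O_p(L))` normalizes `Q` in the situation of the previous lemma. -/
theorem centralizer_pCoreOf_le_normalizer {p : ℕ} [Fact p.Prime] {H : Type*} [Group H] [Finite H]
    {Q L H₁ P₁ : Subgroup H} (huc : UniqConj p Q) (hQp : IsPGroup p ↥Q) (hQL : Q ≤ L)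
    (hP₁ : IsPGroup p ↥P₁) (hH₁P₁ : H₁ ≤ Subgroup.normalizer (P₁ : Set H))
    (hchar : H₁ ⊓ Subgroup.centralizer (P₁ : Set H) ≤ P₁) (hQH₁ : Q ≤ H₁)
    (hCH₁ : Subgroup.centralizer ((pCoreOf p L : Subgroup H) : Set H) ≤ H₁) :
    Subgroup.centralizer ((pCoreOf p L : Subgroup H) : Set H) ≤ Subgroup.normalizer (Q : Set H) := by
  set C := Subgroup.centralizer ((pCoreOf p L : Subgroup H) : Set H) with hCdef
  have hW : IsPGroup p ↥(⁅C, Q⁆ : Subgroup H) :=
    isPGroup_of_forall_coprime_eq_one (fun a ha hco =>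
      eq_one_of_mem_commutator_of_coprime huc hQp hQL hP₁ hH₁P₁ hchar hQH₁ hCH₁ ha hco)
  have hQW : Q ≤ Subgroup.normalizer ((⁅C, Q⁆ : Subgroup H) : Set H) :=
    Subgroup.normalizer_commutator_ge_right C Q
  have hCW : C ≤ Subgroup.normalizer ((⁅C, Q⁆ : Subgroup H) : Set H) :=
    Subgroup.normalizer_commutator_ge_left C Q
  have hp : IsPGroup p ↥(⁅C, Q⁆ ⊔ Q : Subgroup H) := IsPGroup.to_sup_of_normal_left' hW hQp hQW
  refine le_trans ?_ (huc.normalizer_le hp le_sup_right)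
  intro c hc
  rw [mem_normalizer_iff_cj]
  apply cj_eq_self_of_le_of_card
  rw [cj_sup, cj_of_mem_normalizer (hCW hc)]
  apply sup_le le_sup_left
  intro x hx
  rw [mem_cj] at hx
  have e : x = ⁅c, c⁻¹ * x * c⁆ * (c⁻¹ * x * c) := by rw [commutatorElement_def]; group
  rw [e]
  exact Subgroup.mul_mem _ (Subgroup.mem_sup_left (Subgroup.commutator_mem_commutator hc hx))
    (Subgroup.mem_sup_right hx)

end Cfsg.Agent.H53
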