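import Mathlib
import Cfsg.Prelude.Def_LocalStructure
import Cfsg.Agent.H53.WC4

set_option autoImplicit false

namespace Cfsg.Agent.H53

open Cfsg
open scoped commutatorElement Pointwise

theorem map_conj_subgroupOf {H : Type*} [Group H] {K : Subgroup H} (k : ↥K) (Q : Subgroup H) :
    cj(k, (Q.subgroupOf K)) = (cj((k : H), Q)).subgroupOf K := by
  ext x
  rw [mem_cj, Subgroup.mem_subgroupOf, Subgroup.mem_subgroupOf, mem_cj]
  simp

theorem map_cj {G G' : Type*} [Group G] [Group G'] (f : G →* G') (g : G) (Q : Subgroup G) :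
    (cj(g, Q)).map f = cj((f g), (Q.map f)) := by
  rw [Subgroup.map_map, Subgroup.map_map]
  congr 1
  ext x
  simp

/-- A Sylow supplement: if every element of `K` has a `p`-power in `O`, then `K = T O` for a
`p`-subgroup `T` of `K` containing a given `p`-subgroup `A`. -/
theorem exists_sylow_supplement {p : ℕ} [Fact p.Prime] {H : Type*} [Group H] [Finite H]
    {K O A : Subgroup H} (hA : IsPGroup p ↥A) (hAK : A ≤ K)
    (hpow : ∀ g ∈ K, ∃ m : ℕ, g ^ p ^ m ∈ O) :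
    ∃ T : Subgroup H, IsPGroup p ↥T ∧ A ≤ T ∧ T ≤ K ∧ ∀ g ∈ K, ∃ t ∈ T, ∃ r ∈ O, g = t * r := by
  obtain ⟨T₁, hT₁⟩ := (hA.comap_subtype (K := K)).exists_le_sylow
  refine ⟨(T₁ : Subgroup ↥K).map K.subtype, T₁.isPGroup'.map _, ?_, Subgroup.map_subtype_le _, ?_⟩
  · intro a ha
    exact ⟨⟨a, hAK ha⟩, hT₁ (Subgroup.mem_subgroupOf.mpr ha), rfl⟩
  · intro g hg
    have hres : pResidual p ↥K ≤ O.subgroupOf K := by
      apply pResidual_le_of_pow_mem
      intro x
      obtain ⟨m, hm⟩ := hpow x x.2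
      exact ⟨m, by rw [Subgroup.mem_subgroupOf]; simpa using hm⟩
    have htop := pResidual_sup_sylow (p := p) T₁
    have hmem : (⟨g, hg⟩ : ↥K) ∈ (T₁ : Subgroup ↥K) ⊔ pResidual p ↥K := by
      rw [sup_comm, htop]; trivial
    obtain ⟨t, ht, r, hr, hgtr⟩ := mem_sup_of_le_normalizer
      (Subgroup.le_normalizer_of_normal) hmem
    refine ⟨t, ⟨t, ht, rfl⟩, r, Subgroup.mem_subgroupOf.mp (hres hr), ?_⟩
    have := congrArg Subtype.val hgtr
    simpa using this

/-- `Q.subgroupOf K` is weakly closed in `K`. -/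
theorem UniqConj.subgroupOf {p : ℕ} {H : Type*} [Group H] {Q : Subgroup H} (h : UniqConj p Q)
    {K : Subgroup H} (hQK : Q ≤ K) : UniqConj p (Q.subgroupOf K) := by
  intro R hR hQR k hk
  rw [map_conj_subgroupOf] at hk ⊢
  have hRp : IsPGroup p ↥(R.map K.subtype) := hR.map _
  have hQR' : Q ≤ R.map K.subtype := by
    intro q hq
    exact ⟨⟨q, hQK hq⟩, hQR (Subgroup.mem_subgroupOf.mpr hq), rfl⟩
  have hk' : cj((k : H), Q) ≤ R.map K.subtype := by
    intro x hx
    have hxK : x ∈ K := cj_le_of_mem k.2 hQK hx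
    exact ⟨⟨x, hxK⟩, hk (Subgroup.mem_subgroupOf.mpr hx), rfl⟩
  rw [h _ hRp hQR' _ hk']

/-- `N_K(Q)` contains a Sylow `p`-subgroup of `K`. -/
theorem UniqConj.isParabolic_normalizer {p : ℕ} [Fact p.Prime] {H : Type*} [Group H] [Finite H]
    {Q : Subgroup H} (h : UniqConj p Q) (hQ : IsPGroup p ↥Q) {K : Subgroup H} (hQK : Q ≤ K) :
    IsParabolic p ((Subgroup.normalizer (Q : Set H)).subgroupOf K) := by
  obtain ⟨T, hT⟩ := (hQ.comap_subtype (K := K)).exists_le_sylow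
  refine ⟨T, ?_⟩
  intro x hx
  rw [Subgroup.mem_subgroupOf]
  have hQT : Q ≤ (T : Subgroup ↥K).map K.subtype := by
    intro q hq
    exact ⟨⟨q, hQK hq⟩, hT (Subgroup.mem_subgroupOf.mpr hq), rfl⟩
  exact h.le_normalizer (T.isPGroup'.map _) hQT ⟨x, hx, rfl⟩

/-- `N = N_N(Q) O^p(N)` for `N ⊴ H`. -/
theorem UniqConj.normal_inf_normalizer_sup_pResidual {p : ℕ} [Fact p.Prime] {H : Type*} [Group H]
    [Finite H] {Q : Subgroup H} (h : UniqConj p Q) (hQ : IsPGroup p ↥Q) (N' : Subgroup H)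
    [hN : N'.Normal] :
    (N' ⊓ Subgroup.normalizer (Q : Set H)) ⊔ (pResidual p ↥N').map N'.subtype = N' := by
  apply le_antisymm (sup_le inf_le_left (Subgroup.map_subtype_le _))
  intro n hn
  have hQN : Q ≤ Subgroup.normalizer (N' : Set H) := by
    rw [Subgroup.normalizer_eq_top_iff.mpr hN]; exact le_top
  have hpow : ∀ g ∈ N' ⊔ Q, ∃ m : ℕ, g ^ p ^ m ∈ (pResidual p ↥N').map N'.subtype := by
    intro g hg
    obtain ⟨m, hm⟩ := exists_pow_mem_of_mem_sup hQN hQ hg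
    obtain ⟨k, hk⟩ := exists_pow_mem_pResidual (p := p) (⟨g ^ p ^ m, hm⟩ : ↥N')
    refine ⟨m + k, ?_⟩
    rw [pow_add, pow_mul]
    exact ⟨_, hk, by simp⟩
  obtain ⟨T, hTp, hQT, hTK, hsup⟩ := exists_sylow_supplement hQ (le_sup_right : Q ≤ N' ⊔ Q) hpow
  obtain ⟨t, ht, r, hr, rfl⟩ := hsup n (Subgroup.mem_sup_left hn)
  have hrN : r ∈ N' := Subgroup.map_subtype_le _ hr
  have htN : t ∈ N' := by
    have := N'.mul_mem hn (N'.inv_mem hrN)
    simpa using this
  exact Subgroup.mul_mem _ (Subgroup.mem_sup_left ⟨htN, h.le_normalizer hTp hQT ht⟩)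
    (Subgroup.mem_sup_right hr)

/-- The image of a weakly closed subgroup in a quotient is weakly closed. -/
theorem UniqConj.map_mk {p : ℕ} [Fact p.Prime] {H : Type*} [Group H] [Finite H]
    {Q : Subgroup H} (h : UniqConj p Q) (hQ : IsPGroup p ↥Q) (N' : Subgroup H) [hN : N'.Normal] :
    UniqConj p (Q.map (QuotientGroup.mk' N')) := by
  intro Rb hRb hQRb gb hgb
  obtain ⟨g, rfl⟩ := QuotientGroup.mk'_surjective N' gb
  rw [← map_cj] at hgb ⊢
  have hQR : Q ≤ Rb.comap (QuotientGroup.mk' N') := by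
    intro q hq
    exact hQRb ⟨q, hq, rfl⟩
  have hgR : cj(g, Q) ≤ Rb.comap (QuotientGroup.mk' N') := by
    intro x hx
    exact hgb ⟨x, hx, rfl⟩
  have hpow : ∀ r ∈ Rb.comap (QuotientGroup.mk' N'), ∃ m : ℕ, r ^ p ^ m ∈ N' := by
    intro r hr
    obtain ⟨m, hm⟩ := hRb ⟨QuotientGroup.mk' N' r, hr⟩
    refine ⟨m, ?_⟩
    have h1 := congrArg Subtype.val hm
    rw [← QuotientGroup.eq_one_iff]
    simpa using h1
  obtain ⟨T, hTp, hQT, hTR, hsup⟩ := exists_sylow_supplement hQ hQR hpow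
  obtain ⟨k, hk, hgk⟩ := h.exists_conj_mem hQ hQR hgR
  obtain ⟨t, ht, n, hn, rfl⟩ := hsup k hk
  have hn1 : (QuotientGroup.mk' N') n = 1 := (QuotientGroup.eq_one_iff n).mpr hn
  rw [hgk, map_cj, map_mul, hn1, mul_one, ← map_cj, cj_of_mem_normalizer (h.le_normalizer hTp hQT ht)]

/-! ### The weak closure as subnormal closure -/

theorem UniqConj.weakClosure_eq_iSup {p : ℕ} [Fact p.Prime] {H : Type*} [Group H] [Finite H]
    {Q : Subgroup H} (h : UniqConj p Q) (hQ : IsPGroup p ↥Q) {K : Subgroup H} (hQK : Q ≤ K) :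
    weakClosure Q K = ⨆ k : ↥K, cj((k : H), Q) := by
  apply le_antisymm
  · rw [weakClosure_le_iff]
    intro g hg
    obtain ⟨k, hk, hgk⟩ := h.exists_conj_mem hQ hQK hg
    rw [hgk]
    exact le_iSup (fun k : ↥K => cj((k : H), Q)) ⟨k, hk⟩
  · exact iSup_le (fun k => cj_le_weakClosure (cj_le_of_mem k.2 hQK))

theorem le_normalizer_weakClosure {H : Type*} [Group H] [Finite H] (Q K : Subgroup H) :
    K ≤ Subgroup.normalizer ((weakClosure Q K : Subgroup H) : Set H) := by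
  intro k hk
  rw [mem_normalizer_iff_cj]
  apply cj_eq_self_of_le_of_card
  rw [cj_le_iff, weakClosure_le_iff]
  intro g hg
  rw [← cj_le_iff, cj_cj]
  apply cj_le_weakClosure
  rw [← cj_cj]
  exact cj_le_of_mem hk hg

theorem UniqConj.conj_le_of_isSubnormal {p : ℕ} [Fact p.Prime] {H : Type*} [Group H] [Finite H]
    {Q : Subgroup H} (h : UniqConj p Q) (hQ : IsPGroup p ↥Q) {K : Subgroup H} (hQK : Q ≤ K)
    {S' : Subgroup ↥K} (hS : S'.IsSubnormal) :
    Q.subgroupOf K ≤ S' → ∀ k : ↥K, cj((k : H), Q) ≤ S'.map K.subtype := by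
  induction hS with
  | top =>
    intro _ k
    rw [← MonoidHom.range_eq_map, Subgroup.range_subtype]
    exact cj_le_of_mem k.2 hQK
  | step S₁ S₂ h_le hSubn hN ih =>
    intro hQS k
    have h2 := ih (hQS.trans h_le) k
    have hQS₁ : Q ≤ S₁.map K.subtype := by
      intro q hq
      exact ⟨⟨q, hQK hq⟩, hQS (Subgroup.mem_subgroupOf.mpr hq), rfl⟩
    have hS₁₂ : S₁.map K.subtype ≤ S₂.map K.subtype := Subgroup.map_mono h_le
    obtain ⟨s, hs, hks⟩ := h.exists_conj_mem hQ (hQS₁.trans hS₁₂) h2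
    rw [hks]
    obtain ⟨s', hs', rfl⟩ := hs
    intro x hx
    rw [mem_cj] at hx
    obtain ⟨y, hy, hyx⟩ := hQS₁ hx
    have hconj := hN.conj_mem ⟨y, h_le hy⟩ (Subgroup.mem_subgroupOf.mpr hy) ⟨s', hs'⟩
    rw [Subgroup.mem_subgroupOf] at hconj
    refine ⟨s' * y * s'⁻¹, by simpa using hconj, ?_⟩
    have e : K.subtype (s' * y * s'⁻¹) = K.subtype s' * K.subtype y * (K.subtype s')⁻¹ := by simp
    rw [e, hyx]
    group

theorem UniqConj.weakClosure_eq_subnormalClosure {p : ℕ} [Fact p.Prime] {H : Type*} [Group H]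
    [Finite H] {Q : Subgroup H} (h : UniqConj p Q) (hQ : IsPGroup p ↥Q) {K : Subgroup H}
    (hQK : Q ≤ K) :
    weakClosure Q K = (subnormalClosure (Q.subgroupOf K)).map K.subtype := by
  apply le_antisymm
  · rw [h.weakClosure_eq_iSup hQ hQK]
    apply iSup_le
    intro k x hx
    have hxK : x ∈ K := cj_le_of_mem k.2 hQK hx
    refine ⟨⟨x, hxK⟩, ?_, rfl⟩
    unfold subnormalClosure
    rw [SetLike.mem_coe, Subgroup.mem_sInf]
    rintro S' ⟨hQS, hS⟩
    obtain ⟨y, hy, hyx⟩ := h.conj_le_of_isSubnormal hQ hQK hS hQS k hx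
    have : y = ⟨x, hxK⟩ := Subtype.ext hyx
    rwa [← this]
  · have hn : ((weakClosure Q K).subgroupOf K).Normal :=
      (Subgroup.normal_subgroupOf_iff_le_normalizer (weakClosure_le Q K)).mpr
        (le_normalizer_weakClosure Q K)
    have h1 : subnormalClosure (Q.subgroupOf K) ≤ (weakClosure Q K).subgroupOf K := by
      apply sInf_le
      refine ⟨?_, hn.isSubnormal⟩
      intro x hx
      rw [Subgroup.mem_subgroupOf] at hx ⊢
      exact self_le_weakClosure hQK hx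
    rintro _ ⟨y, hy, rfl⟩
    exact Subgroup.mem_subgroupOf.mp (h1 hy)

end Cfsg.Agent.H53
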