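import Mathlib
import Cfsg.Prelude.Def_LocalStructure
import Cfsg.Agent.H53.WC5

set_option autoImplicit false

namespace Cfsg.Agent.H53

open Cfsg
open scoped commutatorElement Pointwise IsMulCommutative

/-- For `g = t r` with `t ∈ T` and `r ∈ O^p(H)`, and `z ∈ V` centralized by `T`:
`g z g⁻¹ z⁻¹ ∈ [V, O^p(H)]`. -/
theorem conj_mul_inv_mem_commutator_pResidual {p : ℕ} [Fact p.Prime] {H : Type*} [Group H] [Finite H]
    (T : Sylow p H) (V : Subgroup H) [hVn : V.Normal] {z : H} (hzV : z ∈ V)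
    (hzT : z ∈ Subgroup.centralizer ((T : Subgroup H) : Set H)) (g : H) :
    g * z * g⁻¹ * z⁻¹ ∈ ⁅V, pResidual p H⁆ := by
  have hmem : g ∈ (T : Subgroup H) ⊔ pResidual p H := by
    rw [sup_comm, pResidual_sup_sylow T]; trivial
  obtain ⟨t, ht, r, hr, rfl⟩ := mem_sup_of_le_normalizer Subgroup.le_normalizer_of_normal hmem
  have hc := (Subgroup.mem_centralizer_iff.mp hzT) t ht
  have hn : (⁅V, pResidual p H⁆).Normal := inferInstance
  have h1 : r * z * r⁻¹ * z⁻¹ ∈ ⁅V, pResidual p H⁆ := by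
    rw [Subgroup.commutator_comm]
    exact Subgroup.commutator_mem_commutator hr hzV
  have h2 := hn.conj_mem _ h1 t
  have hc' : z⁻¹ * t⁻¹ = t⁻¹ * z⁻¹ := by rw [← mul_inv_rev, ← mul_inv_rev, hc]
  have e : t * r * z * (t * r)⁻¹ * z⁻¹ = t * (r * z * r⁻¹ * z⁻¹) * t⁻¹ := by
    calc t * r * z * (t * r)⁻¹ * z⁻¹ = t * r * z * r⁻¹ * (t⁻¹ * z⁻¹) := by group
      _ = t * r * z * r⁻¹ * (z⁻¹ * t⁻¹) := by rw [hc']
      _ = _ := by group
  rw [e]
  exact h2

/-- **Trace decomposition.** Let `V` be an abelian normal subgroup of the finite group `H`, `T` a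
Sylow `p`-subgroup and `z ∈ C_V(T)` with `z ^ p = 1`. Then `z = c w` with `c ∈ V` central in `H`,
`c ^ p = 1`, and `w ∈ [V, O^p(H)]`. -/
theorem trace_decomp {p : ℕ} [Fact p.Prime] {H : Type*} [Group H] [Finite H] (T : Sylow p H)
    (V : Subgroup H) [hVn : V.Normal] [hVc : IsMulCommutative ↥V] {z : H} (hzV : z ∈ V)
    (hzT : z ∈ Subgroup.centralizer ((T : Subgroup H) : Set H)) (hzp : z ^ p = 1) :
    ∃ c ∈ V, (∀ h : H, h * c = c * h) ∧ c ^ p = 1 ∧ ∃ w ∈ ⁅V, pResidual p H⁆, z = c * w := by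
  classical
  have hfin : Fintype (H ⧸ (T : Subgroup H)) := Fintype.ofFinite _
  set z' : ↥V := ⟨z, hzV⟩ with hz'
  have hz'p : z' ^ p = 1 := Subtype.ext (by simpa using hzp)
  set F : H ⧸ (T : Subgroup H) → ↥V := fun q => MulAut.conjNormal (Quotient.out q : H) z' with hF
  have key1 : ∀ g₁ g₂ : H, g₁⁻¹ * g₂ ∈ (T : Subgroup H) →
      MulAut.conjNormal g₁ z' = MulAut.conjNormal g₂ z' := by
    intro g₁ g₂ h
    apply Subtype.ext
    rw [MulAut.conjNormal_apply, MulAut.conjNormal_apply]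
    have hc := (Subgroup.mem_centralizer_iff.mp hzT) _ h
    show g₁ * z * g₁⁻¹ = g₂ * z * g₂⁻¹
    calc g₁ * z * g₁⁻¹ = g₁ * (z * (g₁⁻¹ * g₂)) * g₂⁻¹ := by group
      _ = g₁ * ((g₁⁻¹ * g₂) * z) * g₂⁻¹ := by rw [hc]
      _ = g₂ * z * g₂⁻¹ := by group
  have hfix : ∀ h : H, MulAut.conjNormal h (∏ q, F q) = ∏ q, F q := by
    intro h
    rw [map_prod]
    have h1 : ∀ q, MulAut.conjNormal h (F q) = F (h • q) := by
      intro q
      show MulAut.conjNormal h (MulAut.conjNormal (Quotient.out q : H) z') =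
        MulAut.conjNormal (Quotient.out (h • q) : H) z'
      rw [← MulAut.mul_apply, ← map_mul]
      apply key1
      rw [← QuotientGroup.eq, QuotientGroup.out_eq']
      conv_rhs => rw [← QuotientGroup.out_eq' q]
      rfl
    simp_rw [h1]
    exact Equiv.prod_comp (MulAction.toPerm h) F
  set τ : ↥V := ∏ q, F q with hτ
  have hτp : τ ^ p = 1 := by
    rw [hτ, ← Finset.prod_pow]
    apply Finset.prod_eq_one
    intro q _
    show (MulAut.conjNormal (Quotient.out q : H) z') ^ p = 1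
    rw [← map_pow, hz'p, map_one]
  have hτW : ∃ a : ↥V, (a : H) ∈ ⁅V, pResidual p H⁆ ∧
      τ = a * z' ^ (Fintype.card (H ⧸ (T : Subgroup H))) := by
    refine ⟨∏ q, (F q * z'⁻¹), ?_, ?_⟩
    · have h1 : ∏ q, (F q * z'⁻¹) ∈ (⁅V, pResidual p H⁆).subgroupOf V := by
        apply Subgroup.prod_mem
        intro q _
        rw [Subgroup.mem_subgroupOf]
        have := conj_mul_inv_mem_commutator_pResidual T V hzV hzT (Quotient.out q : H)
        simpa [hF, MulAut.conjNormal_apply] using this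
      exact Subgroup.mem_subgroupOf.mp h1
    · rw [hτ, Finset.prod_mul_distrib, Finset.prod_const, Finset.card_univ]
      simp
  obtain ⟨a, haW, hτa⟩ := hτW
  -- the index is prime to `p`
  have hidx : ¬ p ∣ Fintype.card (H ⧸ (T : Subgroup H)) := by
    have h1 := T.not_dvd_index
    rwa [Subgroup.index, Nat.card_eq_fintype_card] at h1
  have hco : (Fintype.card (H ⧸ (T : Subgroup H))).Coprime (orderOf z') := by
    have h1 : orderOf z' ∣ p := orderOf_dvd_of_pow_eq_one hz'p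
    have h2 : (Fintype.card (H ⧸ (T : Subgroup H))).Coprime p :=
      (Nat.Coprime.symm ((Nat.Prime.coprime_iff_not_dvd Fact.out).mpr hidx))
    exact Nat.Coprime.coprime_dvd_right h1 h2
  obtain ⟨m, hm⟩ := exists_pow_eq_self_of_coprime hco
  refine ⟨((τ ^ m : ↥V) : H), (τ ^ m).2, ?_, ?_, ((a ^ m)⁻¹ : ↥V), ?_, ?_⟩
  · intro h
    have h1 := hfix h
    have h2 : MulAut.conjNormal h (τ ^ m) = τ ^ m := by rw [map_pow, h1]
    have h3 := congrArg Subtype.val h2
    rw [MulAut.conjNormal_apply] at h3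
    calc h * ((τ ^ m : ↥V) : H) = h * ((τ ^ m : ↥V) : H) * h⁻¹ * h := by group
      _ = ((τ ^ m : ↥V) : H) * h := by rw [h3]
  · have h1 : (τ ^ m) ^ p = 1 := by rw [← pow_mul, mul_comm, pow_mul, hτp, one_pow]
    have := congrArg Subtype.val h1
    simpa using this
  · have h1 : ((a ^ m)⁻¹ : ↥V) ∈ (⁅V, pResidual p H⁆).subgroupOf V :=
      Subgroup.inv_mem _ (Subgroup.pow_mem _ (Subgroup.mem_subgroupOf.mpr haW) m)
    exact Subgroup.mem_subgroupOf.mp h1
  · have h1 : z' = τ ^ m * (a ^ m)⁻¹ := by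
      rw [hτa, mul_pow, hm]
      rw [mul_comm (a ^ m) z', mul_assoc, mul_inv_cancel, mul_one]
    have := congrArg Subtype.val h1
    simpa using this

end Cfsg.Agent.H53
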