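import Mathlib
import Cfsg.Prelude.Def_LocalStructure
import Cfsg.Agent.H53.Trace

set_option autoImplicit false

namespace Cfsg.Agent.H53

open Cfsg
open scoped commutatorElement Pointwise

theorem isPGroup_of_isElementaryAbelian {p : ℕ} {H : Type*} [Group H] {V : Subgroup H}
    (hV : IsElementaryAbelian p V) : IsPGroup p ↥V := by
  intro g
  refine ⟨1, ?_⟩
  rw [pow_one]
  exact Subtype.ext (by simpa using hV.2 g g.2)

/-- Generators of `Ω₁(Z(T))` decompose as (central element of `H`) times (element of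
`[V, O^p(H)] ∩ Ω₁(Z(T))`). -/
theorem omegaOne_center_decomp {p : ℕ} [Fact p.Prime] {H : Type*} [Group H] [Finite H]
    (T : Sylow p H) (V : Subgroup H) [hVn : V.Normal] (hV : IsElementaryAbelian p V)
    {z : H} (hzV : z ∈ V) (hz : z ∈ (T : Subgroup H) ⊓ Subgroup.centralizer ((T : Subgroup H) : Set H))
    (hzp : z ^ p = 1) :
    ∃ c ∈ V, (∀ h : H, h * c = c * h) ∧ c ^ p = 1 ∧
      ∃ w ∈ ⁅V, pResidual p H⁆ ⊓ omegaOne p ((T : Subgroup H) ⊓ Subgroup.centralizer ((T : Subgroup H) : Set H)),
        z = c * w := by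
  have hVc : IsMulCommutative ↥V := hV.1
  obtain ⟨c, hcV, hcc, hcp, w, hw, hzcw⟩ := trace_decomp T V hzV hz.2 hzp
  refine ⟨c, hcV, hcc, hcp, w, ⟨hw, ?_⟩, hzcw⟩
  have hVT : V ≤ (T : Subgroup H) :=
    (le_pCore hVn (isPGroup_of_isElementaryAbelian hV)).trans (pCore_le_sylow T)
  have hwV : w ∈ V := (Subgroup.commutator_le_left V (pResidual p H)) hw
  have hwe : w = c⁻¹ * z := by rw [hzcw]; group
  apply Subgroup.subset_closure
  refine ⟨Subgroup.mem_inf.mpr ⟨hVT hwV, ?_⟩, hV.2 w hwV⟩
  rw [Subgroup.mem_centralizer_iff]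
  intro t ht
  have h1 := (Subgroup.mem_centralizer_iff.mp hz.2) t ht
  have h2 := hcc t
  rw [hwe]
  have h2' : t * c⁻¹ = c⁻¹ * t := (Commute.inv_right (show Commute t c from h2)).eq
  calc t * (c⁻¹ * z) = (t * c⁻¹) * z := by group
    _ = c⁻¹ * t * z := by rw [h2']
    _ = c⁻¹ * (t * z) := by group
    _ = c⁻¹ * (z * t) := by rw [h1]
    _ = c⁻¹ * z * t := by group

theorem centralizer_omegaOne_center_eq {p : ℕ} [Fact p.Prime] {H : Type*} [Group H] [Finite H]
    (T : Sylow p H) (V : Subgroup H) [hVn : V.Normal] (hV : IsElementaryAbelian p V)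
    (hZV : omegaOne p ((T : Subgroup H) ⊓ Subgroup.centralizer ((T : Subgroup H) : Set H)) ≤ V) :
    Subgroup.centralizer ((omegaOne p ((T : Subgroup H) ⊓ Subgroup.centralizer ((T : Subgroup H) : Set H)) : Subgroup H) : Set H) =
      Subgroup.centralizer (((⁅V, pResidual p H⁆ ⊓ omegaOne p ((T : Subgroup H) ⊓ Subgroup.centralizer ((T : Subgroup H) : Set H))) : Subgroup H) : Set H) := by
  apply le_antisymm
  · exact Subgroup.centralizer_le inf_le_right
  · intro g hg
    have key : omegaOne p ((T : Subgroup H) ⊓ Subgroup.centralizer ((T : Subgroup H) : Set H)) ≤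
        Subgroup.centralizer ({g} : Set H) := by
      unfold omegaOne
      rw [Subgroup.closure_le]
      rintro z ⟨hz1, hzp⟩
      rw [SetLike.mem_coe, Subgroup.mem_centralizer_iff]
      intro h hh
      rw [Set.mem_singleton_iff] at hh
      subst hh
      obtain ⟨c, hcV, hcc, hcp, w, hw, rfl⟩ :=
        omegaOne_center_decomp T V hV (hZV (Subgroup.subset_closure ⟨hz1, hzp⟩)) hz1 hzp
      have h1 := (Subgroup.mem_centralizer_iff.mp hg) w hw
      have h2 := hcc h
      calc h * (c * w) = (h * c) * w := by group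
        _ = (c * h) * w := by rw [h2]
        _ = c * (h * w) := by group
        _ = c * (w * h) := by rw [h1]
        _ = c * w * h := by group
    rw [Subgroup.mem_centralizer_iff]
    intro x hx
    exact ((Subgroup.mem_centralizer_iff.mp (key hx)) g rfl).symm

end Cfsg.Agent.H53
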