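import Mathlib
import Cfsg.Prelude.Def_LocalStructure
import Cfsg.Agent.H53.Trace2

set_option autoImplicit false

namespace Cfsg.Agent.H53

open Cfsg
open scoped commutatorElement Pointwise

theorem map_commutator_subgroupOf_le {H : Type*} [Group H] {L V : Subgroup H} (R : Subgroup ↥L) :
    (⁅V.subgroupOf L, R⁆).map L.subtype ≤ ⁅V, R.map L.subtype⁆ := by
  rw [Subgroup.map_commutator]
  apply Subgroup.commutator_mono _ le_rfl
  rw [Subgroup.subgroupOf_map_subtype]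
  exact inf_le_left

/-- Relative form of `conj_mul_inv_mem_commutator_pResidual`. -/
theorem conj_mul_inv_mem_commutator_pResidual_rel {p : ℕ} [Fact p.Prime] {H : Type*} [Group H]
    [Finite H] {L : Subgroup H} (S : Sylow p ↥L) {V : Subgroup H} (hVL : V ≤ L)
    (hLV : L ≤ Subgroup.normalizer (V : Set H)) {z : H} (hzV : z ∈ V)
    (hzS : z ∈ Subgroup.centralizer ((((S : Subgroup ↥L).map L.subtype : Subgroup H)) : Set H))
    {l : H} (hl : l ∈ L) :
    l * z * l⁻¹ * z⁻¹ ∈ ⁅V, (pResidual p ↥L).map L.subtype⁆ := by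
  have hVn : (V.subgroupOf L).Normal := (Subgroup.normal_subgroupOf_iff_le_normalizer hVL).mpr hLV
  have hz1 : (⟨z, hVL hzV⟩ : ↥L) ∈ V.subgroupOf L := Subgroup.mem_subgroupOf.mpr hzV
  have hz2 : (⟨z, hVL hzV⟩ : ↥L) ∈ Subgroup.centralizer ((S : Subgroup ↥L) : Set ↥L) := by
    rw [Subgroup.mem_centralizer_iff]
    intro s hs
    apply Subtype.ext
    exact (Subgroup.mem_centralizer_iff.mp hzS) (s : H) ⟨s, hs, rfl⟩
  have h1 := conj_mul_inv_mem_commutator_pResidual S (V.subgroupOf L) hz1 hz2 ⟨l, hl⟩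
  have h2 : L.subtype (⟨l, hl⟩ * ⟨z, hVL hzV⟩ * ⟨l, hl⟩⁻¹ * ⟨z, hVL hzV⟩⁻¹) ∈
      (⁅V.subgroupOf L, pResidual p ↥L⁆).map L.subtype := Subgroup.mem_map_of_mem _ h1
  exact map_commutator_subgroupOf_le _ h2

/-- Relative form of the trace decomposition. -/
theorem trace_decomp_rel {p : ℕ} [Fact p.Prime] {H : Type*} [Group H] [Finite H] {L : Subgroup H}
    (S : Sylow p ↥L) {V : Subgroup H} (hVL : V ≤ L) (hLV : L ≤ Subgroup.normalizer (V : Set H))
    (hVc : ∀ a ∈ V, ∀ b ∈ V, a * b = b * a) {z : H} (hzV : z ∈ V)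
    (hzS : z ∈ Subgroup.centralizer ((((S : Subgroup ↥L).map L.subtype : Subgroup H)) : Set H))
    (hzp : z ^ p = 1) :
    ∃ c ∈ V, (∀ l ∈ L, l * c = c * l) ∧ c ^ p = 1 ∧
      ∃ w ∈ ⁅V, (pResidual p ↥L).map L.subtype⁆, z = c * w := by
  have hVn : (V.subgroupOf L).Normal := (Subgroup.normal_subgroupOf_iff_le_normalizer hVL).mpr hLV
  have hVc' : IsMulCommutative ↥(V.subgroupOf L) :=
    ⟨⟨fun a b => Subtype.ext (Subtype.ext (hVc _ (Subgroup.mem_subgroupOf.mp a.2) _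
      (Subgroup.mem_subgroupOf.mp b.2)))⟩⟩
  have hz1 : (⟨z, hVL hzV⟩ : ↥L) ∈ V.subgroupOf L := Subgroup.mem_subgroupOf.mpr hzV
  have hz2 : (⟨z, hVL hzV⟩ : ↥L) ∈ Subgroup.centralizer ((S : Subgroup ↥L) : Set ↥L) := by
    rw [Subgroup.mem_centralizer_iff]
    intro s hs
    apply Subtype.ext
    exact (Subgroup.mem_centralizer_iff.mp hzS) (s : H) ⟨s, hs, rfl⟩
  have hz3 : (⟨z, hVL hzV⟩ : ↥L) ^ p = 1 := Subtype.ext (by simpa using hzp)
  obtain ⟨c, hcV, hcc, hcp, w, hw, hzcw⟩ := trace_decomp S (V.subgroupOf L) hz1 hz2 hz3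
  refine ⟨c, Subgroup.mem_subgroupOf.mp hcV, ?_, ?_, w, ?_, ?_⟩
  · intro l hl
    exact congrArg Subtype.val (hcc ⟨l, hl⟩)
  · have := congrArg Subtype.val hcp
    simpa using this
  · exact map_commutator_subgroupOf_le _ (Subgroup.mem_map_of_mem L.subtype hw)
  · have := congrArg Subtype.val hzcw
    simpa using this

theorem cj_omegaOne {p : ℕ} {G : Type*} [Group G] (g : G) (X : Subgroup G) :
    cj(g, (omegaOne p X)) = omegaOne p (cj(g, X)) := by
  unfold omegaOne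
  rw [MonoidHom.map_closure]
  congr 1
  ext y
  constructor
  · rintro ⟨x, ⟨hx, hxp⟩, rfl⟩
    refine ⟨⟨x, hx, rfl⟩, ?_⟩
    rw [← map_pow, hxp, map_one]
  · rintro ⟨⟨x, hx, rfl⟩, hyp⟩
    refine ⟨x, ⟨hx, ?_⟩, rfl⟩
    rw [← map_pow] at hyp
    exact (MulAut.conj g).injective (by rw [map_one]; exact hyp)

theorem omegaOne_le {p : ℕ} {G : Type*} [Group G] (X : Subgroup G) : omegaOne p X ≤ X := by
  unfold omegaOne
  rw [Subgroup.closure_le]
  intro x hx
  exact hx.1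

theorem sylow_map_smul {p : ℕ} {H : Type*} [Group H] {L : Subgroup H} (l : ↥L) (S : Sylow p ↥L) :
    ((l • S : Sylow p ↥L) : Subgroup ↥L).map L.subtype = cj((l : H), ((S : Subgroup ↥L).map L.subtype)) := by
  rw [sylow_smul_eq_cj, map_cj]
  rfl

theorem isPGroup_zpowers_of_pow_eq_one {p : ℕ} [Fact p.Prime] {G : Type*} [Group G] {x : G}
    (hx : x ^ p = 1) : IsPGroup p ↥(Subgroup.zpowers x) := by
  have h1 : orderOf x ∣ p := orderOf_dvd_of_pow_eq_one hx
  rcases (Nat.Prime.eq_one_or_self_of_dvd Fact.out _ h1) with h | h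
  · apply IsPGroup.of_card (n := 0)
    rw [Nat.card_zpowers, h, pow_zero]
  · apply IsPGroup.of_card (n := 1)
    rw [Nat.card_zpowers, h, pow_one]

/-- A central element of `L` with `x ^ p = 1` lies in `O_p(L)`. -/
theorem mem_pCoreOf_of_central {p : ℕ} [Fact p.Prime] {G : Type*} [Group G] {L : Subgroup G} {x : G}
    (hxL : x ∈ L) (hxc : x ∈ Subgroup.centralizer (L : Set G)) (hxp : x ^ p = 1) :
    x ∈ pCoreOf p L := by
  have h1 : Subgroup.zpowers x ≤ pCoreOf p L := by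
    apply le_pCoreOf (by rw [Subgroup.zpowers_le]; exact hxL) _ (isPGroup_zpowers_of_pow_eq_one hxp)
    refine le_trans ?_ (Subgroup.centralizer_le_normalizer _)
    rw [Subgroup.le_centralizer_iff, Subgroup.zpowers_le]
    exact hxc
  exact h1 (Subgroup.mem_zpowers x)

end Cfsg.Agent.H53
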