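import Mathlib
import Cfsg.Prelude.Def_LocalStructure
import Cfsg.Agent.H53.Trace3

set_option autoImplicit false

namespace Cfsg.Agent.H53

open Cfsg
open scoped commutatorElement Pointwise

theorem omegaOne_le_iff {p : ℕ} {G : Type*} [Group G] {X K : Subgroup G} :
    omegaOne p X ≤ K ↔ ∀ x ∈ X, x ^ p = 1 → x ∈ K := by
  unfold omegaOne
  rw [Subgroup.closure_le]
  constructor
  · intro h x hx hxp
    exact h ⟨hx, hxp⟩
  · rintro h x ⟨hx, hxp⟩
    exact h x hx hxp

theorem mem_omegaOne {p : ℕ} {G : Type*} [Group G] {X : Subgroup G} {x : G} (hx : x ∈ X)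
    (hxp : x ^ p = 1) : x ∈ omegaOne p X :=
  Subgroup.subset_closure ⟨hx, hxp⟩

theorem sylowCenterClosure_le_iff {p : ℕ} {H : Type*} [Group H] {L K : Subgroup H} :
    sylowCenterClosure p L ≤ K ↔ ∀ S : Sylow p ↥L, ∀ z ∈ ((S : Subgroup ↥L).map L.subtype) ⊓
      Subgroup.centralizer ((((S : Subgroup ↥L).map L.subtype : Subgroup H)) : Set H), z ^ p = 1 → z ∈ K := by
  unfold sylowCenterClosure
  rw [iSup_le_iff]
  constructor
  · intro h S z hz hzp
    exact h S (mem_omegaOne hz hzp)
  · intro h S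
    rw [omegaOne_le_iff]
    exact h S

theorem mem_sylowCenterClosure {p : ℕ} {H : Type*} [Group H] {L : Subgroup H} (S : Sylow p ↥L)
    {z : H} (hz : z ∈ ((S : Subgroup ↥L).map L.subtype) ⊓
      Subgroup.centralizer ((((S : Subgroup ↥L).map L.subtype : Subgroup H)) : Set H))
    (hzp : z ^ p = 1) : z ∈ sylowCenterClosure p L :=
  sylowCenterClosure_le_iff.mp le_rfl S z hz hzp

theorem sylowCenterClosure_le (p : ℕ) {H : Type*} [Group H] (L : Subgroup H) :
    sylowCenterClosure p L ≤ L :=
  sylowCenterClosure_le_iff.mpr (fun _ _ hz _ => Subgroup.map_subtype_le _ hz.1)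

theorem le_normalizer_sylowCenterClosure (p : ℕ) {H : Type*} [Group H] [Finite H] (L : Subgroup H) :
    L ≤ Subgroup.normalizer ((sylowCenterClosure p L : Subgroup H) : Set H) := by
  intro l hl
  rw [mem_normalizer_iff_cj]
  apply cj_eq_self_of_le_of_card
  rw [cj_le_iff, sylowCenterClosure_le_iff]
  intro S z hz hzp
  rw [mem_cj, inv_inv]
  have e := sylow_map_smul (⟨l, hl⟩ : ↥L) S
  apply mem_sylowCenterClosure ((⟨l, hl⟩ : ↥L) • S)
  · rw [e, ← cj_centralizer, ← cj_inf]
    exact conj_mem_cj hz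
  · have e2 : (l * z * l⁻¹) ^ p = l * z ^ p * l⁻¹ := by
      rw [conj_pow]
    rw [e2, hzp]; group

theorem sylowCenterClosure_le_center_pCoreOf {p : ℕ} {H : Type*} [Group H] {L : Subgroup H}
    (hL : L ⊓ Subgroup.centralizer ((pCoreOf p L : Subgroup H) : Set H) ≤ pCoreOf p L) :
    sylowCenterClosure p L ≤ pCoreOf p L ⊓ Subgroup.centralizer ((pCoreOf p L : Subgroup H) : Set H) := by
  rw [sylowCenterClosure_le_iff]
  intro S z hz _
  have hPS : pCoreOf p L ≤ (S : Subgroup ↥L).map L.subtype := Subgroup.map_mono (pCore_le_sylow S)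
  have hzc : z ∈ Subgroup.centralizer ((pCoreOf p L : Subgroup H) : Set H) :=
    Subgroup.centralizer_le hPS hz.2
  exact ⟨hL ⟨Subgroup.map_subtype_le _ hz.1, hzc⟩, hzc⟩

theorem sylowCenterClosure_comm {p : ℕ} {H : Type*} [Group H] {L : Subgroup H}
    (hL : L ⊓ Subgroup.centralizer ((pCoreOf p L : Subgroup H) : Set H) ≤ pCoreOf p L) :
    ∀ a ∈ sylowCenterClosure p L, ∀ b ∈ sylowCenterClosure p L, a * b = b * a := by
  intro a ha b hb
  have ha' := sylowCenterClosure_le_center_pCoreOf hL ha
  have hb' := sylowCenterClosure_le_center_pCoreOf hL hb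
  exact (Subgroup.mem_centralizer_iff.mp hb'.2) a ha'.1

theorem sylowCenterClosure_decomp {p : ℕ} [Fact p.Prime] {H : Type*} [Group H] [Finite H]
    {L : Subgroup H}
    (hL : L ⊓ Subgroup.centralizer ((pCoreOf p L : Subgroup H) : Set H) ≤ pCoreOf p L) :
    sylowCenterClosure p L = omegaOne p (L ⊓ Subgroup.centralizer (L : Set H)) ⊔
        ⁅sylowCenterClosure p L, (pResidual p ↥L).map L.subtype⁆ ∧
      ⁅sylowCenterClosure p L, L⁆ = ⁅sylowCenterClosure p L, (pResidual p ↥L).map L.subtype⁆ := by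
  have hZL : sylowCenterClosure p L ≤ L := sylowCenterClosure_le p L
  have hLZ := le_normalizer_sylowCenterClosure p L
  have hZc := sylowCenterClosure_comm hL
  have hOL : (pResidual p ↥L).map L.subtype ≤ L := Subgroup.map_subtype_le _
  have hLO : L ≤ Subgroup.normalizer ((((pResidual p ↥L).map L.subtype : Subgroup H)) : Set H) :=
    map_subtype_le_normalizer _
  constructor
  · apply le_antisymm
    · rw [sylowCenterClosure_le_iff]
      intro S z hz hzp
      obtain ⟨c, hcZ, hcc, hcp, w, hw, rfl⟩ :=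
        trace_decomp_rel S hZL hLZ hZc (mem_sylowCenterClosure S hz hzp) hz.2 hzp
      refine Subgroup.mul_mem _ (Subgroup.mem_sup_left (mem_omegaOne
        (Subgroup.mem_inf.mpr ⟨hZL hcZ, ?_⟩) hcp)) (Subgroup.mem_sup_right hw)
      rw [Subgroup.mem_centralizer_iff]
      exact fun l hl => hcc l hl
    · apply sup_le
      · rw [omegaOne_le_iff]
        intro x hx hxp
        obtain ⟨S⟩ := (inferInstance : Nonempty (Sylow p ↥L))
        have hxP := mem_pCoreOf_of_central hx.1 hx.2 hxp
        have hPS : pCoreOf p L ≤ (S : Subgroup ↥L).map L.subtype :=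
          Subgroup.map_mono (pCore_le_sylow S)
        exact mem_sylowCenterClosure S
          ⟨hPS hxP, Subgroup.centralizer_le (Subgroup.map_subtype_le _) hx.2⟩ hxp
      · exact Subgroup.le_normalizer_iff_commutator_le_left.mp (hOL.trans hLZ)
  · apply le_antisymm
    · have hLW := le_normalizer_commutator hLZ hLO
      have key : sylowCenterClosure p L ≤
          commSub L ⁅sylowCenterClosure p L, (pResidual p ↥L).map L.subtype⁆ := by
        rw [sylowCenterClosure_le_iff]
        intro S z hz hzp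
        have hzZ := mem_sylowCenterClosure S hz hzp
        refine ⟨hLW (hZL hzZ), fun l hl => ?_⟩
        have h1 := conj_mul_inv_mem_commutator_pResidual_rel S hZL hLZ hzZ hz.2 hl
        have e : ⁅z, l⁆ = (l * z * l⁻¹ * z⁻¹)⁻¹ := by rw [commutatorElement_def]; group
        rw [e]
        exact Subgroup.inv_mem _ h1
      rw [Subgroup.commutator_le]
      intro z hz l hl
      exact (key hz).2 l hl
    · exact Subgroup.commutator_mono le_rfl hOL

end Cfsg.Agent.H53
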