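import Mathlib
import Cfsg.Prelude.Def_LocalStructure
import Cfsg.Agent.H53.Trace4
import Cfsg.Agent.H53.Closed
import Cfsg.Agent.H53.Quot

set_option autoImplicit false

namespace Cfsg.Agent.H53

open Cfsg
open scoped commutatorElement Pointwise

theorem index_eq_relIndex_of_sup_eq_top {L : Type*} [Group L] [Finite L] {M D : Subgroup L}
    [hD : D.Normal] (h : M ⊔ D = ⊤) : M.index = M.relIndex D := by
  have h1 := M.index_mul_card
  have h2 := D.index_mul_card
  have h3 := (D.subgroupOf M).index_mul_card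
  have h4 := (M.subgroupOf D).index_mul_card
  have e1 : Nat.card ↥(D.subgroupOf M) = Nat.card ↥(M.subgroupOf D) := by
    rw [Nat.card_congr (subgroupOfEquivInf M D).toEquiv,
      Nat.card_congr (subgroupOfEquivInf D M).toEquiv, inf_comm]
  have h5 : D.index = D.relIndex M := by
    rw [← Subgroup.relIndex_top_right, ← h, Subgroup.relIndex_sup_right]
  have hpos : 0 < Nat.card ↥M := Nat.card_pos
  apply Nat.eq_of_mul_eq_mul_right hpos
  rw [h1, ← h2, h5, ← h4]
  unfold Subgroup.relIndex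
  rw [← h3, e1]
  ring

theorem isNilpotent_of_le {G : Type*} [Group G] {K F : Subgroup G} (h : K ≤ F)
    [hF : Group.IsNilpotent ↥F] : Group.IsNilpotent ↥K :=
  (Group.isNilpotent_congr (Subgroup.subgroupOfEquivOfLe h)).mp inferInstance

theorem isCoatom_cj {G : Type*} [Group G] (g : G) {M : Subgroup G} (hM : IsCoatom M) :
    IsCoatom (cj(g, M)) := by
  constructor
  · intro h
    apply hM.1
    have := congrArg (fun K => cj(g⁻¹, K)) h
    simp only [cj_inv_cj] at this
    rw [this, eq_top_iff]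
    intro x _
    rw [mem_cj]; trivial
  · intro K hK
    have h1 : M < cj(g⁻¹, K) := by
      constructor
      · exact cj_le_iff.mp hK.le
      · intro h2
        apply hK.not_ge
        have := cj_mono g h2
        rwa [cj_cj_inv] at this
    have h3 := hM.2 _ h1
    have := congrArg (fun K => cj(g, K)) h3
    simp only [cj_cj_inv] at this
    rw [this, eq_top_iff]
    intro x _
    rw [mem_cj]; trivial

theorem coprime_card_quotient_pCore_of_isPClosed {p : ℕ} [Fact p.Prime] {G : Type*} [Group G]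
    [Finite G] (h : IsPClosed p G) : (Nat.card (G ⧸ pCore p G)).Coprime p := by
  obtain ⟨Q⟩ := (inferInstance : Nonempty (Sylow p G))
  have e := isPClosed_sylow_eq_pCore h Q
  rw [← Subgroup.index_eq_card, ← e]
  exact (Nat.Coprime.symm ((Nat.Prime.coprime_iff_not_dvd Fact.out).mpr Q.not_dvd_index))

section MinimalOver

variable {L : Type*} [Group L] [Finite L] {p : ℕ} [Fact p.Prime]

theorem minimalOver_sylow_inf_normal {L₀ Y : Subgroup L} (hL₀ : IsCoatom L₀) (hY : Y ≤ L₀)
    (hmin : IsMinimalOver Y) (P : Sylow p L) (hYP : Y ≤ (P : Subgroup L)) (N : Subgroup L)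
    [hN : N.Normal] (hNL₀ : N ≤ L₀) : ((P : Subgroup L) ⊓ N).Normal := by
  have huniq := minimalOver_unique hL₀ hY hmin
  obtain ⟨Q, hQ⟩ := sylow_subgroupOf_normal N P
  have hfr := Sylow.normalizer_sup_eq_top Q
  have hmap : (Q : Subgroup ↥N).map N.subtype = (P : Subgroup L) ⊓ N := by
    rw [hQ, Subgroup.subgroupOf_map_subtype]
  rw [hmap] at hfr
  by_contra hnn
  have hne : Subgroup.normalizer (((P : Subgroup L) ⊓ N : Subgroup L) : Set L) ≠ ⊤ :=
    fun h => hnn (Subgroup.normalizer_eq_top_iff.mp h)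
  have hle := le_coatom_of_unique huniq hne
    (hYP.trans (le_normalizer_inf_of_normal (P : Subgroup L) N))
  have : (⊤ : Subgroup L) ≤ L₀ := by rw [← hfr]; exact sup_le hle hNL₀
  exact hL₀.1 (top_le_iff.mp this)

theorem minimalOver_normal_sylow {L₀ Y : Subgroup L} (hL₀ : IsCoatom L₀) (hY : Y ≤ L₀)
    (hmin : IsMinimalOver Y) (P : Sylow p L) (hYP : Y ≤ (P : Subgroup L)) (N : Subgroup L)
    [hN : N.Normal] (hNL₀ : N ≤ L₀) :
    ∃ Q : Sylow p ↥N, (Q : Subgroup ↥N) = (P : Subgroup L).subgroupOf N ∧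
      pCore p ↥N = (P : Subgroup L).subgroupOf N ∧ IsPClosed p ↥N := by
  obtain ⟨Q, hQ⟩ := sylow_subgroupOf_normal N P
  have hn := minimalOver_sylow_inf_normal hL₀ hY hmin P hYP N hNL₀
  have hQn : (Q : Subgroup ↥N).Normal := by
    rw [hQ, ← Subgroup.inf_subgroupOf_right]
    exact hn.subgroupOf N
  have hcl : IsPClosed p ↥N := isPClosed_iff_exists_normal.mpr ⟨Q, hQn⟩
  exact ⟨Q, hQ, by rw [← hQ]; exact (isPClosed_sylow_eq_pCore hcl Q).symm, hcl⟩

theorem minimalOver_pCore_inf {L₀ Y : Subgroup L} (hL₀ : IsCoatom L₀) (hY : Y ≤ L₀)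
    (hmin : IsMinimalOver Y) (P : Sylow p L) (hYP : Y ≤ (P : Subgroup L)) (N : Subgroup L)
    [hN : N.Normal] (hNL₀ : N ≤ L₀) :
    (pCore p L).subgroupOf N = (P : Subgroup L).subgroupOf N := by
  have hPDn := minimalOver_sylow_inf_normal hL₀ hY hmin P hYP N hNL₀
  rw [← Subgroup.inf_subgroupOf_right (pCore p L), ← Subgroup.inf_subgroupOf_right (P : Subgroup L)]
  congr 1
  apply le_antisymm (inf_le_inf (pCore_le_sylow P) le_rfl)
  exact le_inf (le_pCore hPDn (P.isPGroup'.to_le inf_le_left)) inf_le_right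

theorem minimalOver_normalCore_map {L₀ Y : Subgroup L} (hL₀ : IsCoatom L₀) (hY : Y ≤ L₀)
    (hmin : IsMinimalOver Y) (P : Sylow p L) (hYP : Y ≤ (P : Subgroup L))
    (hPL₀ : (P : Subgroup L) ≤ L₀) :
    (L₀.normalCore).map (QuotientGroup.mk' (pCore p L)) = frattini (L ⧸ pCore p L) := by
  have huniq := minimalOver_unique hL₀ hY hmin
  have hOP : pCore p L ≤ (P : Subgroup L) := pCore_le_sylow P
  have hOL₀ : pCore p L ≤ L₀ := hOP.trans hPL₀
  have hsurj := QuotientGroup.mk'_surjective (pCore p L)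
  have hker : (QuotientGroup.mk' (pCore p L)).ker = pCore p L := QuotientGroup.ker_mk' _
  apply le_antisymm
  · unfold frattini Order.radical
    rw [le_iInf₂_iff]
    intro Mb hMb
    rw [Subgroup.map_le_iff_le_comap]
    have hMc : IsCoatom (Mb.comap (QuotientGroup.mk' (pCore p L))) :=
      isCoatom_comap_of_surjective hsurj hMb
    have hOM : pCore p L ≤ Mb.comap (QuotientGroup.mk' (pCore p L)) := by
      intro x hx
      rw [Subgroup.mem_comap]
      have : QuotientGroup.mk' (pCore p L) x = 1 := (QuotientGroup.eq_one_iff x).mpr hx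
      rw [this]; exact Subgroup.one_mem _
    by_contra hDM
    have htop : Mb.comap (QuotientGroup.mk' (pCore p L)) ⊔ L₀.normalCore = ⊤ := by
      apply hMc.2
      exact lt_of_le_of_ne le_sup_left (fun h => hDM (by rw [h]; exact le_sup_right))
    obtain ⟨Q, hQ, hcore, hcl⟩ :=
      minimalOver_normal_sylow hL₀ hY hmin P hYP L₀.normalCore (Subgroup.normalCore_le L₀)
    have hOD : pCore p L ≤ L₀.normalCore := Subgroup.normal_le_normalCore.mpr hOL₀
    have hOeq := minimalOver_pCore_inf hL₀ hY hmin P hYP L₀.normalCore (Subgroup.normalCore_le L₀)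
    have hidx : ¬ p ∣ (Mb.comap (QuotientGroup.mk' (pCore p L))).index := by
      rw [index_eq_relIndex_of_sup_eq_top htop, ← Subgroup.inf_relIndex_right]
      intro hdvd
      have h1 : (Mb.comap (QuotientGroup.mk' (pCore p L)) ⊓ L₀.normalCore).relIndex L₀.normalCore ∣
          (pCore p L).relIndex L₀.normalCore :=
        Subgroup.relIndex_dvd_of_le_left _ (le_inf hOM hOD)
      have h2 : (pCore p L).relIndex L₀.normalCore = (Q : Subgroup ↥L₀.normalCore).index := by
        unfold Subgroup.relIndex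
        rw [hOeq, hQ]
      exact Q.not_dvd_index (h2 ▸ (hdvd.trans h1))
    have hYp : IsPGroup p ↥Y := P.isPGroup'.to_le hYP
    obtain ⟨q, hq⟩ := hYp.nonempty_fixed_point_of_prime_not_dvd_card
      (L ⧸ Mb.comap (QuotientGroup.mk' (pCore p L))) (by rwa [← Subgroup.index_eq_card])
    induction q using QuotientGroup.induction_on with
    | H x =>
      have hYx : Y ≤ cj(x, (Mb.comap (QuotientGroup.mk' (pCore p L)))) := by
        intro y hy
        rw [mem_cj]
        have h5 := hq ⟨y, hy⟩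
        have h6 : ((y * x : L) : L ⧸ Mb.comap (QuotientGroup.mk' (pCore p L))) = (x : L ⧸ _) := h5
        have h7 := QuotientGroup.eq.mp h6.symm
        simpa [mul_assoc] using h7
      have hxc := isCoatom_cj x hMc
      have h8 := huniq _ ⟨hxc, hYx⟩
      apply hDM
      have h3 : L₀.normalCore ≤ cj(x, (Mb.comap (QuotientGroup.mk' (pCore p L)))) :=
        h8 ▸ Subgroup.normalCore_le L₀
      have h4 := cj_mono x⁻¹ h3
      rw [cj_inv_cj, cj_of_normal] at h4
      exact h4
  · intro xb hxb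
    obtain ⟨x, rfl⟩ := hsurj xb
    refine ⟨x, ?_, rfl⟩
    show ∀ b : L, b * x * b⁻¹ ∈ L₀
    intro b
    have hfn : (frattini (L ⧸ pCore p L)).Normal := Subgroup.normal_of_characteristic _
    have h1 : QuotientGroup.mk' (pCore p L) (b * x * b⁻¹) ∈ frattini (L ⧸ pCore p L) := by
      rw [map_mul, map_mul, map_inv]
      exact hfn.conj_mem _ hxb _
    have hcoat : IsCoatom (L₀.map (QuotientGroup.mk' (pCore p L))) :=
      isCoatom_map_of_ker_le hsurj (by rw [hker]; exact hOL₀) hL₀
    obtain ⟨l, hl, hle⟩ := frattini_le_coatom hcoat h1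
    have h2 : l⁻¹ * (b * x * b⁻¹) ∈ pCore p L := by
      rw [← QuotientGroup.eq]
      exact hle
    have h3 := L₀.mul_mem hl (hOL₀ h2)
    simpa using h3

theorem minimalOver_normal_nilpotent {L₀ Y : Subgroup L} (hL₀ : IsCoatom L₀) (hY : Y ≤ L₀)
    (hmin : IsMinimalOver Y) (P : Sylow p L) (hYP : Y ≤ (P : Subgroup L))
    (hPL₀ : (P : Subgroup L) ≤ L₀) (N : Subgroup L) [hN : N.Normal] (hNL₀ : N ≤ L₀) :
    Group.IsNilpotent (↥N ⧸ pCore p ↥N) := by
  obtain ⟨Q, hQ, hcore, hcl⟩ := minimalOver_normal_sylow hL₀ hY hmin P hYP N hNL₀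
  have hOeq := minimalOver_pCore_inf hL₀ hY hmin P hYP N hNL₀
  have hker : ((QuotientGroup.mk' (pCore p L)).comp N.subtype).ker = pCore p ↥N := by
    rw [hcore, ← hOeq]
    ext x
    rw [MonoidHom.mem_ker, Subgroup.mem_subgroupOf, MonoidHom.comp_apply]
    exact QuotientGroup.eq_one_iff _
  have hrange : ((QuotientGroup.mk' (pCore p L)).comp N.subtype).range ≤ frattini (L ⧸ pCore p L) := by
    rw [← minimalOver_normalCore_map hL₀ hY hmin P hYP hPL₀]
    rintro _ ⟨x, rfl⟩
    exact ⟨x, Subgroup.normal_le_normalCore.mpr hNL₀ x.2, rfl⟩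
  have hfn : Group.IsNilpotent ↥(frattini (L ⧸ pCore p L)) := frattini_nilpotent
  have h1 : Group.IsNilpotent ↥(((QuotientGroup.mk' (pCore p L)).comp N.subtype).range) :=
    isNilpotent_of_le hrange
  have e1 := QuotientGroup.quotientKerEquivRange ((QuotientGroup.mk' (pCore p L)).comp N.subtype)
  have e2 := QuotientGroup.quotientMulEquivOfEq hker
  exact (Group.isNilpotent_congr (e2.symm.trans e1)).mpr h1

end MinimalOver

end Cfsg.Agent.H53
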