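import Mathlib
import Cfsg.Prelude.Def_LocalStructure
import Cfsg.Agent.H53.Min2

set_option autoImplicit false

namespace Cfsg.Agent.H53

open Cfsg
open scoped commutatorElement Pointwise

/-! ### `p`-reduced normal subgroups and `Y_L` -/

/-- Criterion for `O_p(X / N) = 1`. -/
theorem pCore_quotient_eq_bot_iff {p : ℕ} {X : Type*} [Group X] (N : Subgroup X) [N.Normal] :
    pCore p (X ⧸ N) = ⊥ ↔
      ∀ D : Subgroup X, D.Normal → (∀ d ∈ D, ∃ k : ℕ, d ^ (p ^ k) ∈ N) → D ≤ N := by
  constructor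
  · intro h D hD hDp
    have h1 : D.map (QuotientGroup.mk' N) ≤ pCore p (X ⧸ N) := by
      apply le_pCore (hD.map _ (QuotientGroup.mk'_surjective N))
      rintro ⟨_, d, hd, rfl⟩
      obtain ⟨k, hk⟩ := hDp d hd
      refine ⟨k, Subtype.ext ?_⟩
      rw [Subgroup.coe_pow]
      show (QuotientGroup.mk' N d) ^ (p ^ k) = 1
      rw [← map_pow]
      exact (QuotientGroup.eq_one_iff _).mpr hk
    rw [h] at h1
    intro d hd
    have : QuotientGroup.mk' N d ∈ (⊥ : Subgroup (X ⧸ N)) := h1 ⟨d, hd, rfl⟩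
    rw [Subgroup.mem_bot] at this
    exact (QuotientGroup.eq_one_iff d).mp this
  · intro h
    have hD := h ((pCore p (X ⧸ N)).comap (QuotientGroup.mk' N))
      (Subgroup.Normal.comap (pCore_normal p _) _) (by
        intro d hd
        obtain ⟨k, hk⟩ := (pCore_isPGroup p (X ⧸ N)) ⟨_, hd⟩
        refine ⟨k, ?_⟩
        have h2 : (QuotientGroup.mk' N d) ^ (p ^ k) = 1 := congrArg Subtype.val hk
        rw [← map_pow] at h2
        exact (QuotientGroup.eq_one_iff _).mp h2)
    rw [eq_bot_iff]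
    intro x hx
    obtain ⟨d, rfl⟩ := QuotientGroup.mk'_surjective N x
    rw [Subgroup.mem_bot]
    exact (QuotientGroup.eq_one_iff d).mpr (hD hx)

theorem isElementaryAbelian_iff {p : ℕ} {X : Type*} [Group X] {A : Subgroup X} :
    IsElementaryAbelian p A ↔ (∀ a ∈ A, ∀ b ∈ A, a * b = b * a) ∧ ∀ a ∈ A, a ^ p = 1 := by
  constructor
  · rintro ⟨hc, hp⟩
    refine ⟨fun a ha b hb => ?_, hp⟩
    have := (isMulCommutative_iff.mp hc) ⟨a, ha⟩ ⟨b, hb⟩
    exact congrArg Subtype.val this
  · rintro ⟨hc, hp⟩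
    refine ⟨isMulCommutative_iff.mpr ?_, hp⟩
    rintro ⟨a, ha⟩ ⟨b, hb⟩
    exact Subtype.ext (hc a ha b hb)

theorem isElementaryAbelian_of_le {p : ℕ} {X : Type*} [Group X] {A B : Subgroup X} (h : A ≤ B)
    (hB : IsElementaryAbelian p B) : IsElementaryAbelian p A := by
  rw [isElementaryAbelian_iff] at hB ⊢
  exact ⟨fun a ha b hb => hB.1 a (h ha) b (h hb), fun a ha => hB.2 a (h ha)⟩

theorem isElementaryAbelian_map {p : ℕ} {X X' : Type*} [Group X] [Group X'] (f : X →* X')
    {A : Subgroup X} (hA : IsElementaryAbelian p A) : IsElementaryAbelian p (A.map f) := by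
  rw [isElementaryAbelian_iff] at hA ⊢
  refine ⟨?_, ?_⟩
  · rintro _ ⟨a, ha, rfl⟩ _ ⟨b, hb, rfl⟩
    rw [← map_mul, ← map_mul, hA.1 a ha b hb]
  · rintro _ ⟨a, ha, rfl⟩
    rw [← map_pow, hA.2 a ha, map_one]

theorem isElementaryAbelian_subgroupOf {p : ℕ} {X : Type*} [Group X] (K : Subgroup X)
    {A : Subgroup X} (hA : IsElementaryAbelian p A) : IsElementaryAbelian p (A.subgroupOf K) := by
  rw [isElementaryAbelian_iff] at hA ⊢
  refine ⟨?_, ?_⟩
  · intro a ha b hb
    exact Subtype.ext (hA.1 a.1 (Subgroup.mem_subgroupOf.mp ha) b.1 (Subgroup.mem_subgroupOf.mp hb))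
  · intro a ha
    exact Subtype.ext (by rw [Subgroup.coe_pow]; exact hA.2 a.1 (Subgroup.mem_subgroupOf.mp ha))

/-- The join of pairwise commuting subgroups of exponent `p` is elementary abelian. -/
theorem isElementaryAbelian_sSup {p : ℕ} {X : Type*} [Group X] (𝒱 : Set (Subgroup X))
    (hpow : ∀ V ∈ 𝒱, ∀ a ∈ V, a ^ p = 1)
    (hcomm : ∀ V ∈ 𝒱, ∀ W ∈ 𝒱, V ≤ Subgroup.centralizer (W : Set X)) :
    IsElementaryAbelian p (sSup 𝒱) := by
  have h1 : sSup 𝒱 ≤ Subgroup.centralizer ((sSup 𝒱 : Subgroup X) : Set X) := by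
    apply sSup_le
    intro V hV
    rw [Subgroup.le_centralizer_iff]
    apply sSup_le
    intro W hW
    exact hcomm W hW V hV
  have hc : ∀ a ∈ sSup 𝒱, ∀ b ∈ sSup 𝒱, a * b = b * a := by
    intro a ha b hb
    exact (Subgroup.mem_centralizer_iff.mp (h1 hb)) a ha
  rw [isElementaryAbelian_iff]
  refine ⟨hc, ?_⟩
  let E : Subgroup X :=
    { carrier := {a | a ∈ sSup 𝒱 ∧ a ^ p = 1}
      one_mem' := ⟨Subgroup.one_mem _, one_pow _⟩
      mul_mem' := by
        rintro a b ⟨ha, ha'⟩ ⟨hb, hb'⟩
        refine ⟨Subgroup.mul_mem _ ha hb, ?_⟩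
        have hcm : Commute a b := hc a ha b hb
        rw [hcm.mul_pow, ha', hb', one_mul]
      inv_mem' := by
        rintro a ⟨ha, ha'⟩
        exact ⟨Subgroup.inv_mem _ ha, by rw [inv_pow, ha', inv_one]⟩ }
  have hE : sSup 𝒱 ≤ E := sSup_le (fun V hV a ha => ⟨le_sSup hV ha, hpow V hV a ha⟩)
  intro a ha
  exact (hE ha).2

/-- A normal `p`-subgroup centralizes every `p`-reduced normal subgroup. -/
theorem le_centralizer_of_isPReducedNormal {p : ℕ} {L : Type*} [Group L] {V : Subgroup L}
    (hV : IsPReducedNormal p V) {W : Subgroup L} (hW : W.Normal) (hWp : IsPGroup p ↥W) :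
    W ≤ Subgroup.centralizer (V : Set L) := by
  obtain ⟨hVn, hVel, hCn, hcore⟩ := hV
  refine (pCore_quotient_eq_bot_iff _).mp hcore W hW (fun d hd => ?_)
  obtain ⟨k, hk⟩ := hWp ⟨d, hd⟩
  refine ⟨k, ?_⟩
  have h2 : d ^ (p ^ k) = 1 := congrArg Subtype.val hk
  rw [h2]; exact Subgroup.one_mem _

/-- `Y_L` is itself a `p`-reduced normal subgroup. -/
theorem largestPReduced_isPReducedNormal (p : ℕ) (L : Type*) [Group L] :
    IsPReducedNormal p (largestPReduced p L) := by
  have hel : IsElementaryAbelian p (largestPReduced p L) := by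
    apply isElementaryAbelian_sSup
    · intro V hV; exact hV.2.1.2
    · intro V hV W hW
      exact le_centralizer_of_isPReducedNormal hW hV.1 (isPGroup_of_isElementaryAbelian hV.2.1)
  have hn : (largestPReduced p L).Normal := Subgroup.sSup_normal _ (fun V hV => hV.1)
  refine ⟨hn, hel, inferInstance, ?_⟩
  rw [pCore_quotient_eq_bot_iff]
  intro D hD hDp
  rw [Subgroup.le_centralizer_iff]
  apply sSup_le
  intro V hV
  rw [← Subgroup.le_centralizer_iff]
  have hVle : V ≤ largestPReduced p L := le_sSup hV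
  obtain ⟨hVn, hVel, hCn, hcore⟩ := hV
  refine (pCore_quotient_eq_bot_iff _).mp hcore D hD (fun d hd => ?_)
  obtain ⟨k, hk⟩ := hDp d hd
  exact ⟨k, Subgroup.centralizer_le (by exact_mod_cast hVle) hk⟩

theorem le_largestPReduced {p : ℕ} {L : Type*} [Group L] {V : Subgroup L}
    (hV : IsPReducedNormal p V) : V ≤ largestPReduced p L := le_sSup hV

theorem largestPReduced_normal (p : ℕ) (L : Type*) [Group L] : (largestPReduced p L).Normal :=
  (largestPReduced_isPReducedNormal p L).1

theorem largestPReduced_isElementaryAbelian (p : ℕ) (L : Type*) [Group L] :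
    IsElementaryAbelian p (largestPReduced p L) :=
  (largestPReduced_isPReducedNormal p L).2.1

theorem largestPReduced_le_pCore (p : ℕ) (L : Type*) [Group L] :
    largestPReduced p L ≤ pCore p L :=
  le_pCore (largestPReduced_normal p L)
    (isPGroup_of_isElementaryAbelian (largestPReduced_isElementaryAbelian p L))

theorem pCore_le_centralizer_largestPReduced (p : ℕ) (L : Type*) [Group L] :
    pCore p L ≤ Subgroup.centralizer (largestPReduced p L : Set L) :=
  le_centralizer_of_isPReducedNormal (largestPReduced_isPReducedNormal p L) (pCore_normal p L)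
    (pCore_isPGroup p L)

/-! ### The subgroup versions -/

theorem largestPReducedOf_le {G : Type*} [Group G] (p : ℕ) (L : Subgroup G) :
    largestPReducedOf p L ≤ L := Subgroup.map_subtype_le _

theorem largestPReducedOf_le_pCoreOf {G : Type*} [Group G] (p : ℕ) (L : Subgroup G) :
    largestPReducedOf p L ≤ pCoreOf p L := Subgroup.map_mono (largestPReduced_le_pCore p ↥L)

theorem largestPReducedOf_isElementaryAbelian {G : Type*} [Group G] (p : ℕ) (L : Subgroup G) :
    IsElementaryAbelian p (largestPReducedOf p L) :=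
  isElementaryAbelian_map _ (largestPReduced_isElementaryAbelian p ↥L)

theorem le_normalizer_largestPReducedOf {G : Type*} [Group G] (p : ℕ) (L : Subgroup G) :
    L ≤ Subgroup.normalizer ((largestPReducedOf p L : Subgroup G) : Set G) :=
  haveI := largestPReduced_normal p ↥L
  map_subtype_le_normalizer _

theorem mem_centralizer_subtype_iff {G : Type*} [Group G] {L : Subgroup G} (V : Subgroup ↥L)
    (x : ↥L) : x ∈ Subgroup.centralizer (V : Set ↥L) ↔
      (x : G) ∈ Subgroup.centralizer ((V.map L.subtype : Subgroup G) : Set G) := by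
  rw [Subgroup.mem_centralizer_iff, Subgroup.mem_centralizer_iff]
  constructor
  · rintro h _ ⟨v, hv, rfl⟩
    exact congrArg Subtype.val (h v hv)
  · intro h v hv
    exact Subtype.ext (h v.1 ⟨v, hv, rfl⟩)

theorem pCoreOf_le_centralizer_largestPReducedOf {G : Type*} [Group G] (p : ℕ) (L : Subgroup G) :
    pCoreOf p L ≤ Subgroup.centralizer ((largestPReducedOf p L : Subgroup G) : Set G) := by
  rintro _ ⟨x, hx, rfl⟩
  exact (mem_centralizer_subtype_iff _ x).mp (pCore_le_centralizer_largestPReduced p ↥L hx)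

/-- `O_p(X / C_X(V)) = 1`, stated inside the ambient group. -/
def PRedIn {H : Type*} [Group H] (p : ℕ) (X V : Subgroup H) : Prop :=
  ∀ D : Subgroup H, D ≤ X → X ≤ Subgroup.normalizer (D : Set H) →
    (∀ d ∈ D, ∃ k : ℕ, d ^ (p ^ k) ∈ Subgroup.centralizer (V : Set H)) →
    D ≤ Subgroup.centralizer (V : Set H)

theorem pRedIn_iff {H : Type*} [Group H] {p : ℕ} (X : Subgroup H) (V : Subgroup ↥X)
    [hCn : (Subgroup.centralizer (V : Set ↥X)).Normal] :
    pCore p (↥X ⧸ Subgroup.centralizer (V : Set ↥X)) = ⊥ ↔ PRedIn p X (V.map X.subtype) := by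
  rw [pCore_quotient_eq_bot_iff]
  constructor
  · intro h D hDX hXD hDp
    have hn : (D.subgroupOf X).Normal := (Subgroup.normal_subgroupOf_iff_le_normalizer hDX).mpr hXD
    have h1 := h (D.subgroupOf X) hn (by
      intro d hd
      obtain ⟨k, hk⟩ := hDp d.1 (Subgroup.mem_subgroupOf.mp hd)
      refine ⟨k, ?_⟩
      rw [mem_centralizer_subtype_iff, Subgroup.coe_pow]
      exact hk)
    intro d hd
    have := h1 (show (⟨d, hDX hd⟩ : ↥X) ∈ D.subgroupOf X from Subgroup.mem_subgroupOf.mpr hd)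
    exact (mem_centralizer_subtype_iff _ _).mp this
  · intro h D hD hDp
    have h1 := h (D.map X.subtype) (Subgroup.map_subtype_le _) (map_subtype_le_normalizer D) (by
      rintro _ ⟨d, hd, rfl⟩
      obtain ⟨k, hk⟩ := hDp d hd
      refine ⟨k, ?_⟩
      have := (mem_centralizer_subtype_iff _ _).mp hk
      rwa [Subgroup.coe_pow] at this)
    intro d hd
    rw [mem_centralizer_subtype_iff]
    exact h1 ⟨d, hd, rfl⟩

theorem pRedIn_largestPReducedOf {H : Type*} [Group H] (p : ℕ) (M : Subgroup H) :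
    PRedIn p M (largestPReducedOf p M) := by
  obtain ⟨_, _, hCn, hcore⟩ := largestPReduced_isPReducedNormal p ↥M
  exact (pRedIn_iff M _).mp hcore

theorem le_normalizer_sup {G : Type*} [Group G] {K A B : Subgroup G}
    (hA : K ≤ Subgroup.normalizer (A : Set G)) (hB : K ≤ Subgroup.normalizer (B : Set G)) :
    K ≤ Subgroup.normalizer ((A ⊔ B : Subgroup G) : Set G) := by
  intro k hk
  rw [mem_normalizer_iff_cj, cj_sup, cj_of_mem_normalizer (hA hk), cj_of_mem_normalizer (hB hk)]

theorem le_normalizer_inf' {G : Type*} [Group G] {K A B : Subgroup G}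
    (hA : K ≤ Subgroup.normalizer (A : Set G)) (hB : K ≤ Subgroup.normalizer (B : Set G)) :
    K ≤ Subgroup.normalizer ((A ⊓ B : Subgroup G) : Set G) := by
  intro k hk
  rw [mem_normalizer_iff_cj, cj_inf, cj_of_mem_normalizer (hA hk), cj_of_mem_normalizer (hB hk)]

theorem exists_pow_mul_eq {G : Type*} [Group G] {C : Subgroup G} {d c : G}
    (hd : d ∈ Subgroup.normalizer (C : Set G)) (hc : c ∈ C) (n : ℕ) :
    ∃ c' ∈ C, (d * c) ^ n = d ^ n * c' := by
  induction n with
  | zero => exact ⟨1, C.one_mem, by simp⟩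
  | succ n ih =>
    obtain ⟨c', hc', h⟩ := ih
    refine ⟨d⁻¹ * c' * d * c, C.mul_mem ?_ hc, ?_⟩
    · have := conj_mem_of_mem_normalizer' hd hc'
      exact this
    · rw [pow_succ, h, pow_succ]; group

/-- Transfer of `p`-reducedness between subgroups with the same product with `C(V)`. -/
theorem PRedIn.transfer {H : Type*} [Group H] {p : ℕ} {M L V : Subgroup H} (hM : PRedIn p M V)
    (hMV : M ≤ Subgroup.normalizer (V : Set H))
    (h : L ⊔ Subgroup.centralizer (V : Set H) = M ⊔ Subgroup.centralizer (V : Set H)) :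
    PRedIn p L V := by
  have hNC := normalizer_le_normalizer_centralizer V
  have hCV : Subgroup.centralizer (V : Set H) ≤ Subgroup.normalizer (V : Set H) :=
    Subgroup.centralizer_le_normalizer _
  have hLV : L ≤ Subgroup.normalizer (V : Set H) := by
    refine le_trans le_sup_left (h.le.trans (sup_le hMV hCV))
  intro D hDL hLD hDp
  have hDC : D ≤ Subgroup.normalizer ((Subgroup.centralizer (V : Set H) : Subgroup H) : Set H) :=
    hDL.trans (hLV.trans hNC)
  have hMn : M ≤ Subgroup.normalizer ((D ⊔ Subgroup.centralizer (V : Set H) : Subgroup H) : Set H) := by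
    have h1 : L ⊔ Subgroup.centralizer (V : Set H) ≤
        Subgroup.normalizer ((D ⊔ Subgroup.centralizer (V : Set H) : Subgroup H) : Set H) := by
      refine sup_le (le_normalizer_sup hLD (hLV.trans hNC)) ?_
      exact le_trans le_sup_right Subgroup.le_normalizer
    exact le_trans le_sup_left (h.ge.trans h1)
  have hD' := hM ((D ⊔ Subgroup.centralizer (V : Set H)) ⊓ M) inf_le_right
    (le_normalizer_inf' hMn Subgroup.le_normalizer) (by
      intro x hx
      obtain ⟨d, hd, c, hc, rfl⟩ := mem_sup_of_le_normalizer hDC (Subgroup.mem_inf.mp hx).1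
      obtain ⟨k, hk⟩ := hDp d hd
      obtain ⟨c', hc', e⟩ := exists_pow_mul_eq (hDC hd) hc (p ^ k)
      exact ⟨k, by rw [e]; exact Subgroup.mul_mem _ hk hc'⟩)
  intro d hd
  have hd' : d ∈ M ⊔ Subgroup.centralizer (V : Set H) := h.le (le_sup_left (a := L) (hDL hd))
  obtain ⟨m, hm, c, hc, rfl⟩ := mem_sup_of_le_normalizer (hMV.trans hNC) hd'
  have hmD : m ∈ (D ⊔ Subgroup.centralizer (V : Set H)) ⊓ M := by
    refine Subgroup.mem_inf.mpr ⟨?_, hm⟩
    have e : m = (m * c) * c⁻¹ := by group
    rw [e]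
    exact Subgroup.mul_mem _ (le_sup_left (a := D) hd) (le_sup_right (a := D) (Subgroup.inv_mem _ hc))
  exact Subgroup.mul_mem _ (hD' hmD) hc

/-- A normal elementary abelian subgroup of `L` that is `p`-reduced lies in `Y_L`. -/
theorem le_largestPReducedOf {H : Type*} [Group H] {p : ℕ} {L V : Subgroup H} (hVL : V ≤ L)
    (hLV : L ≤ Subgroup.normalizer (V : Set H)) (hVel : IsElementaryAbelian p V)
    (hred : PRedIn p L V) : V ≤ largestPReducedOf p L := by
  have hn : (V.subgroupOf L).Normal := (Subgroup.normal_subgroupOf_iff_le_normalizer hVL).mpr hLV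
  have hmap : (V.subgroupOf L).map L.subtype = V := Subgroup.map_subgroupOf_eq_of_le hVL
  have hP : IsPReducedNormal p (V.subgroupOf L) := by
    refine ⟨hn, isElementaryAbelian_subgroupOf L hVel, inferInstance, ?_⟩
    rw [pRedIn_iff, hmap]
    exact hred
  have := Subgroup.map_mono (f := L.subtype) (le_largestPReduced hP)
  rw [hmap] at this
  exact this

end Cfsg.Agent.H53
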