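import Mathlib
import Cfsg.Prelude.Def_LocalStructure
import Cfsg.Agent.H53.PRed

set_option autoImplicit false

namespace Cfsg.Agent.H53

open Cfsg
open scoped commutatorElement Pointwise

theorem pCoreOf_le_sylow {G : Type*} [Group G] {p : ℕ} (S : Sylow p G) {M : Subgroup G}
    (hSM : (S : Subgroup G) ≤ M) : pCoreOf p M ≤ (S : Subgroup G) := by
  have h1 : pCoreOf p M ≤ ((S.subtype hSM : Sylow p ↥M) : Subgroup ↥M).map M.subtype :=
    Subgroup.map_mono (pCore_le_sylow (S.subtype hSM))
  refine le_trans h1 ?_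
  rw [Sylow.coe_subtype, Subgroup.map_subgroupOf_eq_of_le hSM]

theorem centralizer_largestPReduced_eq {G : Type*} [Group G] (p : ℕ) (M : Subgroup G) :
    Subgroup.centralizer (largestPReduced p ↥M : Set ↥M) =
      (Subgroup.centralizer (largestPReducedOf p M : Set G)).subgroupOf M := by
  ext x
  rw [Subgroup.mem_subgroupOf, mem_centralizer_subtype_iff]
  rfl

/-- If `C_M(Y_M)` is `p`-closed, every `p`-subgroup of `C_M(Y_M)` lies in `O_p(M)`. -/
theorem le_pCoreOf_of_isPClosed_centralizer {G : Type*} [Group G] {p : ℕ} {M : Subgroup G}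
    (hcl : IsPClosed p ↥(M ⊓ Subgroup.centralizer (largestPReducedOf p M : Set G)))
    {R : Subgroup G} (hRM : R ≤ M)
    (hRC : R ≤ Subgroup.centralizer (largestPReducedOf p M : Set G))
    (hR : IsPGroup p ↥R) : R ≤ pCoreOf p M := by
  have h1 := isPClosed_subgroupOf_of_inf M _ hcl
  rw [← centralizer_largestPReduced_eq] at h1
  have hn := largestPReduced_normal p ↥M
  have h2 : R.subgroupOf M ≤ pCore p ↥M := by
    apply le_pCore_of_le_normal_isPClosed h1 _ hR.comap_subtype
    intro x hx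
    rw [centralizer_largestPReduced_eq, Subgroup.mem_subgroupOf]
    exact hRC (Subgroup.mem_subgroupOf.mp hx)
  intro r hr
  exact mem_pCoreOf.mpr ⟨hRM hr, h2 (Subgroup.mem_subgroupOf.mpr hr)⟩

/-- `O_p(M) = S ∩ C_G(Y_M)` when `C_M(Y_M)` is `p`-closed. -/
theorem pCoreOf_eq_sylow_inf_centralizer {G : Type*} [Group G] {p : ℕ} (S : Sylow p G)
    {M : Subgroup G} (hSM : (S : Subgroup G) ≤ M)
    (hcl : IsPClosed p ↥(M ⊓ Subgroup.centralizer (largestPReducedOf p M : Set G))) :
    pCoreOf p M = (S : Subgroup G) ⊓ Subgroup.centralizer (largestPReducedOf p M : Set G) :=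
  le_antisymm (le_inf (pCoreOf_le_sylow S hSM) (pCoreOf_le_centralizer_largestPReducedOf p M))
    (le_pCoreOf_of_isPClosed_centralizer hcl (inf_le_left.trans hSM) inf_le_right
      (S.isPGroup'.to_le inf_le_left))

/-- `M† = M C_G(Y_M)` normalizes `Y_M` and `C_G(Y_M)`. -/
theorem dagger_le_normalizer {G : Type*} [Group G] (p : ℕ) (M : Subgroup G) :
    M ⊔ Subgroup.centralizer (largestPReducedOf p M : Set G) ≤
      Subgroup.normalizer ((largestPReducedOf p M : Subgroup G) : Set G) :=
  sup_le (le_normalizer_largestPReducedOf p M) (Subgroup.centralizer_le_normalizer _)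

/-- `O_p(M)` is weakly closed in `M†` when `C_M(Y_M)` is `p`-closed. -/
theorem isWeaklyClosedSubgroup_pCoreOf_dagger {G : Type*} [Group G] [Finite G] {p : ℕ}
    [Fact p.Prime] (S : Sylow p G) {M : Subgroup G} (hSM : (S : Subgroup G) ≤ M)
    (hcl : IsPClosed p ↥(M ⊓ Subgroup.centralizer (largestPReducedOf p M : Set G))) :
    IsWeaklyClosedSubgroup p ((pCoreOf p M).subgroupOf
      (M ⊔ Subgroup.centralizer (largestPReducedOf p M : Set G))) := by
  have hO := pCoreOf_eq_sylow_inf_centralizer S hSM hcl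
  have hSMd : (S : Subgroup G) ≤ M ⊔ Subgroup.centralizer (largestPReducedOf p M : Set G) :=
    hSM.trans le_sup_left
  have hN := (dagger_le_normalizer p M).trans (normalizer_le_normalizer_centralizer _)
  refine ⟨S.subtype hSMd, ?_, ?_⟩
  · intro x hx
    rw [Sylow.coe_subtype, Subgroup.mem_subgroupOf]
    exact pCoreOf_le_sylow S hSM (Subgroup.mem_subgroupOf.mp hx)
  · intro g hg
    apply cj_eq_self_of_le_of_card
    rintro _ ⟨o, ho, rfl⟩
    have h1 := hg ⟨o, ho, rfl⟩
    rw [Sylow.coe_subtype, Subgroup.mem_subgroupOf] at h1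
    rw [Subgroup.mem_subgroupOf, hO]
    refine Subgroup.mem_inf.mpr ⟨h1, ?_⟩
    have ho' : (o : G) ∈ pCoreOf p M := Subgroup.mem_subgroupOf.mp ho
    rw [hO] at ho'
    exact conj_mem_of_mem_normalizer (hN g.2) (Subgroup.mem_inf.mp ho').2

end Cfsg.Agent.H53
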