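import Mathlib
import Cfsg.Prelude.Def_LocalStructure
import Cfsg.Agent.H53.PRed2

set_option autoImplicit false

namespace Cfsg.Agent.H53

open Cfsg
open scoped commutatorElement Pointwise

/-- For `Y` asymmetric and elementary abelian with `Y ≤ R ≤ N(Y)`, the normal closure of `Y` in
`N(R)` is elementary abelian. -/
theorem isElementaryAbelian_normalClosure_of_asymmetric {G : Type*} [Group G] [Finite G] {p : ℕ}
    {Y R : Subgroup G} (hYel : IsElementaryAbelian p Y) (hasym : ¬ IsSymmetricIn Y) (hYR : Y ≤ R)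
    (hRN : R ≤ Subgroup.normalizer (Y : Set G)) :
    IsElementaryAbelian p ((Subgroup.normalClosure
      ((Y.subgroupOf (Subgroup.normalizer (R : Set G)) :
        Subgroup ↥(Subgroup.normalizer (R : Set G))) :
        Set ↥(Subgroup.normalizer (R : Set G)))).map (Subgroup.normalizer (R : Set G)).subtype) := by
  have hYel' := isElementaryAbelian_iff.mp hYel
  have key : ∀ g ∈ Subgroup.normalizer (R : Set G), cj(g, Y) ≤ Subgroup.centralizer (Y : Set G) := by
    intro g hg
    have hgR : cj(g, R) = R := cj_of_mem_normalizer hg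
    have h1 : cj(g, Y) ≤ Subgroup.normalizer (Y : Set G) := by
      refine le_trans (cj_mono g hYR) ?_
      rw [hgR]; exact hRN
    have h2 : Y ≤ Subgroup.normalizer ((cj(g, Y) : Subgroup G) : Set G) := by
      rw [← cj_normalizer]
      refine le_trans hYR ?_
      rw [← hgR]; exact cj_mono g hRN
    have h3 : ⁅Y, cj(g, Y)⁆ ≤ Y ⊓ cj(g, Y) := commutator_le_inf_of_le_normalizer h2 h1
    have h4 : ⁅Y, cj(g, Y)⁆ = ⊥ := by
      by_contra hne
      exact hasym ⟨g, hne, h3⟩
    rw [Subgroup.le_centralizer_iff]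
    exact Subgroup.commutator_eq_bot_iff_le_centralizer.mp h4
  have hW : IsElementaryAbelian p (⨆ g : ↥(Subgroup.normalizer (R : Set G)), cj((g : G), Y)) := by
    rw [iSup]
    apply isElementaryAbelian_sSup
    · rintro _ ⟨g, rfl⟩ _ ⟨a, ha, rfl⟩
      rw [← map_pow, hYel'.2 a ha, map_one]
    · rintro _ ⟨g, rfl⟩ _ ⟨h, rfl⟩
      have h1 := key ((h : G)⁻¹ * g) (Subgroup.mul_mem _ (Subgroup.inv_mem _ h.2) g.2)
      have h2 := cj_mono (h : G) h1
      rw [cj_cj, cj_centralizer] at h2
      have e : (h : G) * ((h : G)⁻¹ * g) = g := by group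
      rw [e] at h2
      exact h2
  have hWN : (⨆ g : ↥(Subgroup.normalizer (R : Set G)), cj((g : G), Y)) ≤
      Subgroup.normalizer (R : Set G) := by
    apply iSup_le
    intro g
    refine le_trans (cj_mono _ hYR) ?_
    rw [cj_of_mem_normalizer g.2]
    exact Subgroup.le_normalizer
  have hNW : Subgroup.normalizer (R : Set G) ≤ Subgroup.normalizer
      (((⨆ g : ↥(Subgroup.normalizer (R : Set G)), cj((g : G), Y)) : Subgroup G) : Set G) := by
    intro n hn
    rw [mem_normalizer_iff_cj]
    apply cj_eq_self_of_le_of_card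
    rw [Subgroup.map_iSup]
    apply iSup_le
    intro g
    rw [cj_cj]
    exact le_iSup (fun g : ↥(Subgroup.normalizer (R : Set G)) => cj((g : G), Y))
      ⟨n * g, Subgroup.mul_mem _ hn g.2⟩
  have hn : ((⨆ g : ↥(Subgroup.normalizer (R : Set G)), cj((g : G), Y)).subgroupOf
      (Subgroup.normalizer (R : Set G))).Normal :=
    (Subgroup.normal_subgroupOf_iff_le_normalizer hWN).mpr hNW
  have hYW : Y ≤ ⨆ g : ↥(Subgroup.normalizer (R : Set G)), cj((g : G), Y) := by
    have := le_iSup (fun g : ↥(Subgroup.normalizer (R : Set G)) => cj((g : G), Y)) 1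
    simp only [OneMemClass.coe_one] at this
    rwa [cj_one] at this
  have hle : Subgroup.normalClosure
      ((Y.subgroupOf (Subgroup.normalizer (R : Set G)) :
        Subgroup ↥(Subgroup.normalizer (R : Set G))) :
        Set ↥(Subgroup.normalizer (R : Set G))) ≤
      (⨆ g : ↥(Subgroup.normalizer (R : Set G)), cj((g : G), Y)).subgroupOf
        (Subgroup.normalizer (R : Set G)) := by
    apply Subgroup.normalClosure_le_normal
    intro x hx
    exact Subgroup.mem_subgroupOf.mpr (hYW (Subgroup.mem_subgroupOf.mp hx))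
  refine isElementaryAbelian_of_le ?_ hW
  rintro _ ⟨x, hx, rfl⟩
  exact Subgroup.mem_subgroupOf.mp (hle hx)

end Cfsg.Agent.H53
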