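import Mathlib
import Cfsg.Prelude.Def_LocalStructure
import Cfsg.Agent.H53.PRed3

set_option autoImplicit false

namespace Cfsg.Agent.H53

open Cfsg
open scoped commutatorElement Pointwise

/-- Paths of length `n` for a relation. -/
def Reach {V : Type*} (adj : V → V → Prop) : ℕ → V → V → Prop
  | 0, a, b => a = b
  | (n + 1), a, b => ∃ c, adj a c ∧ Reach adj n c b

theorem reach_succ_right {V : Type*} (adj : V → V → Prop) :
    ∀ (n : ℕ) (a b : V), Reach adj (n + 1) a b → ∃ c, Reach adj n a c ∧ adj c b := by
  intro n
  induction n with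
  | zero =>
    rintro a b ⟨c, hac, hcb⟩
    have hcb' : c = b := hcb
    subst hcb'
    exact ⟨a, rfl, hac⟩
  | succ n ih =>
    rintro a b ⟨c, hac, hcb⟩
    obtain ⟨d, hcd, hdb⟩ := ih c b hcb
    exact ⟨d, ⟨c, hac, hcd⟩, hdb⟩

/-- The path induction of the amalgam method: a relation which propagates along "both ends" of a
path holds between the two ends of every path. -/
theorem rel_of_reach {V : Type*} (adj R : V → V → Prop) (hsymm : ∀ a b, adj a b → adj b a)
    (hrefl : ∀ a, R a a)
    (hstep : ∀ a b c d, R a c → adj c b → R d b → adj d a → R a b) :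
    ∀ (n : ℕ) (a b : V), Reach adj n a b → R a b := by
  intro n
  induction n with
  | zero =>
    intro a b h
    have h' : a = b := h
    subst h'
    exact hrefl a
  | succ n ih =>
    intro a b h
    obtain ⟨c, hac, hcb⟩ := reach_succ_right adj n a b h
    obtain ⟨d, had, hdb⟩ := h
    exact hstep a b c d (ih a c hac) hcb (ih d b hdb) (hsymm a d had)

theorem reach_translate {V : Type*} (adj : V → V → Prop) (f : V → V)
    (hf : ∀ a b, adj a b → adj (f a) (f b)) :
    ∀ (n : ℕ) (a b : V), Reach adj n a b → Reach adj n (f a) (f b) := by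
  intro n
  induction n with
  | zero =>
    intro a b h
    have h' : a = b := h
    subst h'
    exact rfl
  | succ n ih =>
    rintro a b ⟨c, hac, hcb⟩
    exact ⟨f c, hf a c hac, ih c b hcb⟩

end Cfsg.Agent.H53
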