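import Mathlib
import Cfsg.Prelude.Def_LocalStructure
import Cfsg.Agent.H53.Asym1
import Cfsg.Agent.H53.WC2

set_option autoImplicit false

namespace Cfsg.Agent.H53

open Cfsg
open scoped commutatorElement Pointwise

/-- Adjacency: the conjugates `aPa⁻¹` and `bPb⁻¹` normalize each other. -/
def AAdj {G : Type*} [Group G] (P : Subgroup G) (a b : G) : Prop :=
  cj(a, P) ≤ Subgroup.normalizer ((cj(b, P) : Subgroup G) : Set G) ∧
    cj(b, P) ≤ Subgroup.normalizer ((cj(a, P) : Subgroup G) : Set G)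

/-- The relation propagated along paths: `aYa⁻¹ ≤ bPb⁻¹` and `bYb⁻¹ ≤ aPa⁻¹`. -/
def ARel {G : Type*} [Group G] (P Y : Subgroup G) (a b : G) : Prop :=
  cj(a, Y) ≤ cj(b, P) ∧ cj(b, Y) ≤ cj(a, P)

theorem aAdj_symm {G : Type*} [Group G] (P : Subgroup G) (a b : G) (h : AAdj P a b) :
    AAdj P b a := ⟨h.2, h.1⟩

theorem aAdj_translate {G : Type*} [Group G] (P : Subgroup G) (c a b : G) (h : AAdj P a b) :
    AAdj P (c * a) (c * b) := by
  constructor
  · rw [← cj_cj, ← cj_cj, ← cj_normalizer]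
    exact cj_mono c h.1
  · rw [← cj_cj, ← cj_cj, ← cj_normalizer]
    exact cj_mono c h.2

/-- Asymmetry for an arbitrary pair of conjugates. -/
theorem asym_cj {G : Type*} [Group G] {Y : Subgroup G} (hasym : ¬ IsSymmetricIn Y) (a b : G)
    (h1 : cj(a, Y) ≤ Subgroup.normalizer ((cj(b, Y) : Subgroup G) : Set G))
    (h2 : cj(b, Y) ≤ Subgroup.normalizer ((cj(a, Y) : Subgroup G) : Set G)) :
    cj(a, Y) ≤ Subgroup.centralizer ((cj(b, Y) : Subgroup G) : Set G) := by
  have e : cj(a, (cj((a⁻¹ * b), Y))) = cj(b, Y) := by rw [cj_cj, mul_inv_cancel_left]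
  have h1' : Y ≤ Subgroup.normalizer ((cj((a⁻¹ * b), Y) : Subgroup G) : Set G) := by
    have := cj_mono a⁻¹ h1
    rw [cj_inv_cj, cj_normalizer, cj_cj] at this
    exact this
  have h2' : cj((a⁻¹ * b), Y) ≤ Subgroup.normalizer (Y : Set G) := by
    have := cj_mono a⁻¹ h2
    rw [cj_cj, cj_normalizer, cj_inv_cj] at this
    exact this
  have h3 : ⁅Y, cj((a⁻¹ * b), Y)⁆ ≤ Y ⊓ cj((a⁻¹ * b), Y) :=
    commutator_le_inf_of_le_normalizer h1' h2'
  have h4 : ⁅Y, cj((a⁻¹ * b), Y)⁆ = ⊥ := by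
    by_contra hne
    exact hasym ⟨a⁻¹ * b, hne, h3⟩
  have h5 : Y ≤ Subgroup.centralizer ((cj((a⁻¹ * b), Y) : Subgroup G) : Set G) :=
    Subgroup.commutator_eq_bot_iff_le_centralizer.mp h4
  have := cj_mono a h5
  rw [cj_centralizer, e] at this
  exact this

/-- The hypotheses of the asymmetric weak-closure argument. -/
structure AsymHyp (p : ℕ) {G : Type*} [Group G] (P Y : Subgroup G) : Prop where
  hP : IsPGroup p ↥P
  hYP : Y ≤ P
  hPY : P ≤ Subgroup.centralizer (Y : Set G)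
  hNY : Subgroup.normalizer (P : Set G) ≤ Subgroup.normalizer (Y : Set G)
  hasym : ¬ IsSymmetricIn Y
  hSyl : ∀ A : Subgroup G, IsPGroup p ↥A → A ≤ Subgroup.normalizer (P : Set G) →
    A ≤ Subgroup.centralizer (Y : Set G) → A ≤ P

section

variable {p : ℕ} {G : Type*} [Group G] {P Y : Subgroup G}

theorem AsymHyp.hNY_cj (h : AsymHyp p P Y) (x : G) :
    Subgroup.normalizer ((cj(x, P) : Subgroup G) : Set G) ≤
      Subgroup.normalizer ((cj(x, Y) : Subgroup G) : Set G) := by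
  rw [← cj_normalizer, ← cj_normalizer]
  exact cj_mono x h.hNY

theorem AsymHyp.hSyl_cj (h : AsymHyp p P Y) (x : G) (A : Subgroup G) (hA : IsPGroup p ↥A)
    (hAN : A ≤ Subgroup.normalizer ((cj(x, P) : Subgroup G) : Set G))
    (hAC : A ≤ Subgroup.centralizer ((cj(x, Y) : Subgroup G) : Set G)) : A ≤ cj(x, P) := by
  have h1 : cj(x⁻¹, A) ≤ Subgroup.normalizer (P : Set G) := by
    have := cj_mono x⁻¹ hAN
    rw [cj_normalizer, cj_inv_cj] at this
    exact this
  have h2 : cj(x⁻¹, A) ≤ Subgroup.centralizer (Y : Set G) := by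
    have := cj_mono x⁻¹ hAC
    rw [cj_centralizer, cj_inv_cj] at this
    exact this
  have h3 := h.hSyl _ (isPGroup_cj x⁻¹ hA) h1 h2
  rw [cj_le_iff, inv_inv] at h3
  exact h3

theorem AsymHyp.step (h : AsymHyp p P Y) (a b c d : G) (hac : ARel P Y a c) (hcb : AAdj P c b)
    (hdb : ARel P Y d b) (hda : AAdj P d a) : ARel P Y a b := by
  have h1 : cj(a, Y) ≤ Subgroup.normalizer ((cj(b, Y) : Subgroup G) : Set G) :=
    hac.1.trans (hcb.1.trans (h.hNY_cj b))
  have h2 : cj(b, Y) ≤ Subgroup.normalizer ((cj(a, Y) : Subgroup G) : Set G) :=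
    hdb.2.trans (hda.1.trans (h.hNY_cj a))
  have hc1 := asym_cj h.hasym a b h1 h2
  have hc2 := asym_cj h.hasym b a h2 h1
  have hYp : IsPGroup p ↥Y := h.hP.to_le h.hYP
  exact ⟨h.hSyl_cj b _ (isPGroup_cj a hYp) (hac.1.trans hcb.1) hc1,
    h.hSyl_cj a _ (isPGroup_cj b hYp) (hdb.2.trans hda.1) hc2⟩

theorem AsymHyp.rel_refl (h : AsymHyp p P Y) (a : G) : ARel P Y a a :=
  ⟨cj_mono a h.hYP, cj_mono a h.hYP⟩

/-- **Core of the asymmetric argument**: if `P` and `gPg⁻¹` normalize each other, they are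
equal. -/
theorem AsymHyp.core [Finite G] (h : AsymHyp p P Y) (hY1 : Y ≠ ⊥)
    (hmax : ∀ I : Subgroup G, I ≠ ⊥ → IsPGroup p ↥I →
      Subgroup.normalizer (P : Set G) ≤ Subgroup.normalizer (I : Set G) →
      Subgroup.normalizer (I : Set G) ≤ Subgroup.normalizer (Y : Set G))
    (g : G) (hg1 : cj(g, P) ≤ Subgroup.normalizer (P : Set G))
    (hg2 : P ≤ Subgroup.normalizer ((cj(g, P) : Subgroup G) : Set G)) : cj(g, P) = P := by
  obtain ⟨U, hU⟩ : ∃ U : Subgroup G,
      U = ⨆ a : {a : G // ∃ n : ℕ, Reach (AAdj P) n 1 a}, cj((a : G), Y) := ⟨_, rfl⟩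
  have hrel : ∀ (n : ℕ) (a b : G), Reach (AAdj P) n a b → ARel P Y a b :=
    rel_of_reach (AAdj P) (ARel P Y) (aAdj_symm P) h.rel_refl h.step
  have hUP : U ≤ P := by
    rw [hU]
    refine iSup_le ?_
    rintro ⟨a, n, hn⟩
    have := (hrel n 1 a hn).2
    rw [cj_one] at this
    exact this
  have hYU : Y ≤ U := by
    rw [hU]
    refine le_iSup_of_le ⟨1, 0, rfl⟩ ?_
    change Y ≤ cj((1 : G), Y)
    rw [cj_one]
  have hU1 : U ≠ ⊥ := by
    intro hb
    rw [hb] at hYU
    exact hY1 (le_bot_iff.mp hYU)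
  have hUp : IsPGroup p ↥U := h.hP.to_le hUP
  have key : ∀ x : G, AAdj P 1 x → x ∈ Subgroup.normalizer (U : Set G) := by
    intro x hx
    rw [mem_normalizer_iff_cj]
    apply cj_eq_self_of_le_of_card
    rw [hU, Subgroup.map_iSup]
    refine iSup_le ?_
    rintro ⟨a, n, hn⟩
    have hr : Reach (AAdj P) (n + 1) 1 (x * a) := by
      refine ⟨x, hx, ?_⟩
      have := reach_translate (AAdj P) (fun y => x * y) (aAdj_translate P x) n 1 a hn
      simpa using this
    have e : cj(x, (cj(a, Y))) = cj((x * a), Y) := cj_cj x a Y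
    change cj(x, (cj(a, Y))) ≤ _
    rw [e]
    exact le_iSup (fun a : {a : G // ∃ n : ℕ, Reach (AAdj P) n 1 a} => cj((a : G), Y))
      ⟨x * a, n + 1, hr⟩
  have hNP : Subgroup.normalizer (P : Set G) ≤ Subgroup.normalizer (U : Set G) := by
    intro n hn
    apply key
    have e := cj_of_mem_normalizer hn
    refine ⟨?_, ?_⟩
    · rw [cj_one, e]; exact Subgroup.le_normalizer
    · rw [cj_one, e]; exact Subgroup.le_normalizer
  have hgU : g ∈ Subgroup.normalizer (U : Set G) := by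
    apply key
    refine ⟨?_, ?_⟩
    · rw [cj_one]; exact hg2
    · rw [cj_one]; exact hg1
  have hgY : g ∈ Subgroup.normalizer (Y : Set G) := hmax U hU1 hUp hNP hgU
  have hc : cj(g, P) ≤ Subgroup.centralizer (Y : Set G) := by
    have := cj_mono g h.hPY
    rw [cj_centralizer, cj_of_mem_normalizer hgY] at this
    exact this
  exact cj_eq_self_of_le_of_card (h.hSyl _ (isPGroup_cj g h.hP) hg1 hc)

/-- Under the asymmetric hypotheses, `P` is weakly closed. -/
theorem AsymHyp.uniqConj [Fact p.Prime] [Finite G] (h : AsymHyp p P Y) (hY1 : Y ≠ ⊥)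
    (hmax : ∀ I : Subgroup G, I ≠ ⊥ → IsPGroup p ↥I →
      Subgroup.normalizer (P : Set G) ≤ Subgroup.normalizer (I : Set G) →
      Subgroup.normalizer (I : Set G) ≤ Subgroup.normalizer (Y : Set G)) : UniqConj p P := by
  apply uniqConj_of_commutator_criterion
  intro g hg
  apply h.core hY1 hmax g
  · exact Subgroup.le_normalizer_iff_commutator_le_left.mpr (hg.trans inf_le_left)
  · exact Subgroup.le_normalizer_iff_commutator_le_right.mpr (hg.trans inf_le_right)

end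

end Cfsg.Agent.H53
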