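import Mathlib
import Cfsg.Prelude.Def_LocalStructure
import Cfsg.Agent.H53.PRed3

set_option autoImplicit false

namespace Cfsg.Agent.H53

open Cfsg
open scoped commutatorElement Pointwise

/-- The elements of order dividing `p` in an abelian subgroup. -/
def omegaSub {L : Type*} [Group L] (p : ℕ) (Z : Subgroup L)
    (hZ : ∀ a ∈ Z, ∀ b ∈ Z, a * b = b * a) : Subgroup L where
  carrier := {v | v ∈ Z ∧ v ^ p = 1}
  one_mem' := ⟨Z.one_mem, one_pow _⟩
  mul_mem' := by
    rintro a b ⟨ha, ha'⟩ ⟨hb, hb'⟩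
    refine ⟨Z.mul_mem ha hb, ?_⟩
    have hcm : Commute a b := hZ a ha b hb
    rw [hcm.mul_pow, ha', hb', one_mul]
  inv_mem' := by
    rintro a ⟨ha, ha'⟩
    exact ⟨Z.inv_mem ha, by rw [inv_pow, ha', inv_one]⟩

theorem mem_omegaSub {L : Type*} [Group L] {p : ℕ} {Z : Subgroup L}
    {hZ : ∀ a ∈ Z, ∀ b ∈ Z, a * b = b * a} {v : L} :
    v ∈ omegaSub p Z hZ ↔ v ∈ Z ∧ v ^ p = 1 := Iff.rfl

theorem omegaSub_isElementaryAbelian {L : Type*} [Group L] {p : ℕ} {Z : Subgroup L}
    (hZ : ∀ a ∈ Z, ∀ b ∈ Z, a * b = b * a) : IsElementaryAbelian p (omegaSub p Z hZ) := by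
  rw [isElementaryAbelian_iff]
  exact ⟨fun a ha b hb => hZ a ha.1 b hb.1, fun a ha => ha.2⟩

theorem omegaSub_normal {L : Type*} [Group L] {p : ℕ} {Z : Subgroup L}
    (hZ : ∀ a ∈ Z, ∀ b ∈ Z, a * b = b * a) (hZn : Z.Normal) : (omegaSub p Z hZ).Normal := by
  constructor
  intro n hn g
  refine ⟨hZn.conj_mem n hn.1 g, ?_⟩
  rw [conj_pow, hn.2]; simp

/-- **Closure lemma**: the normal closure `V` of `A` is `p`-reduced as soon as it is elementary
abelian and every normal subgroup acting as a `p`-group on `V` has a Sylow `p`-subgroup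
centralizing `A`. -/
theorem isPReducedNormal_normalClosure {p : ℕ} [Fact p.Prime] {L : Type*} [Group L] [Finite L]
    (A : Subgroup L)
    (hVel : IsElementaryAbelian p (Subgroup.normalClosure (A : Set L)))
    (hD : ∀ D : Subgroup L, D.Normal →
      (∀ d ∈ D, ∃ k : ℕ, d ^ (p ^ k) ∈
        Subgroup.centralizer ((Subgroup.normalClosure (A : Set L) : Subgroup L) : Set L)) →
      ∃ P : Sylow p ↥D, (P : Subgroup ↥D).map D.subtype ≤ Subgroup.centralizer (A : Set L)) :
    IsPReducedNormal p (Subgroup.normalClosure (A : Set L)) := by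
  have hVn : (Subgroup.normalClosure (A : Set L)).Normal := Subgroup.normalClosure_normal
  refine ⟨hVn, hVel, inferInstance, ?_⟩
  rw [pCore_quotient_eq_bot_iff]
  intro D hDn hDp
  obtain ⟨P, hP⟩ := hD D hDn hDp
  apply le_of_pow_mem_of_sylow_le hDp P
  have h1 : pResidual p ↥D ≤ (Subgroup.centralizer
      ((Subgroup.normalClosure (A : Set L) : Subgroup L) : Set L)).subgroupOf D := by
    apply pResidual_le_of_pow_mem
    intro g
    obtain ⟨k, hk⟩ := hDp g.1 g.2
    exact ⟨k, by rw [Subgroup.mem_subgroupOf, Subgroup.coe_pow]; exact hk⟩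
  have h2 := pResidual_sup_sylow P
  have h3 := Sylow.normalizer_sup_eq_top P
  rw [Subgroup.le_centralizer_iff]
  show Subgroup.closure (Group.conjugatesOfSet (A : Set L)) ≤ _
  rw [Subgroup.closure_le]
  intro y hy
  rw [Group.mem_conjugatesOfSet_iff] at hy
  obtain ⟨a, ha, hconj⟩ := hy
  rw [isConj_iff] at hconj
  obtain ⟨l, rfl⟩ := hconj
  have hl : l ∈ Subgroup.normalizer ((((P : Subgroup ↥D).map D.subtype : Subgroup L)) : Set L) ⊔ D := by
    rw [h3]; trivial
  obtain ⟨n, hn, d, hd, rfl⟩ := mem_sup_of_le_normalizer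
    (by rw [Subgroup.normalizer_eq_top_iff.mpr hDn]; exact le_top) hl
  have hd' : (⟨d, hd⟩ : ↥D) ∈ (P : Subgroup ↥D) ⊔ pResidual p ↥D := by
    rw [sup_comm, h2]; trivial
  obtain ⟨x, hx, c, hc, e⟩ := mem_sup_of_le_normalizer
    (by rw [Subgroup.normalizer_eq_top_iff.mpr (pResidual_normal p ↥D)]; exact le_top) hd'
  have hd_eq : d = (x : L) * (c : L) := congrArg Subtype.val e
  have hcV : (c : L) ∈ Subgroup.centralizer
      ((Subgroup.normalClosure (A : Set L) : Subgroup L) : Set L) :=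
    Subgroup.mem_subgroupOf.mp (h1 hc)
  have hxA : (x : L) ∈ Subgroup.centralizer (A : Set L) := hP ⟨x, hx, rfl⟩
  have haV : a ∈ Subgroup.normalClosure (A : Set L) := Subgroup.subset_normalClosure ha
  have e1 : (c : L) * a * (c : L)⁻¹ = a := by
    have := (Subgroup.mem_centralizer_iff.mp hcV) a haV
    rw [← this]; group
  have e2 : (x : L) * a * (x : L)⁻¹ = a := by
    have := (Subgroup.mem_centralizer_iff.mp hxA) a ha
    rw [← this]; group
  have e3 : n * d * a * (n * d)⁻¹ = n * a * n⁻¹ := by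
    rw [hd_eq]
    calc n * (↑x * ↑c) * a * (n * (↑x * ↑c))⁻¹
        = n * (↑x * (↑c * a * (↑c : L)⁻¹) * (↑x : L)⁻¹) * n⁻¹ := by group
      _ = n * a * n⁻¹ := by rw [e1, e2]
  rw [e3, SetLike.mem_coe, Subgroup.mem_centralizer_iff]
  intro t ht
  have ht' : n⁻¹ * t * n ∈ ((P : Subgroup ↥D).map D.subtype) := conj_mem_of_mem_normalizer' hn ht
  have := (Subgroup.mem_centralizer_iff.mp (hP ht')) a ha
  calc t * (n * a * n⁻¹) = n * ((n⁻¹ * t * n) * a) * n⁻¹ := by group
    _ = n * (a * (n⁻¹ * t * n)) * n⁻¹ := by rw [← this]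
    _ = n * a * n⁻¹ * t := by group

/-- In a group of characteristic `p`, `Ω₁(Z(C_T(Y_L))) ≤ Y_L`. -/
theorem mem_largestPReduced_of_central {p : ℕ} [Fact p.Prime] {L : Type*} [Group L] [Finite L]
    (hchar : Subgroup.centralizer (pCore p L : Set L) ≤ pCore p L) (T : Sylow p L) {x : L}
    (hxT : x ∈ (T : Subgroup L))
    (hxY : x ∈ Subgroup.centralizer (largestPReduced p L : Set L))
    (hxc : x ∈ Subgroup.centralizer ((((T : Subgroup L) ⊓
      Subgroup.centralizer (largestPReduced p L : Set L) : Subgroup L)) : Set L))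
    (hxp : x ^ p = 1) : x ∈ largestPReduced p L := by
  have hZab : ∀ a ∈ pCore p L ⊓ Subgroup.centralizer (pCore p L : Set L),
      ∀ b ∈ pCore p L ⊓ Subgroup.centralizer (pCore p L : Set L), a * b = b * a := by
    intro a ha b hb
    exact (Subgroup.mem_centralizer_iff.mp hb.2) a ha.1
  have hZn : (pCore p L ⊓ Subgroup.centralizer (pCore p L : Set L)).Normal := inferInstance
  have hEn := omegaSub_normal (p := p) hZab hZn
  have hEel := omegaSub_isElementaryAbelian (p := p) hZab
  have hOT₀ : pCore p L ≤ (T : Subgroup L) ⊓ Subgroup.centralizer (largestPReduced p L : Set L) :=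
    le_inf (pCore_le_sylow T) (pCore_le_centralizer_largestPReduced p L)
  have hmemE : ∀ z ∈ (T : Subgroup L) ⊓ Subgroup.centralizer (largestPReduced p L : Set L),
      z ∈ Subgroup.centralizer ((((T : Subgroup L) ⊓
        Subgroup.centralizer (largestPReduced p L : Set L) : Subgroup L)) : Set L) → z ^ p = 1 →
      z ∈ omegaSub p _ hZab := by
    intro z hz hzc hzp
    have h1 : z ∈ Subgroup.centralizer (pCore p L : Set L) :=
      Subgroup.centralizer_le (by exact_mod_cast hOT₀) hzc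
    exact ⟨⟨hchar h1, h1⟩, hzp⟩
  have hYab := isElementaryAbelian_iff.mp (largestPReduced_isElementaryAbelian p L)
  have hYY : largestPReduced p L ≤ Subgroup.centralizer (largestPReduced p L : Set L) := by
    intro y hy
    rw [Subgroup.mem_centralizer_iff]
    intro z hz
    exact hYab.1 z hz y hy
  have hYT₀ : largestPReduced p L ≤
      (T : Subgroup L) ⊓ Subgroup.centralizer (largestPReduced p L : Set L) :=
    le_inf ((largestPReduced_le_pCore p L).trans (pCore_le_sylow T)) hYY
  have hYc : largestPReduced p L ≤ Subgroup.centralizer ((((T : Subgroup L) ⊓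
      Subgroup.centralizer (largestPReduced p L : Set L) : Subgroup L)) : Set L) := by
    rw [Subgroup.le_centralizer_iff]; exact inf_le_right
  have hYE : largestPReduced p L ≤ omegaSub p _ hZab :=
    fun y hy => hmemE y (hYT₀ hy) (hYc hy) (hYab.2 y hy)
  have hxE : x ∈ omegaSub p _ hZab := hmemE x ⟨hxT, hxY⟩ hxc hxp
  have hAE : largestPReduced p L ⊔ Subgroup.zpowers x ≤ omegaSub p _ hZab :=
    sup_le hYE (by rw [Subgroup.zpowers_le]; exact hxE)
  have hAc : largestPReduced p L ⊔ Subgroup.zpowers x ≤ Subgroup.centralizer ((((T : Subgroup L) ⊓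
      Subgroup.centralizer (largestPReduced p L : Set L) : Subgroup L)) : Set L) :=
    sup_le hYc (by rw [Subgroup.zpowers_le]; exact hxc)
  have hVE : Subgroup.normalClosure ((largestPReduced p L ⊔ Subgroup.zpowers x : Subgroup L) : Set L) ≤
      omegaSub p _ hZab := Subgroup.normalClosure_le_normal hAE
  have hVel := isElementaryAbelian_of_le hVE hEel
  have hAV : largestPReduced p L ⊔ Subgroup.zpowers x ≤
      Subgroup.normalClosure ((largestPReduced p L ⊔ Subgroup.zpowers x : Subgroup L) : Set L) :=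
    Subgroup.le_normalClosure
  have hred := isPReducedNormal_normalClosure (largestPReduced p L ⊔ Subgroup.zpowers x) hVel (by
    intro D hDn hDp
    have hDY : D ≤ Subgroup.centralizer (largestPReduced p L : Set L) := by
      obtain ⟨_, _, hCn, hcore⟩ := largestPReduced_isPReducedNormal p L
      refine (pCore_quotient_eq_bot_iff _).mp hcore D hDn (fun d hd => ?_)
      obtain ⟨k, hk⟩ := hDp d hd
      exact ⟨k, Subgroup.centralizer_le (by exact_mod_cast (le_sup_left.trans hAV)) hk⟩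
    obtain ⟨P, hP⟩ := sylow_subgroupOf_normal D T
    refine ⟨P, ?_⟩
    rintro _ ⟨z, hz, rfl⟩
    rw [hP, SetLike.mem_coe, Subgroup.mem_subgroupOf] at hz
    have hzT₀ : (z : L) ∈ (T : Subgroup L) ⊓ Subgroup.centralizer (largestPReduced p L : Set L) :=
      ⟨hz, hDY z.2⟩
    exact (Subgroup.le_centralizer_iff.mp hAc) hzT₀)
  exact le_largestPReduced hred (hAV (le_sup_right (a := largestPReduced p L) (Subgroup.mem_zpowers x)))

theorem mem_largestPReducedOf_of_central {p : ℕ} [Fact p.Prime] {H : Type*} [Group H] [Finite H]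
    (T : Sylow p H) {L : Subgroup H} (hTL : (T : Subgroup H) ≤ L)
    (hL : Subgroup.centralizer (pCore p ↥L : Set ↥L) ≤ pCore p ↥L) {x : H}
    (hxT : x ∈ (T : Subgroup H))
    (hxY : x ∈ Subgroup.centralizer (largestPReducedOf p L : Set H))
    (hxc : x ∈ Subgroup.centralizer ((((T : Subgroup H) ⊓
      Subgroup.centralizer (largestPReducedOf p L : Set H) : Subgroup H)) : Set H))
    (hxp : x ^ p = 1) : x ∈ largestPReducedOf p L := by
  have h := mem_largestPReduced_of_central hL (T.subtype hTL) (x := ⟨x, hTL hxT⟩)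
    (by rw [Sylow.coe_subtype, Subgroup.mem_subgroupOf]; exact hxT)
    ((mem_centralizer_subtype_iff _ _).mpr hxY)
    (by
      rw [Subgroup.mem_centralizer_iff]
      intro t ht
      obtain ⟨ht1, ht2⟩ := Subgroup.mem_inf.mp ht
      rw [Sylow.coe_subtype, Subgroup.mem_subgroupOf] at ht1
      have ht2' : (t : H) ∈ Subgroup.centralizer (largestPReducedOf p L : Set H) :=
        (mem_centralizer_subtype_iff _ _).mp ht2
      exact Subtype.ext ((Subgroup.mem_centralizer_iff.mp hxc) t ⟨ht1, ht2'⟩))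
    (Subtype.ext (by rw [Subgroup.coe_pow]; exact hxp))
  exact ⟨⟨x, hTL hxT⟩, h, rfl⟩

/-- Frattini argument for `T ∩ C`, `C` normalized by `M ≥ T`. -/
theorem frattini_sylow_inf {p : ℕ} [Fact p.Prime] {H : Type*} [Group H] [Finite H] (T : Sylow p H)
    {M C : Subgroup H} (hTM : (T : Subgroup H) ≤ M) (hMC : M ≤ Subgroup.normalizer (C : Set H)) :
    M ≤ (M ⊓ Subgroup.normalizer ((((T : Subgroup H) ⊓ C : Subgroup H)) : Set H)) ⊔ C := by
  have hN : (C.subgroupOf M).Normal := Subgroup.normal_subgroupOf_of_le_normalizer hMC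
  obtain ⟨Q, hQ⟩ := sylow_subgroupOf_normal (C.subgroupOf M) (T.subtype hTM)
  have h3 := Sylow.normalizer_sup_eq_top Q
  have hmap : (((Q : Subgroup ↥(C.subgroupOf M)).map (C.subgroupOf M).subtype).map M.subtype) =
      (T : Subgroup H) ⊓ C := by
    ext z
    constructor
    · rintro ⟨_, ⟨q, hq, rfl⟩, rfl⟩
      rw [hQ, SetLike.mem_coe, Subgroup.mem_subgroupOf, Sylow.coe_subtype, Subgroup.mem_subgroupOf] at hq
      exact Subgroup.mem_inf.mpr ⟨hq, Subgroup.mem_subgroupOf.mp q.2⟩
    · intro hz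
      obtain ⟨hzT, hzC⟩ := Subgroup.mem_inf.mp hz
      refine ⟨⟨z, hTM hzT⟩, ⟨⟨⟨z, hTM hzT⟩, Subgroup.mem_subgroupOf.mpr hzC⟩, ?_, rfl⟩, rfl⟩
      rw [hQ]
      refine Subgroup.mem_subgroupOf.mpr ?_
      rw [Sylow.coe_subtype]
      exact Subgroup.mem_subgroupOf.mpr hzT
  intro m hm
  have hm' : (⟨m, hm⟩ : ↥M) ∈ Subgroup.normalizer
      ((((Q : Subgroup ↥(C.subgroupOf M)).map (C.subgroupOf M).subtype : Subgroup ↥M)) : Set ↥M) ⊔
        C.subgroupOf M := by rw [h3]; trivial
  obtain ⟨n, hn, c, hc, e⟩ := mem_sup_of_le_normalizer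
    (by rw [Subgroup.normalizer_eq_top_iff.mpr hN]; exact le_top) hm'
  have e' : m = (n : H) * (c : H) := congrArg Subtype.val e
  rw [e']
  refine Subgroup.mul_mem _ (Subgroup.mem_sup_left (Subgroup.mem_inf.mpr ⟨n.2, ?_⟩))
    (Subgroup.mem_sup_right (Subgroup.mem_subgroupOf.mp hc))
  rw [mem_normalizer_iff_cj] at hn
  rw [mem_normalizer_iff_cj, ← hmap]
  have := map_cj M.subtype n ((Q : Subgroup ↥(C.subgroupOf M)).map (C.subgroupOf M).subtype)
  rw [hn] at this
  exact this.symm

/-- The abstract form of the `N_M(C_T(Y_L))` lemma. -/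
theorem largestPReducedOf_eq_of_frattini {p : ℕ} [Fact p.Prime] {H : Type*} [Group H] [Finite H]
    (T : Sylow p H) {L M Y : Subgroup H} (hTL : (T : Subgroup H) ≤ L) (hTM : (T : Subgroup H) ≤ M)
    (hYel : IsElementaryAbelian p Y) (hLY : L ≤ Subgroup.normalizer (Y : Set H))
    (hYT : Y ≤ (T : Subgroup H)) (hPL : PRedIn p L Y)
    (hKL : ∀ x ∈ (T : Subgroup H) ⊓ Subgroup.centralizer (Y : Set H),
      x ∈ Subgroup.centralizer ((((T : Subgroup H) ⊓ Subgroup.centralizer (Y : Set H) : Subgroup H)) : Set H) →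
      x ^ p = 1 → x ∈ Y)
    (hfac : M ⊔ Subgroup.centralizer (Y : Set H) = L ⊔ Subgroup.centralizer (Y : Set H)) :
    largestPReducedOf p (M ⊓ Subgroup.normalizer
        ((((T : Subgroup H) ⊓ Subgroup.centralizer (Y : Set H) : Subgroup H)) : Set H)) = Y ∧
      L ⊔ Subgroup.centralizer (Y : Set H) = (M ⊓ Subgroup.normalizer
        ((((T : Subgroup H) ⊓ Subgroup.centralizer (Y : Set H) : Subgroup H)) : Set H)) ⊔
          Subgroup.centralizer (Y : Set H) := by
  have hNC := normalizer_le_normalizer_centralizer Y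
  have hCN : Subgroup.centralizer (Y : Set H) ≤ Subgroup.normalizer (Y : Set H) :=
    Subgroup.centralizer_le_normalizer _
  have hMY : M ≤ Subgroup.normalizer (Y : Set H) :=
    le_trans le_sup_left (hfac.le.trans (sup_le hLY hCN))
  have hTLs : (T : Subgroup H) ≤ M ⊓ Subgroup.normalizer
      ((((T : Subgroup H) ⊓ Subgroup.centralizer (Y : Set H) : Subgroup H)) : Set H) :=
    le_inf hTM (le_normalizer_inf' Subgroup.le_normalizer ((hTL.trans hLY).trans hNC))
  have hsup : L ⊔ Subgroup.centralizer (Y : Set H) = (M ⊓ Subgroup.normalizer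
      ((((T : Subgroup H) ⊓ Subgroup.centralizer (Y : Set H) : Subgroup H)) : Set H)) ⊔
        Subgroup.centralizer (Y : Set H) := by
    apply le_antisymm
    · rw [← hfac]
      exact sup_le (frattini_sylow_inf T hTM (hMY.trans hNC)) le_sup_right
    · rw [← hfac]
      exact sup_le (inf_le_left.trans le_sup_left) le_sup_right
  refine ⟨?_, hsup⟩
  have hLsY : M ⊓ Subgroup.normalizer
      ((((T : Subgroup H) ⊓ Subgroup.centralizer (Y : Set H) : Subgroup H)) : Set H) ≤
      Subgroup.normalizer (Y : Set H) := inf_le_left.trans hMY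
  have hPLs := hPL.transfer hLY hsup.symm
  have hYLs := hYT.trans hTLs
  have h1 := le_largestPReducedOf hYLs hLsY hYel hPLs
  apply le_antisymm _ h1
  intro y hy
  have hyT : y ∈ (T : Subgroup H) :=
    pCoreOf_le_sylow T hTLs (largestPReducedOf_le_pCoreOf p _ hy)
  have hel := isElementaryAbelian_iff.mp (largestPReducedOf_isElementaryAbelian p (M ⊓ Subgroup.normalizer
      ((((T : Subgroup H) ⊓ Subgroup.centralizer (Y : Set H) : Subgroup H)) : Set H)))
  have hyC : y ∈ Subgroup.centralizer (Y : Set H) := by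
    rw [Subgroup.mem_centralizer_iff]
    intro z hz
    exact hel.1 z (h1 hz) y hy
  have hT₀ : (T : Subgroup H) ⊓ Subgroup.centralizer (Y : Set H) ≤ pCoreOf p (M ⊓ Subgroup.normalizer
      ((((T : Subgroup H) ⊓ Subgroup.centralizer (Y : Set H) : Subgroup H)) : Set H)) :=
    le_pCoreOf (inf_le_left.trans hTLs) inf_le_right (T.isPGroup'.to_le inf_le_left)
  have hyc : y ∈ Subgroup.centralizer
      ((((T : Subgroup H) ⊓ Subgroup.centralizer (Y : Set H) : Subgroup H)) : Set H) := by
    rw [Subgroup.mem_centralizer_iff]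
    intro t ht
    have := pCoreOf_le_centralizer_largestPReducedOf p _ (hT₀ ht)
    exact ((Subgroup.mem_centralizer_iff.mp this) y hy).symm
  exact hKL y ⟨hyT, hyC⟩ hyc (hel.2 y hy)

end Cfsg.Agent.H53
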