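import Cfsg.Agent.H53.FM1
import Cfsg.Agent.H53.PRed4

set_option autoImplicit false
open Cfsg

namespace Cfsg.Agent.H53

/-- `Y_L ≠ 1` for a group of characteristic `p` containing a nontrivial Sylow `p`-subgroup. -/
theorem largestPReducedOf_ne_bot {p : ℕ} [Fact p.Prime] {H : Type*} [Group H] [Finite H]
    (T : Sylow p H) {L : Subgroup H} (hTL : (T : Subgroup H) ≤ L)
    (hL : Subgroup.centralizer (pCore p ↥L : Set ↥L) ≤ pCore p ↥L) (hT1 : (T : Subgroup H) ≠ ⊥) :
    largestPReducedOf p L ≠ ⊥ := by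
  haveI : Nontrivial ↥(T : Subgroup H) := (Subgroup.nontrivial_iff_ne_bot _).mpr hT1
  have hTp : IsPGroup p ↥(T : Subgroup H) := T.isPGroup'
  haveI hcn := hTp.center_nontrivial
  have hcard : p ∣ Nat.card ↥(Subgroup.center ↥(T : Subgroup H)) := by
    rcases (hTp.to_subgroup (Subgroup.center ↥(T : Subgroup H))).card_eq_or_dvd with h | h
    · exact absurd (Subgroup.card_eq_one.mp h) ((Subgroup.nontrivial_iff_ne_bot _).mp hcn)
    · exact h
  obtain ⟨z, hz⟩ := exists_prime_orderOf_dvd_card' (G := ↥(Subgroup.center ↥(T : Subgroup H))) p hcard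
  have hx1 : ((z : ↥(T : Subgroup H)) : H) ≠ 1 := by
    intro h
    have hz1 : z = 1 := Subtype.ext (Subtype.ext h)
    rw [hz1, orderOf_one] at hz
    exact (Fact.out : p.Prime).one_lt.ne hz
  have hxp : ((z : ↥(T : Subgroup H)) : H) ^ p = 1 := by
    have h1 := pow_orderOf_eq_one z
    rw [hz] at h1
    have h2 := congrArg (fun w : ↥(Subgroup.center ↥(T : Subgroup H)) => ((w : ↥(T : Subgroup H)) : H)) h1
    simpa using h2
  have hxc : ∀ t ∈ (T : Subgroup H), t * ((z : ↥(T : Subgroup H)) : H) = ((z : ↥(T : Subgroup H)) : H) * t := by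
    intro t ht
    have := (Subgroup.mem_center_iff.mp z.2) ⟨t, ht⟩
    exact congrArg Subtype.val this
  have hYT : largestPReducedOf p L ≤ (T : Subgroup H) :=
    (largestPReducedOf_le_pCoreOf p L).trans (pCoreOf_le_sylow T hTL)
  have hmem := mem_largestPReducedOf_of_central T hTL hL (x := ((z : ↥(T : Subgroup H)) : H))
    (z : ↥(T : Subgroup H)).2
    (by rw [Subgroup.mem_centralizer_iff]; intro y hy; exact hxc y (hYT hy))
    (by rw [Subgroup.mem_centralizer_iff]; intro y hy; exact hxc y (Subgroup.mem_inf.mp hy).1) hxp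
  intro h
  rw [h, Subgroup.mem_bot] at hmem
  exact hx1 hmem

theorem charP_ambient_of_mem {p : ℕ} {H : Type*} [Group H] {X : Subgroup H}
    (hX : X ∈ charPSubgroups p H) :
    X ⊓ Subgroup.centralizer ((pCoreOf p X : Subgroup H) : Set H) ≤ pCoreOf p X :=
  inf_le_right.trans (mem_charPSubgroups_iff.mp hX).2

/-- The maximal member `M̃ = N_H(Y_{M̃})` of `𝓛_H` attached to `L`. -/
theorem exists_maxCharP_normalizer {p : ℕ} [Fact p.Prime] {H : Type*} [Group H] [Finite H]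
    (hH : IsOfParabolicCharacteristic p H) (T : Sylow p H) {L : Subgroup H}
    (hTL : (T : Subgroup H) ≤ L) (hL : L ∈ charPSubgroups p H) :
    ∃ Mt : Subgroup H, (T : Subgroup H) ≤ Mt ∧ Mt ∈ maxCharPSubgroups p H ∧
      Subgroup.normalizer ((largestPReducedOf p Mt : Subgroup H) : Set H) = Mt ∧
      largestPReducedOf p L ≤ largestPReducedOf p Mt ∧
      (∀ l ∈ L, ∃ f ∈ Mt, ∃ c ∈ Subgroup.centralizer ((largestPReducedOf p L : Subgroup H) : Set H),
        l = f * c) ∧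
      largestPReducedOf p L ≠ ⊥ ∧
      ∀ X : Subgroup H, (T : Subgroup H) ≤ X → X ∈ charPSubgroups p H →
        largestPReducedOf p Mt ≤ largestPReducedOf p X →
        (∀ l ∈ L, ∃ f ∈ X, ∃ c ∈ Subgroup.centralizer ((largestPReducedOf p L : Subgroup H) : Set H),
          l = f * c) → X ≤ Mt := by
  classical
  have hLchar := mem_charPSubgroups_iff.mp hL
  have hT1 : (T : Subgroup H) ≠ ⊥ := by
    intro h
    apply hLchar.1
    have := pCoreOf_le_sylow T hTL
    rw [h] at this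
    exact le_bot_iff.mp this
  have hYL1 : largestPReducedOf p L ≠ ⊥ :=
    largestPReducedOf_ne_bot T hTL (charP_subtype_of_ambient (charP_ambient_of_mem hL)) hT1
  obtain ⟨𝓕, h𝓕⟩ : ∃ 𝓕 : Set (Subgroup H), 𝓕 = {F | (T : Subgroup H) ≤ F ∧ F ∈ charPSubgroups p H ∧
      largestPReducedOf p L ≤ largestPReducedOf p F ∧
      ∀ l ∈ L, ∃ f ∈ F, ∃ c ∈ Subgroup.centralizer ((largestPReducedOf p L : Subgroup H) : Set H),
        l = f * c} := ⟨_, rfl⟩
  have hL𝓕 : L ∈ 𝓕 := by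
    rw [h𝓕]
    exact ⟨hTL, hL, le_rfl, fun l hl => ⟨l, hl, 1, Subgroup.one_mem _, (mul_one l).symm⟩⟩
  obtain ⟨F₀, hF₀, hmaxF⟩ := Set.exists_max_image 𝓕
    (fun F => Nat.card ↥(largestPReducedOf p F)) (Set.toFinite 𝓕) ⟨L, hL𝓕⟩
  have hF₀' := hF₀
  rw [h𝓕] at hF₀'
  obtain ⟨hTF₀, hF₀c, hYLF₀, hLF₀⟩ := hF₀'
  have hY1 : largestPReducedOf p F₀ ≠ ⊥ := by
    intro h
    rw [h] at hYLF₀
    exact hYL1 (le_bot_iff.mp hYLF₀)
  obtain ⟨N, hN⟩ : ∃ N : Subgroup H,
      N = Subgroup.normalizer ((largestPReducedOf p F₀ : Subgroup H) : Set H) := ⟨_, rfl⟩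
  have hF₀N : F₀ ≤ N := by rw [hN]; exact le_normalizer_largestPReducedOf p F₀
  have hTN := hTF₀.trans hF₀N
  have hON : pCoreOf p N ≠ ⊥ := by
    intro h
    have h1 : largestPReducedOf p F₀ ≤ pCoreOf p N := by
      rw [hN]
      exact le_pCoreOf Subgroup.le_normalizer le_rfl
        (isPGroup_of_isElementaryAbelian (largestPReducedOf_isElementaryAbelian p F₀))
    rw [h] at h1
    exact hY1 (le_bot_iff.mp h1)
  have hNc := mem_charPSubgroups_of_parabolicChar hH T hTN hON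
  have hYN : largestPReducedOf p F₀ ≤ largestPReducedOf p N :=
    largestPReducedOf_mono T hTF₀ hF₀N (charP_ambient_of_mem hNc)
  have hLN : ∀ l ∈ L, ∃ f ∈ N, ∃ c ∈ Subgroup.centralizer ((largestPReducedOf p L : Subgroup H) : Set H),
      l = f * c := by
    intro l hl
    obtain ⟨f, hf, c, hc, h⟩ := hLF₀ l hl
    exact ⟨f, hF₀N hf, c, hc, h⟩
  have hN𝓕 : N ∈ 𝓕 := by
    rw [h𝓕]
    exact ⟨hTN, hNc, hYLF₀.trans hYN, hLN⟩
  have hYeq : largestPReducedOf p F₀ = largestPReducedOf p N :=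
    Subgroup.eq_of_le_of_card_ge hYN (hmaxF N hN𝓕)
  have hmax : ∀ X : Subgroup H, (T : Subgroup H) ≤ X → X ∈ charPSubgroups p H →
      largestPReducedOf p N ≤ largestPReducedOf p X →
      (∀ l ∈ L, ∃ f ∈ X, ∃ c ∈ Subgroup.centralizer ((largestPReducedOf p L : Subgroup H) : Set H),
        l = f * c) → X ≤ N := by
    intro X hTX hX hYX hLX
    have hX𝓕 : X ∈ 𝓕 := by
      rw [h𝓕]
      exact ⟨hTX, hX, (hYLF₀.trans hYN).trans hYX, hLX⟩
    have h1 : largestPReducedOf p N = largestPReducedOf p X := by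
      apply Subgroup.eq_of_le_of_card_ge hYX
      rw [← hYeq]
      exact hmaxF X hX𝓕
    have h2 := le_normalizer_largestPReducedOf p X
    rw [← h1, ← hYeq, ← hN] at h2
    exact h2
  refine ⟨N, hTN, ⟨hNc, fun X hX hNX => ?_⟩, ?_, hYLF₀.trans hYN, hLN, hYL1, hmax⟩
  · refine le_antisymm (hmax X (hTN.trans hNX) hX
      (largestPReducedOf_mono T hTN hNX (charP_ambient_of_mem hX)) ?_) hNX
    intro l hl
    obtain ⟨f, hf, c, hc, h⟩ := hLN l hl
    exact ⟨f, hNX hf, c, hc, h⟩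
  · rw [← hYeq, ← hN]

end Cfsg.Agent.H53
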