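import Mathlib
import Cfsg.Prelude.Def_LocalStructure
import Cfsg.Agent.H53.Asym2
import Cfsg.Agent.H53.FrakM
import Cfsg.Agent.H53.FM2
import Cfsg.Agent.H53.WC5
import Cfsg.Agent.H53.Large4

set_option autoImplicit false

namespace Cfsg.Agent.H53

open Cfsg
open scoped commutatorElement Pointwise

section

variable {G : Type*} [Group G] [Finite G] {p : ℕ} [Fact p.Prime]

/-- `N_G(O_p(M)) ≤ M†` for `M ∈ 𝔐_G(S)`. -/
theorem frakM_normalizer_pCoreOf_le {S : Sylow p G} {Q : Subgroup G} (hQp : IsPGroup p ↥Q)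
    (hQ : IsLarge Q) {M : Subgroup G} (hSM : (S : Subgroup G) ≤ M) (hM : IsInFrakM p M) :
    Subgroup.normalizer ((pCoreOf p M : Subgroup G) : Set G) ≤
      M ⊔ Subgroup.centralizer ((largestPReducedOf p M : Subgroup G) : Set G) :=
  isInFrakM_normalizer_le hQp hQ hSM hM ((pCoreOf_eq_bot_iff p M).not.mpr hM.1.1)
    (pCoreOf_isPGroup p M) (le_normalizer_pCoreOf p M)

/-- `O_p(M)` is a Sylow `p`-subgroup of `C_G(Y_M)`, in the form: a `p`-subgroup of `C_G(Y_M)`
normalizing `O_p(M)` lies in `O_p(M)`. -/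
theorem frakM_le_pCoreOf_of_le_centralizer (S : Sylow p G) {M : Subgroup G}
    (hSM : (S : Subgroup G) ≤ M) (hM : IsInFrakM p M) (A : Subgroup G) (hA : IsPGroup p ↥A)
    (hAN : A ≤ Subgroup.normalizer ((pCoreOf p M : Subgroup G) : Set G))
    (hAC : A ≤ Subgroup.centralizer ((largestPReducedOf p M : Subgroup G) : Set G)) :
    A ≤ pCoreOf p M := by
  have hO := pCoreOf_eq_sylow_inf_centralizer S hSM hM.2.2.2.2.1
  have hBp : IsPGroup p ↥(pCoreOf p M ⊔ A : Subgroup G) :=
    IsPGroup.to_sup_of_normal_left' (pCoreOf_isPGroup p M) hA hAN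
  have hBC : pCoreOf p M ⊔ A ≤ Subgroup.centralizer ((largestPReducedOf p M : Subgroup G) : Set G) :=
    sup_le (pCoreOf_le_centralizer_largestPReducedOf p M) hAC
  have hBN : pCoreOf p M ⊔ A ≤ Subgroup.normalizer ((largestPReducedOf p M : Subgroup G) : Set G) :=
    hBC.trans (Subgroup.centralizer_le_normalizer _)
  have hSN : (S : Subgroup G) ≤ Subgroup.normalizer ((largestPReducedOf p M : Subgroup G) : Set G) :=
    hSM.trans (le_normalizer_largestPReducedOf p M)
  obtain ⟨k, hk, R, _, hRp, hSR, hBR⟩ :=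
    exists_conj_le_of_isPGroup_le _ hSN hBN S.isPGroup' hBp
  have hRS : R = (S : Subgroup G) := S.is_maximal' hRp hSR
  rw [hRS] at hBR
  have e : cj(k, (pCoreOf p M)) = cj(k, (S : Subgroup G)) ⊓
      Subgroup.centralizer ((largestPReducedOf p M : Subgroup G) : Set G) := by
    rw [hO, cj_inf, cj_centralizer, cj_of_mem_normalizer hk]
  have h1 : pCoreOf p M ⊔ A ≤ cj(k, (pCoreOf p M)) := by
    rw [e]
    exact le_inf hBR hBC
  have h2 : pCoreOf p M = pCoreOf p M ⊔ A := by
    apply Subgroup.eq_of_le_of_card_ge le_sup_left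
    have := Subgroup.card_le_of_le h1
    rwa [card_cj] at this
  rw [h2]
  exact le_sup_right

/-- The asymmetric hypotheses hold for `(O_p(M), Y_M)`. -/
theorem asymHyp_of_frakM (S : Sylow p G) {Q : Subgroup G} (hQp : IsPGroup p ↥Q) (hQ : IsLarge Q)
    {M : Subgroup G} (hSM : (S : Subgroup G) ≤ M) (hM : IsInFrakM p M)
    (hasym : ¬ IsSymmetricIn (largestPReducedOf p M)) :
    AsymHyp p (pCoreOf p M) (largestPReducedOf p M) where
  hP := pCoreOf_isPGroup p M
  hYP := largestPReducedOf_le_pCoreOf p M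
  hPY := pCoreOf_le_centralizer_largestPReducedOf p M
  hNY := (frakM_normalizer_pCoreOf_le hQp hQ hSM hM).trans (dagger_le_normalizer p M)
  hasym := hasym
  hSyl := frakM_le_pCoreOf_of_le_centralizer S hSM hM

/-- **`O_p(M)` is weakly closed** when `Y_M` is asymmetric. -/
theorem frakM_uniqConj (S : Sylow p G) {Q : Subgroup G} (hQp : IsPGroup p ↥Q) (hQ1 : Q ≠ ⊥)
    (hQS : Q ≤ (S : Subgroup G)) (hQ : IsLarge Q)
    {M : Subgroup G} (hSM : (S : Subgroup G) ≤ M) (hM : IsInFrakM p M)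
    (hasym : ¬ IsSymmetricIn (largestPReducedOf p M)) : UniqConj p (pCoreOf p M) := by
  have hS1 : (S : Subgroup G) ≠ ⊥ := by
    intro h
    rw [h] at hQS
    exact hQ1 (le_bot_iff.mp hQS)
  have hchar : Subgroup.centralizer (pCore p ↥M : Set ↥M) ≤ pCore p ↥M := by
    apply charP_subtype_of_ambient
    exact inf_le_right.trans (mem_charPSubgroups_iff.mp hM.1).2
  have hY1 : largestPReducedOf p M ≠ ⊥ := largestPReducedOf_ne_bot S hSM hchar hS1
  apply (asymHyp_of_frakM S hQp hQ hSM hM hasym).uniqConj hY1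
  intro I hI1 hIp hNI
  exact (isInFrakM_normalizer_le hQp hQ hSM hM hI1 hIp
    ((le_normalizer_pCoreOf p M).trans hNI)).trans (dagger_le_normalizer p M)

end

end Cfsg.Agent.H53
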