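import Mathlib
import Cfsg.Prelude.Def_LocalStructure
import Cfsg.Agent.H53.Asym3

set_option autoImplicit false

namespace Cfsg.Agent.H53

open Cfsg
open scoped commutatorElement Pointwise

section

variable {G : Type*} [Group G] [Finite G] {p : ℕ} [Fact p.Prime]

/-- `L ∩ M†` is parabolic in `L` for `O_p(M) ≤ L`. -/
theorem frakM_isParabolic_dagger (S : Sylow p G) {Q : Subgroup G} (hQp : IsPGroup p ↥Q)
    (hQ1 : Q ≠ ⊥) (hQS : Q ≤ (S : Subgroup G)) (hQ : IsLarge Q)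
    {M : Subgroup G} (hSM : (S : Subgroup G) ≤ M) (hM : IsInFrakM p M)
    (hasym : ¬ IsSymmetricIn (largestPReducedOf p M)) (L : Subgroup G) (hL : pCoreOf p M ≤ L) :
    IsParabolic p ((L ⊓ (M ⊔ Subgroup.centralizer
      ((largestPReducedOf p M : Subgroup G) : Set G))).subgroupOf L) := by
  have huc := frakM_uniqConj S hQp hQ1 hQS hQ hSM hM hasym
  obtain ⟨T, hT⟩ := huc.isParabolic_normalizer (pCoreOf_isPGroup p M) hL
  refine ⟨T, fun x hx => ?_⟩
  have h1 := hT hx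
  rw [Subgroup.mem_subgroupOf] at h1 ⊢
  exact Subgroup.mem_inf.mpr ⟨x.2, frakM_normalizer_pCoreOf_le hQp hQ hSM hM h1⟩

/-- `M` controls fusion in `Y_M`. -/
theorem frakM_fusion (S : Sylow p G) {Q : Subgroup G} (hQp : IsPGroup p ↥Q)
    (hQ1 : Q ≠ ⊥) (hQS : Q ≤ (S : Subgroup G)) (hQ : IsLarge Q)
    {M : Subgroup G} (hSM : (S : Subgroup G) ≤ M) (hM : IsInFrakM p M)
    (hasym : ¬ IsSymmetricIn (largestPReducedOf p M)) (x : G) (hx : x ∈ largestPReducedOf p M)
    (g : G) (hgx : g * x * g⁻¹ ∈ largestPReducedOf p M) :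
    ∃ m ∈ M, m * x * m⁻¹ = g * x * g⁻¹ := by
  have huc := frakM_uniqConj S hQp hQ1 hQS hQ hSM hM hasym
  have hPY := pCoreOf_le_centralizer_largestPReducedOf p M
  have hQK : pCoreOf p M ≤ Subgroup.centralizer ({g * x * g⁻¹} : Set G) := by
    intro q hq
    rw [Subgroup.mem_centralizer_iff]
    intro y hy
    rw [Set.mem_singleton_iff] at hy
    subst hy
    exact (Subgroup.mem_centralizer_iff.mp (hPY hq)) _ hgx
  have hgK : cj(g, (pCoreOf p M)) ≤ Subgroup.centralizer ({g * x * g⁻¹} : Set G) := by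
    intro z hz
    rw [mem_cj] at hz
    rw [Subgroup.mem_centralizer_iff]
    intro y hy
    rw [Set.mem_singleton_iff] at hy
    subst hy
    have h1 : x * (g⁻¹ * z * g) = (g⁻¹ * z * g) * x :=
      (Subgroup.mem_centralizer_iff.mp (hPY hz)) x hx
    calc g * x * g⁻¹ * z = g * (x * (g⁻¹ * z * g)) * g⁻¹ := by group
      _ = g * ((g⁻¹ * z * g) * x) * g⁻¹ := by rw [h1]
      _ = z * (g * x * g⁻¹) := by group
  obtain ⟨k, hk, hke⟩ := huc.exists_conj_mem (pCoreOf_isPGroup p M) hQK hgK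
  have hn : k⁻¹ * g ∈ Subgroup.normalizer ((pCoreOf p M : Subgroup G) : Set G) := by
    rw [mem_normalizer_iff_cj, ← cj_cj, hke, cj_inv_cj]
  have hn' := frakM_normalizer_pCoreOf_le hQp hQ hSM hM hn
  have hMN : M ≤ Subgroup.normalizer ((Subgroup.centralizer
      ((largestPReducedOf p M : Subgroup G) : Set G) : Subgroup G) : Set G) :=
    (le_normalizer_largestPReducedOf p M).trans (normalizer_le_normalizer_centralizer _)
  obtain ⟨m, hm, c, hc, e⟩ := mem_sup_of_le_normalizer hMN hn'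
  refine ⟨m, hm, ?_⟩
  have hcx : x * c = c * x := (Subgroup.mem_centralizer_iff.mp hc) x hx
  have hkx : g * x * g⁻¹ * k = k * (g * x * g⁻¹) :=
    (Subgroup.mem_centralizer_iff.mp hk) _ (Set.mem_singleton _)
  have hm' : m = k⁻¹ * g * c⁻¹ := eq_mul_inv_of_mul_eq e.symm
  have hcx' : c⁻¹ * x * c = x := by
    rw [mul_assoc, hcx, ← mul_assoc, inv_mul_cancel, one_mul]
  have hkx' : k⁻¹ * (g * x * g⁻¹) * k = g * x * g⁻¹ := by
    rw [mul_assoc, hkx, ← mul_assoc, inv_mul_cancel, one_mul]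
  calc m * x * m⁻¹ = k⁻¹ * (g * (c⁻¹ * x * c) * g⁻¹) * k := by rw [hm']; group
    _ = k⁻¹ * (g * x * g⁻¹) * k := by rw [hcx']
    _ = g * x * g⁻¹ := hkx'

end

end Cfsg.Agent.H53
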