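import Mathlib
import Cfsg.Prelude.Def_LocalStructure
import Cfsg.Agent.H53.Asym4

set_option autoImplicit false

namespace Cfsg.Agent.H53

open Cfsg
open scoped commutatorElement Pointwise

/-- The minimality condition of `ℌ_G(P)` (without characteristic `p`): `P ≤ H`, `Y ≰ O_p(H)`, and
`Y ≤ O_p(X)` for every proper subgroup `X` of `H` containing `P`. -/
structure HMin (p : ℕ) {G : Type*} [Group G] (P Y H : Subgroup G) : Prop where
  hPH : P ≤ H
  hY : ¬ Y ≤ pCoreOf p H
  hmin : ∀ X : Subgroup G, P ≤ X → X < H → Y ≤ pCoreOf p X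

theorem hMin_of_isInFrakH {p : ℕ} {G : Type*} [Group G] {M H : Subgroup G}
    (h : IsInFrakH p M H) : HMin p (pCoreOf p M) (largestPReducedOf p M) H :=
  ⟨h.2.1, h.2.2.1, h.2.2.2⟩

section

variable {p : ℕ} {G : Type*} [Group G] [Finite G] {P Y H : Subgroup G}

/-- `H` is generated by its conjugates of `P`. -/
theorem HMin.eq_iSup (h : HMin p P Y H) : H = ⨆ x : ↥H, cj((x : G), P) := by
  obtain ⟨H₂, hH₂⟩ : ∃ H₂ : Subgroup G, H₂ = ⨆ x : ↥H, cj((x : G), P) := ⟨_, rfl⟩
  rw [← hH₂]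
  have hle : H₂ ≤ H := by
    rw [hH₂]
    exact iSup_le fun x => cj_le_of_mem x.2 h.hPH
  have hP : P ≤ H₂ := by
    rw [hH₂]
    refine le_iSup_of_le (1 : ↥H) ?_
    change P ≤ cj((1 : G), P)
    rw [cj_one]
  have hn : H ≤ Subgroup.normalizer (H₂ : Set G) := by
    intro y hy
    rw [mem_normalizer_iff_cj]
    apply cj_eq_self_of_le_of_card
    rw [hH₂, Subgroup.map_iSup]
    refine iSup_le fun x => ?_
    have e : cj(y, (cj((x : G), P))) = cj((y * (x : G)), P) := cj_cj y x P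
    rw [e]
    exact le_iSup (fun x : ↥H => cj((x : G), P)) ⟨y * x, H.mul_mem hy x.2⟩
  by_contra hne
  have hlt : H₂ < H := lt_of_le_of_ne hle (fun e => hne e.symm)
  exact h.hY ((h.hmin H₂ hP hlt).trans (pCoreOf_le_of_normal hle hn))

/-- A subgroup normalizing every `H`-conjugate of `P` normalizes `H`. -/
theorem HMin.le_normalizer_of_forall (h : HMin p P Y H) {D : Subgroup G}
    (hD : ∀ x ∈ H, D ≤ Subgroup.normalizer ((cj(x, P) : Subgroup G) : Set G)) :
    D ≤ Subgroup.normalizer (H : Set G) := by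
  intro d hd
  rw [mem_normalizer_iff_cj]
  have e := h.eq_iSup
  have e2 : cj(d, H) = cj(d, (⨆ x : ↥H, cj((x : G), P))) := congrArg (fun K => cj(d, K)) e
  rw [e2, Subgroup.map_iSup]
  have e3 : ∀ x : ↥H, cj(d, (cj((x : G), P))) = cj((x : G), P) :=
    fun x => cj_of_mem_normalizer (hD x x.2 hd)
  rw [iSup_congr e3]
  exact e.symm

/-- The normal closure of `P` in `H` is `H`. -/
theorem HMin.normalClosure_eq (h : HMin p P Y H) :
    (Subgroup.normalClosure ((P.subgroupOf H : Subgroup ↥H) : Set ↥H)).map H.subtype = H := by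
  apply le_antisymm (Subgroup.map_subtype_le _)
  have e := h.eq_iSup
  intro z hz
  rw [e] at hz
  revert z
  change (⨆ x : ↥H, cj((x : G), P)) ≤ _
  refine iSup_le fun x => ?_
  rintro _ ⟨q, hq, rfl⟩
  have hqH : q ∈ H := h.hPH hq
  refine ⟨x * ⟨q, hqH⟩ * x⁻¹, ?_, by simp⟩
  have hn : (Subgroup.normalClosure ((P.subgroupOf H : Subgroup ↥H) : Set ↥H)).Normal :=
    Subgroup.normalClosure_normal
  apply hn.conj_mem
  apply Subgroup.subset_normalClosure
  exact Subgroup.mem_subgroupOf.mpr hq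

end

section

variable {p : ℕ} [Fact p.Prime] {G : Type*} [Group G] [Finite G] {P : Subgroup G}

/-- For a weakly closed `P ≤ L`, `O_p(L)` normalizes `P`. -/
theorem UniqConj.pCoreOf_le_normalizer (huc : UniqConj p P) (hP : IsPGroup p ↥P) {L : Subgroup G}
    (hPL : P ≤ L) : pCoreOf p L ≤ Subgroup.normalizer (P : Set G) := by
  have hp : IsPGroup p ↥(P ⊔ pCoreOf p L : Subgroup G) :=
    IsPGroup.to_sup_of_normal_right' hP (pCoreOf_isPGroup p L)
      (hPL.trans (le_normalizer_pCoreOf p L))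
  exact le_sup_right.trans (huc.le_normalizer hp le_sup_left)

/-- Characteristic `p` descends to subgroups normalized by `O_p`. -/
theorem charP_of_le_of_pCoreOf_le_normalizer {H L : Subgroup G} (hHL : H ≤ L)
    (hL : L ⊓ Subgroup.centralizer ((pCoreOf p L : Subgroup G) : Set G) ≤ pCoreOf p L)
    (hN : pCoreOf p L ≤ Subgroup.normalizer (H : Set G)) :
    H ⊓ Subgroup.centralizer ((pCoreOf p H : Subgroup G) : Set G) ≤ pCoreOf p H := by
  have hnE : H ≤ Subgroup.normalizer
      ((H ⊓ Subgroup.centralizer ((pCoreOf p H : Subgroup G) : Set G) : Subgroup G) : Set G) :=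
    le_normalizer_inf' Subgroup.le_normalizer
      ((le_normalizer_pCoreOf p H).trans (normalizer_le_normalizer_centralizer _))
  apply le_pCoreOf inf_le_left hnE
  apply isPGroup_of_forall_coprime_eq_one
  intro a ha hco
  obtain ⟨haH, haC⟩ := Subgroup.mem_inf.mp ha
  have haL : a ∈ L := hHL haH
  have hNH : pCoreOf p L ⊓ H ≤ pCoreOf p H := by
    apply le_pCoreOf inf_le_right _ ((pCoreOf_isPGroup p L).to_le inf_le_left)
    exact le_normalizer_inf' (hHL.trans (le_normalizer_pCoreOf p L)) Subgroup.le_normalizer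
  have hcent : a ∈ Subgroup.centralizer ((pCoreOf p L : Subgroup G) : Set G) := by
    rw [Subgroup.mem_centralizer_iff]
    intro x hx
    have hc1 : a * x * a⁻¹ * x⁻¹ ∈ pCoreOf p L := by
      have h1 : a * x * a⁻¹ ∈ pCoreOf p L :=
        conj_mem_of_mem_normalizer (le_normalizer_pCoreOf p L haL) hx
      exact Subgroup.mul_mem _ h1 (Subgroup.inv_mem _ hx)
    have hc2 : a * x * a⁻¹ * x⁻¹ ∈ H := by
      have h1 : x * a⁻¹ * x⁻¹ ∈ H :=
        conj_mem_of_mem_normalizer (hN hx) (H.inv_mem haH)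
      have e : a * x * a⁻¹ * x⁻¹ = a * (x * a⁻¹ * x⁻¹) := by group
      rw [e]
      exact H.mul_mem haH h1
    have hc3 : a * x * a⁻¹ * x⁻¹ ∈ pCoreOf p H := hNH (Subgroup.mem_inf.mpr ⟨hc1, hc2⟩)
    have hcomm : Commute a (a * x * a⁻¹ * x⁻¹) :=
      ((Subgroup.mem_centralizer_iff.mp haC) _ hc3).symm
    obtain ⟨k, hk⟩ := (pCoreOf_isPGroup p L) ⟨_, hc1⟩
    have hk' : (a * x * a⁻¹ * x⁻¹) ^ p ^ k = 1 := by
      have := congrArg Subtype.val hk
      simpa using this
    have := commute_of_coprime_of_commute_commutator (pow_orderOf_eq_one a) hk'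
      (Nat.Coprime.pow_right k hco) hcomm
    exact this.eq.symm
  have haN : a ∈ pCoreOf p L := hL (Subgroup.mem_inf.mpr ⟨haL, hcent⟩)
  exact eq_one_of_isPGroup_of_coprime (pCoreOf_isPGroup p L) haN hco

end

end Cfsg.Agent.H53
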