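import Mathlib
import Cfsg.Prelude.Def_LocalStructure
import Cfsg.Agent.H53.Asym5

set_option autoImplicit false

namespace Cfsg.Agent.H53

open Cfsg
open scoped commutatorElement Pointwise

section

variable {p : ℕ} [Fact p.Prime] {G : Type*} [Group G] [Finite G]

/-- Every `p`-subgroup of `C` lies in a `C`-conjugate of a given Sylow `p`-subgroup of `C`. -/
theorem exists_conj_sylow_map {C : Subgroup G} (T : Sylow p ↥C) {A : Subgroup G} (hA : A ≤ C)
    (hAp : IsPGroup p ↥A) : ∃ k ∈ C, A ≤ cj(k, ((T : Subgroup ↥C).map C.subtype)) := by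
  obtain ⟨k, hk, R, hRC, hRp, hTR, hPR⟩ := exists_conj_le_of_isPGroup_le C
    (Subgroup.map_subtype_le (T : Subgroup ↥C)) hA (T.isPGroup'.map _) hAp
  have hRT : R = (T : Subgroup ↥C).map C.subtype := by
    have h1 : (T : Subgroup ↥C) ≤ R.subgroupOf C := by
      intro t ht
      rw [Subgroup.mem_subgroupOf]
      exact hTR ⟨t, ht, rfl⟩
    have h2 : R.subgroupOf C = (T : Subgroup ↥C) := T.is_maximal' hRp.comap_subtype h1
    rw [← h2]
    exact (Subgroup.map_subgroupOf_eq_of_le hRC).symm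
  rw [hRT] at hPR
  exact ⟨k, hk, hPR⟩

/-- A minimal subgroup over a weakly closed `P` inside a group of characteristic `p` in which `Y`
is not in `O_p` has characteristic `p`. -/
theorem exists_hMin_charP {P Y : Subgroup G} (huc : UniqConj p P) (hP : IsPGroup p ↥P)
    {L : Subgroup G} (hPL : P ≤ L)
    (hL : L ⊓ Subgroup.centralizer ((pCoreOf p L : Subgroup G) : Set G) ≤ pCoreOf p L)
    (hY : ¬ Y ≤ pCoreOf p L) :
    ∃ H : Subgroup G, HMin p P Y H ∧
      H ⊓ Subgroup.centralizer ((pCoreOf p H : Subgroup G) : Set G) ≤ pCoreOf p H := by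
  obtain ⟨H, hHle, hHmin⟩ := (Set.toFinite {H : Subgroup G | P ≤ H ∧ H ≤ L ∧
    ¬ Y ≤ pCoreOf p H}).exists_le_minimal (a := L) ⟨hPL, le_rfl, hY⟩
  obtain ⟨⟨hPH, hHL, hYH⟩, hmin'⟩ := hHmin
  have hm : HMin p P Y H := by
    refine ⟨hPH, hYH, fun X hPX hXH => ?_⟩
    by_contra hYX
    exact absurd (hmin' ⟨hPX, hXH.le.trans hHL, hYX⟩ hXH.le) (not_le_of_gt hXH)
  refine ⟨H, hm, ?_⟩
  have hN : pCoreOf p L ≤ Subgroup.normalizer (P : Set G) := huc.pCoreOf_le_normalizer hP hPL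
  have hNH : pCoreOf p L ≤ Subgroup.normalizer (H : Set G) := by
    apply hm.le_normalizer_of_forall
    intro x hx
    have h1 := cj_mono x hN
    rw [cj_normalizer, cj_of_mem_normalizer (le_normalizer_pCoreOf p L (hHL hx))] at h1
    exact h1
  exact charP_of_le_of_pCoreOf_le_normalizer hHL hL hNH

/-- `ℌ_G(O_p(M))` is nonempty when `Y_M` is char-`p`-tall and asymmetric. -/
theorem exists_isInFrakH (S : Sylow p G) {Q : Subgroup G} (hQp : IsPGroup p ↥Q)
    (hQ1 : Q ≠ ⊥) (hQS : Q ≤ (S : Subgroup G)) (hQ : IsLarge Q)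
    {M : Subgroup G} (hSM : (S : Subgroup G) ≤ M) (hM : IsInFrakM p M)
    (htall : IsCharPTall p (largestPReducedOf p M))
    (hasym : ¬ IsSymmetricIn (largestPReducedOf p M)) : ∃ H : Subgroup G, IsInFrakH p M H := by
  have huc := frakM_uniqConj S hQp hQ1 hQS hQ hSM hM hasym
  have hPp := pCoreOf_isPGroup p M
  obtain ⟨T, L₀, hTL, hL₀, hYL₀⟩ := htall
  have hPC := pCoreOf_le_centralizer_largestPReducedOf p M
  obtain ⟨k, hk, hPR⟩ := exists_conj_sylow_map T hPC hPp
  have hPL : pCoreOf p M ≤ cj(k, L₀) := hPR.trans (cj_mono k hTL)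
  have hL : cj(k, L₀) ⊓ Subgroup.centralizer ((pCoreOf p (cj(k, L₀)) : Subgroup G) : Set G) ≤
      pCoreOf p (cj(k, L₀)) := by
    have h1 := cj_mono k (charP_ambient_of_subtype hL₀)
    rw [cj_inf, cj_centralizer, cj_pCoreOf] at h1
    exact h1
  have hYL : ¬ largestPReducedOf p M ≤ pCoreOf p (cj(k, L₀)) := by
    intro h
    apply hYL₀
    rw [← cj_pCoreOf] at h
    have hkn : k⁻¹ ∈ Subgroup.normalizer ((largestPReducedOf p M : Subgroup G) : Set G) :=
      Subgroup.centralizer_le_normalizer _ (Subgroup.inv_mem _ hk)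
    have h4 := cj_mono k⁻¹ h
    rw [cj_inv_cj, cj_of_mem_normalizer hkn] at h4
    exact h4
  obtain ⟨H, hm, hHc⟩ := exists_hMin_charP huc hPp hPL hL hYL
  exact ⟨H, charP_subtype_of_ambient hHc, hm.hPH, hm.hY, hm.hmin⟩

end

end Cfsg.Agent.H53
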