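import Cfsg.Agent.H53.Prod4

set_option autoImplicit false
open Cfsg
open scoped commutatorElement

namespace Cfsg.Agent.H53

/-- The second clause of `p`-irreducibility of `H` in the product lemma. -/
theorem prod_pResidual_le {H : Type*} [Group H] [Finite H] {p : ℕ} [Fact p.Prime]
    (𝒦 : Set (Subgroup H))
    (hinv : ∀ h : H, ∀ E ∈ 𝒦, E.map (MulAut.conj h).toMonoidHom ∈ 𝒦)
    (htr : ∀ E ∈ 𝒦, ∀ K ∈ 𝒦, ∃ h : H, K = E.map (MulAut.conj h).toMonoidHom)
    (hres : pResidual p H ≤ sSup 𝒦)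
    (hnorm : ∀ E ∈ 𝒦, sSup 𝒦 ⊔ pCore p H ≤
      Subgroup.normalizer ((E ⊔ pCore p H : Subgroup H) : Set H))
    (hspi : ∀ E ∈ 𝒦, IsStronglyPIrreducible p ↥E)
    (N : Subgroup H) (hN : N.Normal) (hNc : ¬ IsPClosed p ↥N) : pResidual p H ≤ N := by
  haveI := hN
  haveI hQn : (pCore p H).Normal := pCore_normal p H
  have hQp := pCore_isPGroup p H
  obtain ⟨hcoreR, hcoreE, hcoreE'⟩ := prod_core_facts 𝒦 hinv hnorm
  have hRn := sSup_normal_of_inv 𝒦 hinv
  have hN'n : (N ⊔ pCore p H).Normal := inferInstance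
  obtain ⟨T⟩ := (inferInstance : Nonempty (Sylow p H))
  have hRT : sSup 𝒦 ⊔ (T : Subgroup H) = ⊤ := by
    rw [eq_top_iff, ← pResidual_sup_sylow T]
    exact sup_le_sup_right hres _
  by_cases hA : ∃ E ∈ 𝒦, ¬ ∀ n ∈ (N ⊔ pCore p H) ⊓ E, ∀ e ∈ E, ⁅n, e⁆ ∈ pCore p H
  · obtain ⟨E, hE, hEc⟩ := hA
    have h1 : (pResidual p ↥E).map E.subtype ≤ N ⊔ pCore p H := by
      refine (pResidual_le_of_strongly (pCore p H) E (hspi E hE) (hcoreE' E hE) _ inf_le_right ?_
        hEc).trans inf_le_left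
      intro a ha
      rw [mem_normalizer_iff_cj, cj_inf, cj_of_normal (N ⊔ pCore p H) a, cj_eq_of_mem ha]
    have h2 : ∀ K ∈ 𝒦, (pResidual p ↥K).map K.subtype ≤ N ⊔ pCore p H := by
      intro K hK
      obtain ⟨h, rfl⟩ := htr E hE K hK
      refine (map_pResidual_cj_le p h E).trans ?_
      have h3 := cj_mono h h1
      rwa [cj_of_normal (N ⊔ pCore p H) h] at h3
    have hQN : pCore p H ≤ Subgroup.normalizer (N : Set H) := by
      rw [Subgroup.normalizer_eq_top_iff.mpr hN]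
      exact le_top
    apply pResidual_le_of_le_sup hQN hQp
    apply pResidual_le_of_isPGroup_quotient
    exact isPGroup_quotient_of_prod 𝒦 (pCore p H) (N ⊔ pCore p H) (T : Subgroup H) le_sup_right hRn
      hnorm h2 T.isPGroup' hRT
  · exfalso
    apply hNc
    push Not at hA
    -- Step 1
    have hb1 : ∀ E ∈ 𝒦, ∀ z ∈ (N ⊔ pCore p H) ⊓ (E ⊔ pCore p H), ∀ e ∈ E, ⁅e, z⁆ ∈ pCore p H := by
      intro E hE z hz e he
      obtain ⟨e₁, he₁, q, hq, rfl⟩ := Subgroup.mem_sup_of_normal_right.mp hz.2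
      have he₁N : e₁ ∈ N ⊔ pCore p H := by
        have := Subgroup.mul_mem _ hz.1 (Subgroup.inv_mem _ (Subgroup.mem_sup_right hq : q ∈ N ⊔ pCore p H))
        simpa using this
      have h1 := commutator_mem_symm _ (hA E hE e₁ (Subgroup.mem_inf.mpr ⟨he₁N, he₁⟩) e he)
      rw [commutator_mem_iff_commute] at h1 ⊢
      have hq1 : QuotientGroup.mk' (pCore p H) q = 1 := (QuotientGroup.eq_one_iff q).mpr hq
      rw [map_mul, hq1, mul_one]
      exact h1
    -- Step 2
    have h2 : ∀ E ∈ 𝒦, ∀ e ∈ E, ∀ n ∈ (N ⊔ pCore p H) ⊓ (sSup 𝒦 ⊔ pCore p H),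
        ⁅e, n⁆ ∈ pCore p H := by
      intro E hE e he n hn
      have hb := hb1 E hE
      have hc := commutator_mem_of_le_sup (pCore p H) E _ inf_le_right hb
      have hd : ∀ z ∈ (N ⊔ pCore p H) ⊓ (E ⊔ pCore p H),
          (∃ m : ℕ, z ^ p ^ m ∈ pCore p H) → z ∈ pCore p H := by
        intro z hz hpow
        exact mem_of_commutator_mem_of_pow_mem (pCore p H) E hQp (hcoreE E hE) hz.2
          (fun b hb' => hb z hz b hb') hpow
      refine commutator_mem_of_central_image (pCore p H) E _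
        (pResidual_le_commutator_of_strongly (hspi E hE)) n ?_ hb hc hd e he
      intro a ha
      refine Subgroup.mem_inf.mpr ⟨?_, ?_⟩
      · have h1 : a * n * a⁻¹ ∈ N ⊔ pCore p H := hN'n.conj_mem n hn.1 a
        have e1 : ⁅a, n⁆ = (a * n * a⁻¹) * n⁻¹ := by
          simp only [commutatorElement_def]
        rw [e1]
        exact Subgroup.mul_mem _ h1 (Subgroup.inv_mem _ hn.1)
      · have h1 : n * a⁻¹ * n⁻¹ ∈ E ⊔ pCore p H :=
          (Subgroup.mem_normalizer_iff.mp (hnorm E hE hn.2) _).mp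
            (Subgroup.mem_sup_left (E.inv_mem ha))
        have e1 : ⁅a, n⁆ = a * (n * a⁻¹ * n⁻¹) := by
          simp only [commutatorElement_def]
          group
        rw [e1]
        exact Subgroup.mul_mem _ (Subgroup.mem_sup_left ha) h1
    -- Step 3
    have h3 := commutator_mem_of_mem_sSup_sup (pCore p H) 𝒦
      ((N ⊔ pCore p H) ⊓ (sSup 𝒦 ⊔ pCore p H)) h2
    -- Step 4
    have h4 : ∀ E ∈ 𝒦, ∀ e ∈ E, ∀ y ∈ N ⊔ pCore p H, ⁅e, y⁆ ∈ pCore p H := by
      intro E hE e he y hy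
      have hb : ∀ z ∈ (N ⊔ pCore p H) ⊓ (sSup 𝒦 ⊔ pCore p H), ∀ e ∈ E, ⁅e, z⁆ ∈ pCore p H :=
        fun z hz e he => h3 e (Subgroup.mem_sup_left (le_sSup hE he)) z hz
      have hc : ∀ z₁ ∈ (N ⊔ pCore p H) ⊓ (sSup 𝒦 ⊔ pCore p H),
          ∀ z₂ ∈ (N ⊔ pCore p H) ⊓ (sSup 𝒦 ⊔ pCore p H), ⁅z₁, z₂⁆ ∈ pCore p H :=
        fun z₁ hz₁ z₂ hz₂ => h3 z₁ hz₁.2 z₂ hz₂
      have hd : ∀ z ∈ (N ⊔ pCore p H) ⊓ (sSup 𝒦 ⊔ pCore p H),
          (∃ m : ℕ, z ^ p ^ m ∈ pCore p H) → z ∈ pCore p H := by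
        intro z hz hpow
        exact mem_of_commutator_mem_of_pow_mem (pCore p H) (sSup 𝒦) hQp hcoreR hz.2
          (fun b hb' => h3 b (Subgroup.mem_sup_left hb') z hz) hpow
      refine commutator_mem_of_central_image (pCore p H) E _
        (pResidual_le_commutator_of_strongly (hspi E hE)) y ?_ hb hc hd e he
      intro a ha
      refine Subgroup.mem_inf.mpr ⟨?_, Subgroup.mem_sup_left ?_⟩
      · have h1 : a * y * a⁻¹ ∈ N ⊔ pCore p H := hN'n.conj_mem y hy a
        have e1 : ⁅a, y⁆ = (a * y * a⁻¹) * y⁻¹ := by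
          simp only [commutatorElement_def]
        rw [e1]
        exact Subgroup.mul_mem _ h1 (Subgroup.inv_mem _ hy)
      · have h1 : y * a⁻¹ * y⁻¹ ∈ sSup 𝒦 :=
          le_sSup (hinv y E hE) (conj_mem_cj (E.inv_mem ha))
        have e1 : ⁅a, y⁆ = a * (y * a⁻¹ * y⁻¹) := by
          simp only [commutatorElement_def]
          group
        rw [e1]
        exact Subgroup.mul_mem _ (le_sSup hE ha) h1
    have h4' := commutator_mem_of_mem_sSup_sup (pCore p H) 𝒦 (N ⊔ pCore p H) h4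
    -- Step 5
    have h5 : ∀ T' : Sylow p H, (T' : Subgroup H) ⊓ (N ⊔ pCore p H) ≤ pCore p H := by
      intro T'
      have hRT' : sSup 𝒦 ⊔ (T' : Subgroup H) = ⊤ := by
        rw [eq_top_iff, ← pResidual_sup_sylow T']
        exact sup_le_sup_right hres _
      have key : ∀ r ∈ sSup 𝒦, cj(r, ((T' : Subgroup H) ⊓ (N ⊔ pCore p H))) ≤
          (T' : Subgroup H) ⊓ (N ⊔ pCore p H) := by
        intro r hr x hx
        rw [mem_cj] at hx
        have hc := h4' r (Subgroup.mem_sup_left hr) _ hx.2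
        have hcP : ⁅r, r⁻¹ * x * r⁆ ∈ (T' : Subgroup H) ⊓ (N ⊔ pCore p H) :=
          Subgroup.mem_inf.mpr ⟨pCore_le_sylow T' hc, Subgroup.mem_sup_right hc⟩
        have e1 : x = ⁅r, r⁻¹ * x * r⁆ * (r⁻¹ * x * r) := by
          simp only [commutatorElement_def]
          group
        rw [e1]
        exact Subgroup.mul_mem _ hcP hx
      have hRn' : sSup 𝒦 ≤ Subgroup.normalizer
          (((T' : Subgroup H) ⊓ (N ⊔ pCore p H) : Subgroup H) : Set H) := by
        intro r hr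
        rw [mem_normalizer_iff_cj]
        apply le_antisymm (key r hr)
        have h6 := cj_le_iff.mp (key r⁻¹ (Subgroup.inv_mem _ hr))
        rwa [inv_inv] at h6
      have hTn' := le_normalizer_inf_of_normal (T' : Subgroup H) (N ⊔ pCore p H)
      have htop : Subgroup.normalizer
          (((T' : Subgroup H) ⊓ (N ⊔ pCore p H) : Subgroup H) : Set H) = ⊤ := by
        rw [eq_top_iff, ← hRT']
        exact sup_le hRn' hTn'
      exact le_pCore (Subgroup.normalizer_eq_top_iff.mp htop) (T'.isPGroup'.to_le inf_le_left)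
    -- Step 6
    apply isPClosed_of_forall_le (pCore p H) N hQp
    intro P
    obtain ⟨T', hT'⟩ := (P.isPGroup'.map N.subtype).exists_le_sylow
    exact (le_inf hT' ((Subgroup.map_subtype_le _).trans le_sup_left)).trans (h5 T')

end Cfsg.Agent.H53
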