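import Cfsg.Agent.H53.WC5
import Cfsg.Agent.H53.Quot
import Cfsg.Agent.H53.Prod5
import Cfsg.Agent.H53.Large4

set_option autoImplicit false
open Cfsg
open scoped commutatorElement

namespace Cfsg.Agent.H53

/-- `O^p(L)` inside the ambient group. -/
notation:max "oP(" p ", " L ")" => Subgroup.map (Subgroup.subtype L) (pResidual p ↥L)

/-- `O^p(L) ≤ B` as soon as `O^p(L) ≤ B R` for a `p`-group `R` normalizing `B`. -/
theorem map_pResidual_le_of_le_sup {p : ℕ} {G : Type*} [Group G] {B R L : Subgroup G}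
    (hRB : R ≤ Subgroup.normalizer (B : Set G)) (hR : IsPGroup p ↥R) (h : oP(p, L) ≤ B ⊔ R) :
    oP(p, L) ≤ B := by
  have h' := h
  rw [map_pResidual_subtype] at h' ⊢
  rw [Subgroup.closure_le]
  rintro g ⟨hgL, hg⟩
  obtain ⟨k, hk⟩ := exists_pow_mem_of_mem_sup hRB hR (h' (Subgroup.subset_closure ⟨hgL, hg⟩))
  exact mem_of_pow_mem_of_coprime (Nat.Coprime.pow_left k hg.symm) hk

/-- `O^p` commutes with conjugation. -/
theorem cj_map_pResidual (p : ℕ) {G : Type*} [Group G] (g : G) (A : Subgroup G) :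
    cj(g, oP(p, A)) = oP(p, cj(g, A)) := by
  apply le_antisymm _ (map_pResidual_cj_le p g A)
  have h := map_pResidual_cj_le p g⁻¹ (cj(g, A))
  rw [cj_inv_cj] at h
  have h2 := cj_mono g h
  rwa [cj_cj_inv] at h2

theorem normalizer_le_normalizer_map_pResidual (p : ℕ) {G : Type*} [Group G] (L : Subgroup G) :
    Subgroup.normalizer (L : Set G) ≤ Subgroup.normalizer ((oP(p, L) : Subgroup G) : Set G) := by
  intro n hn
  rw [mem_normalizer_iff_cj, cj_map_pResidual, cj_of_mem_normalizer hn]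

theorem normalizer_le_normalizer_weakClosure {H : Type*} [Group H] [Finite H] (Q K : Subgroup H) :
    Subgroup.normalizer (K : Set H) ≤ Subgroup.normalizer ((weakClosure Q K : Subgroup H) : Set H) := by
  intro k hk
  rw [mem_normalizer_iff_cj]
  apply cj_eq_self_of_le_of_card
  rw [cj_le_iff, weakClosure_le_iff]
  intro g hg
  rw [← cj_le_iff, cj_cj]
  apply cj_le_weakClosure
  rw [← cj_cj]
  have := cj_mono k hg
  rwa [cj_of_mem_normalizer hk] at this

/-- `g Q g⁻¹ ≤ [K, Q] Q` for `g ∈ K`. -/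
theorem cj_le_commutator_sup {G : Type*} [Group G] {K Q : Subgroup G} {k : G} (hk : k ∈ K) :
    cj(k, Q) ≤ ⁅K, Q⁆ ⊔ Q := by
  intro x hx
  rw [mem_cj] at hx
  have e : x = ⁅k, k⁻¹ * x * k⁆ * (k⁻¹ * x * k) := by
    rw [commutatorElement_def]; group
  rw [e]
  exact Subgroup.mul_mem _ (Subgroup.mem_sup_left (Subgroup.commutator_mem_commutator hk hx))
    (Subgroup.mem_sup_right hx)

section wc

variable {p : ℕ} [Fact p.Prime] {G : Type*} [Group G] [Finite G] {Q : Subgroup G}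

/-- Conjugates of `Q` in the weak closure `L` are conjugate to `Q` under `O^p(L)`. -/
theorem UniqConj.exists_conj_mem_pResidual (h : UniqConj p Q) (hQ : IsPGroup p ↥Q) {L : Subgroup G}
    (hQL : Q ≤ L) {x : G} (hx : cj(x, Q) ≤ L) : ∃ k ∈ oP(p, L), cj(x, Q) = cj(k, Q) := by
  obtain ⟨l, hl, hxl⟩ := h.exists_conj_mem hQ hQL hx
  have hpow : ∀ g ∈ L, ∃ m : ℕ, g ^ p ^ m ∈ oP(p, L) := by
    intro g hg
    obtain ⟨k, hk⟩ := exists_pow_mem_pResidual (p := p) (⟨g, hg⟩ : ↥L)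
    exact ⟨k, ⟨_, hk, by simp⟩⟩
  obtain ⟨T, hTp, hQT, hTL, hsup⟩ := exists_sylow_supplement hQ hQL hpow
  obtain ⟨t, ht, r, hr, hltr⟩ := hsup l⁻¹ (L.inv_mem hl)
  have hl' : l = r⁻¹ * t⁻¹ := by
    have := congrArg (fun z => z⁻¹) hltr
    simpa using this
  refine ⟨r⁻¹, Subgroup.inv_mem _ hr, ?_⟩
  rw [hxl, hl', ← cj_cj, cj_of_mem_normalizer (h.le_normalizer hTp hQT (T.inv_mem ht))]

/-- The weak closure `L` of `Q` in `M` is `[O^p(L), Q] Q`. -/
theorem UniqConj.weakClosure_le_commutator_sup (h : UniqConj p Q) (hQ : IsPGroup p ↥Q)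
    {M : Subgroup G} (hQM : Q ≤ M) :
    weakClosure Q M ≤ ⁅oP(p, (weakClosure Q M)), Q⁆ ⊔ Q := by
  rw [weakClosure_le_iff]
  intro g hg
  obtain ⟨k, hk, hgk⟩ := h.exists_conj_mem_pResidual hQ (self_le_weakClosure hQM) (cj_le_weakClosure hg)
  rw [hgk]
  exact cj_le_commutator_sup hk

theorem le_normalizer_map_pResidual_weakClosure {M : Subgroup G} (hQM : Q ≤ M) :
    Q ≤ Subgroup.normalizer ((oP(p, (weakClosure Q M)) : Subgroup G) : Set G) :=
  ((self_le_weakClosure hQM).trans Subgroup.le_normalizer).trans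
    (normalizer_le_normalizer_map_pResidual p _)

/-- `[O^p(L), Q] = O^p(L)` for the weak closure `L` of `Q` in `M`. -/
theorem UniqConj.commutator_pResidual_weakClosure (h : UniqConj p Q) (hQ : IsPGroup p ↥Q)
    {M : Subgroup G} (hQM : Q ≤ M) :
    ⁅oP(p, (weakClosure Q M)), Q⁆ = oP(p, (weakClosure Q M)) := by
  have hn := le_normalizer_map_pResidual_weakClosure (p := p) hQM
  apply le_antisymm (Subgroup.le_normalizer_iff_commutator_le_left.mp hn)
  apply map_pResidual_le_of_le_sup _ hQ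
    ((Subgroup.map_subtype_le _).trans (h.weakClosure_le_commutator_sup hQ hQM))
  intro q hq
  rw [mem_normalizer_iff_cj, cj_commutator, cj_of_mem_normalizer (hn hq), cj_eq_of_mem hq]

theorem UniqConj.weakClosure_le_pResidual_sup (h : UniqConj p Q) (hQ : IsPGroup p ↥Q)
    {M : Subgroup G} (hQM : Q ≤ M) :
    weakClosure Q M ≤ oP(p, (weakClosure Q M)) ⊔ Q := by
  have := h.weakClosure_le_commutator_sup hQ hQM
  rwa [h.commutator_pResidual_weakClosure hQ hQM] at this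

/-- For `Q` normalizing `X`, the weak closure `L` of `Q` in `X Q` has `O^p(L) ≤ [X, Q]`. -/
theorem UniqConj.pResidual_weakClosure_le_commutator (h : UniqConj p Q) (hQ : IsPGroup p ↥Q)
    {X : Subgroup G} (hQX : Q ≤ Subgroup.normalizer (X : Set G)) :
    oP(p, (weakClosure Q (X ⊔ Q))) ≤ ⁅X, Q⁆ := by
  have hle : weakClosure Q (X ⊔ Q) ≤ ⁅X, Q⁆ ⊔ Q := by
    rw [weakClosure_le_iff]
    intro g hg
    obtain ⟨m, hm, hgm⟩ := h.exists_conj_mem hQ (le_sup_right : Q ≤ X ⊔ Q) hg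
    have hm' : m ∈ Q ⊔ X := by rw [sup_comm]; exact hm
    obtain ⟨a, ha, b, hb, hmab⟩ := mem_sup_of_le_normalizer hQX hm'
    have hm2 : m = (a * b * a⁻¹) * a := by rw [hmab]; group
    have hx : a * b * a⁻¹ ∈ X := (Subgroup.mem_normalizer_iff.mp (hQX ha) b).mp hb
    rw [hgm, hm2, ← cj_cj, cj_eq_of_mem ha]
    exact cj_le_commutator_sup hx
  apply map_pResidual_le_of_le_sup _ hQ ((Subgroup.map_subtype_le _).trans hle)
  intro q hq
  rw [mem_normalizer_iff_cj, cj_commutator, cj_of_mem_normalizer (hQX hq), cj_eq_of_mem hq]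

end wc

end Cfsg.Agent.H53
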