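import Mathlib
import Cfsg.Prelude.Def_LocalStructure
import Cfsg.Agent.H53.Asym6
import Cfsg.Agent.H53.WCP1

set_option autoImplicit false

namespace Cfsg.Agent.H53

open Cfsg
open scoped commutatorElement Pointwise

section comm

variable {G : Type*} [Group G] [Finite G]

/-- `A` normalizes `[A, B]`. -/
theorem le_normalizer_commutator_left (A B : Subgroup G) :
    A ≤ Subgroup.normalizer ((⁅A, B⁆ : Subgroup G) : Set G) := by
  intro a ha
  rw [mem_normalizer_iff_cj]
  apply cj_eq_self_of_le_of_card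
  rw [cj_le_iff, Subgroup.commutator_le]
  intro a' ha' b hb
  rw [mem_cj, inv_inv]
  have e : a * ⁅a', b⁆ * a⁻¹ = ⁅a * a', b⁆ * ⁅a, b⁆⁻¹ := by
    simp only [commutatorElement_def]; group
  rw [e]
  exact Subgroup.mul_mem _ (Subgroup.commutator_mem_commutator (A.mul_mem ha ha') hb)
    (Subgroup.inv_mem _ (Subgroup.commutator_mem_commutator ha hb))

/-- The normal closure of `Y` in `H` lies in every subgroup containing `Y` normalized by `H`. -/
theorem normalClosure_map_le {H Y K : Subgroup G} (hYK : Y ≤ K)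
    (hn : H ≤ Subgroup.normalizer (K : Set G)) :
    (Subgroup.normalClosure ((Y.subgroupOf H : Subgroup ↥H) : Set ↥H)).map H.subtype ≤ K := by
  haveI : (K.subgroupOf H).Normal := Subgroup.normal_subgroupOf_of_le_normalizer hn
  have h1 : Subgroup.normalClosure ((Y.subgroupOf H : Subgroup ↥H) : Set ↥H) ≤ K.subgroupOf H := by
    apply Subgroup.normalClosure_le_normal
    intro y hy
    exact Subgroup.mem_subgroupOf.mpr (hYK (Subgroup.mem_subgroupOf.mp hy))
  rintro _ ⟨w, hw, rfl⟩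
  exact Subgroup.mem_subgroupOf.mp (h1 hw)

theorem le_normalClosure_map {H Y : Subgroup G} (hYH : Y ≤ H) :
    Y ≤ (Subgroup.normalClosure ((Y.subgroupOf H : Subgroup ↥H) : Set ↥H)).map H.subtype := by
  intro y hy
  exact ⟨⟨y, hYH hy⟩, Subgroup.subset_normalClosure (Subgroup.mem_subgroupOf.mpr hy), rfl⟩

theorem le_normalizer_normalClosure_map (H Y : Subgroup G) :
    H ≤ Subgroup.normalizer (((Subgroup.normalClosure
      ((Y.subgroupOf H : Subgroup ↥H) : Set ↥H)).map H.subtype : Subgroup G) : Set G) :=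
  haveI : (Subgroup.normalClosure ((Y.subgroupOf H : Subgroup ↥H) : Set ↥H)).Normal :=
    Subgroup.normalClosure_normal
  map_subtype_le_normalizer _

end comm

section

variable {p : ℕ} [Fact p.Prime] {G : Type*} [Group G] [Finite G] {P Y H : Subgroup G}

theorem exists_pow_mem_oP (H : Subgroup G) {g : G} (hg : g ∈ H) :
    ∃ m : ℕ, g ^ p ^ m ∈ oP(p, H) := by
  obtain ⟨k, hk⟩ := exists_pow_mem_pResidual (p := p) (⟨g, hg⟩ : ↥H)
  exact ⟨k, _, hk, by simp⟩

theorem le_normalizer_oP (p : ℕ) (H : Subgroup G) :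
    H ≤ Subgroup.normalizer ((oP(p, H) : Subgroup G) : Set G) :=
  Subgroup.le_normalizer.trans (normalizer_le_normalizer_map_pResidual p H)

/-- `H = O^p(H) P`. -/
theorem HMin.residual_sup (hm : HMin p P Y H) (huc : UniqConj p P) (hP : IsPGroup p ↥P) :
    oP(p, H) ⊔ P = H := by
  apply le_antisymm (sup_le (Subgroup.map_subtype_le _) hm.hPH)
  have hHR := le_normalizer_oP p H
  obtain ⟨T, hTp, hPT, hTH, hsup⟩ := exists_sylow_supplement hP hm.hPH
    (fun g hg => exists_pow_mem_oP (p := p) H hg)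
  have key : ∀ x ∈ H, cj(x, P) ≤ oP(p, H) ⊔ P := by
    intro x hx
    obtain ⟨t, ht, r, hr, rfl⟩ := hsup x hx
    rw [← cj_cj]
    have h1 : cj(r, P) ≤ oP(p, H) ⊔ P := by
      refine (cj_le_commutator_sup hr).trans (sup_le ?_ le_sup_right)
      exact (Subgroup.le_normalizer_iff_commutator_le_left.mp (hm.hPH.trans hHR)).trans le_sup_left
    have h2 : t ∈ Subgroup.normalizer ((oP(p, H) ⊔ P : Subgroup G) : Set G) :=
      le_normalizer_sup (hTH.trans hHR) (huc.le_normalizer hTp hPT) ht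
    have h3 := cj_mono t h1
    rwa [cj_of_mem_normalizer h2] at h3
  intro z hz
  rw [hm.eq_iSup] at hz
  revert z
  change (⨆ x : ↥H, cj((x : G), P)) ≤ _
  exact iSup_le fun x => key x x.2

/-- `H = ⟨Y^H⟩ P`. -/
theorem HMin.normalClosure_sup (hm : HMin p P Y H) (hYP : Y ≤ P) (hP : IsPGroup p ↥P) :
    (Subgroup.normalClosure ((Y.subgroupOf H : Subgroup ↥H) : Set ↥H)).map H.subtype ⊔ P = H := by
  obtain ⟨W, hW⟩ : ∃ W : Subgroup G, W = (Subgroup.normalClosure
      ((Y.subgroupOf H : Subgroup ↥H) : Set ↥H)).map H.subtype := ⟨_, rfl⟩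
  rw [← hW]
  have hWH : W ≤ H := by rw [hW]; exact Subgroup.map_subtype_le _
  have hHW : H ≤ Subgroup.normalizer (W : Set G) := by
    rw [hW]; exact le_normalizer_normalClosure_map H Y
  have hYW : Y ≤ W := by rw [hW]; exact le_normalClosure_map (hYP.trans hm.hPH)
  have hle : W ⊔ P ≤ H := sup_le hWH hm.hPH
  by_contra hne
  have hlt : W ⊔ P < H := lt_of_le_of_ne hle hne
  have h1 := hm.hmin _ le_sup_right hlt
  have h2 : pCoreOf p (W ⊔ P) ⊓ W ≤ pCoreOf p W := by
    apply le_pCoreOf inf_le_right _ ((pCoreOf_isPGroup p _).to_le inf_le_left)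
    exact le_normalizer_inf' (le_sup_left.trans (le_normalizer_pCoreOf p _)) Subgroup.le_normalizer
  exact hm.hY ((le_inf h1 hYW).trans (h2.trans (pCoreOf_le_of_normal hWH hHW)))

/-- `O^p(H) ≤ ⟨Y^H⟩`. -/
theorem HMin.residual_le_normalClosure (hm : HMin p P Y H) (hYP : Y ≤ P) (hP : IsPGroup p ↥P) :
    oP(p, H) ≤ (Subgroup.normalClosure ((Y.subgroupOf H : Subgroup ↥H) : Set ↥H)).map H.subtype := by
  have hsup := hm.normalClosure_sup hYP hP
  have hHW := le_normalizer_normalClosure_map H Y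
  apply Subgroup.map_mono
  apply pResidual_le_of_pow_mem
  intro g
  have hg : (g : G) ∈ (Subgroup.normalClosure
      ((Y.subgroupOf H : Subgroup ↥H) : Set ↥H)).map H.subtype ⊔ P := by rw [hsup]; exact g.2
  obtain ⟨m, w, hw, hwe⟩ := exists_pow_mem_of_mem_sup (hm.hPH.trans hHW) hP hg
  refine ⟨m, ?_⟩
  have e : w = g ^ p ^ m := Subtype.ext (by rw [Subgroup.coe_pow]; exact hwe)
  rw [← e]
  exact hw

/-- `O^p(H) Y = ⟨Y^H⟩`. -/
theorem HMin.residual_sup_eq_normalClosure (hm : HMin p P Y H) (huc : UniqConj p P)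
    (hYP : Y ≤ P) (hPY : P ≤ Subgroup.centralizer (Y : Set G)) (hP : IsPGroup p ↥P) :
    oP(p, H) ⊔ Y =
      (Subgroup.normalClosure ((Y.subgroupOf H : Subgroup ↥H) : Set ↥H)).map H.subtype := by
  have hYH : Y ≤ H := hYP.trans hm.hPH
  have hHR := le_normalizer_oP p H
  apply le_antisymm (sup_le (hm.residual_le_normalClosure hYP hP) (le_normalClosure_map hYH))
  apply normalClosure_map_le le_sup_right
  have hRn : oP(p, H) ≤ Subgroup.normalizer ((oP(p, H) ⊔ Y : Subgroup G) : Set G) := by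
    intro r hr
    rw [mem_normalizer_iff_cj]
    apply cj_eq_self_of_le_of_card
    rw [cj_sup, cj_of_mem_normalizer (hHR (Subgroup.map_subtype_le _ hr))]
    refine sup_le le_sup_left ((cj_le_commutator_sup hr).trans (sup_le ?_ le_sup_right))
    exact (Subgroup.le_normalizer_iff_commutator_le_left.mp (hYH.trans hHR)).trans le_sup_left
  have hPn : P ≤ Subgroup.normalizer ((oP(p, H) ⊔ Y : Subgroup G) : Set G) :=
    le_normalizer_sup (hm.hPH.trans hHR) (hPY.trans (Subgroup.centralizer_le_normalizer _))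
  have := sup_le hRn hPn
  rwa [hm.residual_sup huc hP] at this

/-- `[O^p(H), Y] = O^p(H)`. -/
theorem HMin.commutator_residual (hm : HMin p P Y H) (huc : UniqConj p P)
    (hYP : Y ≤ P) (hPY : P ≤ Subgroup.centralizer (Y : Set G)) (hP : IsPGroup p ↥P) :
    ⁅oP(p, H), Y⁆ = oP(p, H) := by
  have hYH : Y ≤ H := hYP.trans hm.hPH
  have hHR := le_normalizer_oP p H
  have hYp : IsPGroup p ↥Y := hP.to_le hYP
  have hle : ⁅oP(p, H), Y⁆ ≤ oP(p, H) :=
    Subgroup.le_normalizer_iff_commutator_le_left.mp (hYH.trans hHR)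
  apply le_antisymm hle
  have hPYn : P ≤ Subgroup.normalizer (Y : Set G) :=
    hPY.trans (Subgroup.centralizer_le_normalizer _)
  have hH0 : H ≤ Subgroup.normalizer ((⁅oP(p, H), Y⁆ : Subgroup G) : Set G) := by
    have h1 := le_normalizer_commutator_left oP(p, H) Y
    have h2 : P ≤ Subgroup.normalizer ((⁅oP(p, H), Y⁆ : Subgroup G) : Set G) :=
      le_normalizer_commutator (hm.hPH.trans hHR) hPYn
    have := sup_le h1 h2
    rwa [hm.residual_sup huc hP] at this
  have hHZ : H ≤ Subgroup.normalizer ((⁅oP(p, H), Y⁆ ⊔ Y : Subgroup G) : Set G) := by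
    have h1 : oP(p, H) ≤ Subgroup.normalizer ((⁅oP(p, H), Y⁆ ⊔ Y : Subgroup G) : Set G) := by
      intro r hr
      rw [mem_normalizer_iff_cj]
      apply cj_eq_self_of_le_of_card
      rw [cj_sup, cj_of_mem_normalizer (hH0 (Subgroup.map_subtype_le _ hr))]
      exact sup_le le_sup_left (cj_le_commutator_sup hr)
    have h2 : P ≤ Subgroup.normalizer ((⁅oP(p, H), Y⁆ ⊔ Y : Subgroup G) : Set G) :=
      le_normalizer_sup (hm.hPH.trans hH0) hPYn
    have := sup_le h1 h2
    rwa [hm.residual_sup huc hP] at this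
  have hW : oP(p, H) ≤ ⁅oP(p, H), Y⁆ ⊔ Y :=
    (hm.residual_le_normalClosure hYP hP).trans (normalClosure_map_le le_sup_right hHZ)
  have h3 : pResidual p ↥H ≤ (⁅oP(p, H), Y⁆).subgroupOf H := by
    apply pResidual_le_of_pow_mem
    intro g
    obtain ⟨a, ha⟩ := exists_pow_mem_pResidual (p := p) g
    have ha' : ((g ^ p ^ a : ↥H) : G) ∈ ⁅oP(p, H), Y⁆ ⊔ Y := hW ⟨_, ha, rfl⟩
    obtain ⟨b, hb⟩ := exists_pow_mem_of_mem_sup (hYH.trans hH0) hYp ha'
    refine ⟨a + b, ?_⟩
    rw [Subgroup.mem_subgroupOf, pow_add, pow_mul]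
    simpa using hb
  rintro _ ⟨r, hr, rfl⟩
  exact Subgroup.mem_subgroupOf.mp (h3 hr)

end

end Cfsg.Agent.H53
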