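import Mathlib
import Cfsg.Prelude.Def_LocalStructure
import Cfsg.Agent.H53.Asym7

set_option autoImplicit false

namespace Cfsg.Agent.H53

open Cfsg
open scoped commutatorElement Pointwise

section

variable {p : ℕ} [Fact p.Prime] {G : Type*} [Group G] [Finite G]

/-- If `H ∩ K` is parabolic in `H`, every Sylow `p`-subgroup of `H ∩ K` is a Sylow `p`-subgroup
of `H`. -/
theorem sylow_of_parabolic_inf {H K : Subgroup G}
    (hpar : IsParabolic p ((H ⊓ K).subgroupOf H)) (T : Sylow p ↥(H ⊓ K)) :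
    ∃ P' : Sylow p ↥H, (P' : Subgroup ↥H).map H.subtype =
      (T : Subgroup ↥(H ⊓ K)).map (H ⊓ K).subtype := by
  obtain ⟨T₀, hT₀⟩ := hpar
  obtain ⟨TG, hTG⟩ : ∃ TG : Subgroup G, TG = (T : Subgroup ↥(H ⊓ K)).map (H ⊓ K).subtype :=
    ⟨_, rfl⟩
  rw [← hTG]
  have hTGp : IsPGroup p ↥TG := by rw [hTG]; exact T.isPGroup'.map _
  have hTGH : TG ≤ H := by rw [hTG]; exact (Subgroup.map_subtype_le _).trans inf_le_left
  have hT₀K : (T₀ : Subgroup ↥H).map H.subtype ≤ H ⊓ K := by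
    rintro _ ⟨x, hx, rfl⟩
    exact Subgroup.mem_subgroupOf.mp (hT₀ hx)
  obtain ⟨k, hk, hle⟩ := exists_conj_sylow_map T hT₀K (T₀.isPGroup'.map _)
  rw [← hTG] at hle
  have hc1 : Nat.card ↥((T₀ : Subgroup ↥H).map H.subtype) ≤ Nat.card ↥TG := by
    have := Subgroup.card_le_of_le hle
    rwa [card_cj] at this
  obtain ⟨T₁, hT₁⟩ := (hTGp.comap_subtype (K := H)).exists_le_sylow
  have hc2 : Nat.card ↥(T₁ : Subgroup ↥H) = Nat.card ↥(T₀ : Subgroup ↥H) := by
    rw [Sylow.card_eq_multiplicity, Sylow.card_eq_multiplicity]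
  have hc3 : Nat.card ↥(TG.subgroupOf H) = Nat.card ↥TG :=
    Nat.card_congr (Subgroup.subgroupOfEquivOfLe hTGH).toEquiv
  have hc4 : Nat.card ↥((T₀ : Subgroup ↥H).map H.subtype) = Nat.card ↥(T₀ : Subgroup ↥H) :=
    (Nat.card_congr ((T₀ : Subgroup ↥H).equivMapOfInjective H.subtype
      H.subtype_injective).toEquiv).symm
  have heq : TG.subgroupOf H = (T₁ : Subgroup ↥H) := by
    apply Subgroup.eq_of_le_of_card_ge hT₁
    rw [hc2]
    exact (hc4.symm.le.trans hc1).trans hc3.symm.le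
  exact ⟨T₁, by rw [← heq]; exact Subgroup.map_subgroupOf_eq_of_le hTGH⟩

end

end Cfsg.Agent.H53
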