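import Mathlib
import Cfsg.Prelude.Def_LocalStructure
import Cfsg.Agent.H53.Asym8

set_option autoImplicit false

namespace Cfsg.Agent.H53

open Cfsg
open scoped commutatorElement Pointwise

section

variable {p : ℕ} [Fact p.Prime] {G : Type*} [Group G] [Finite G] {P Y H : Subgroup G}

/-- A normal subgroup of a minimal `H` not containing `O^p(H)` is `p`-closed. -/
theorem HMin.isPClosed_of_not_le (hm : HMin p P Y H) (hYP : Y ≤ P) (hP : IsPGroup p ↥P)
    {N' : Subgroup G} (hN'H : N' ≤ H) (hn : H ≤ Subgroup.normalizer (N' : Set G))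
    (hR : ¬ oP(p, H) ≤ N') : IsPClosed p ↥N' := by
  have hne : N' ⊔ P ≠ H := by
    intro e
    apply hR
    have h1 : pResidual p ↥H ≤ N'.subgroupOf H := by
      apply pResidual_le_of_pow_mem
      intro g
      have hg : (g : G) ∈ N' ⊔ P := by rw [e]; exact g.2
      obtain ⟨m, hm'⟩ := exists_pow_mem_of_mem_sup (hm.hPH.trans hn) hP hg
      exact ⟨m, by rw [Subgroup.mem_subgroupOf]; simpa using hm'⟩
    rintro _ ⟨r, hr, rfl⟩
    exact Subgroup.mem_subgroupOf.mp (h1 hr)
  have hlt : N' ⊔ P < H := lt_of_le_of_ne (sup_le hN'H hm.hPH) hne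
  have hYA := hm.hmin _ le_sup_right hlt
  have hHO : H ≤ Subgroup.normalizer ((pCoreOf p N' : Subgroup G) : Set G) := by
    intro h hh
    rw [mem_normalizer_iff_cj, cj_pCoreOf, cj_of_mem_normalizer (hn hh)]
  have hYH : Y ≤ H := hYP.trans hm.hPH
  have hcomm : ⁅N', Y⁆ ≤ pCoreOf p N' := by
    have h1 : ⁅N', Y⁆ ≤ N' := Subgroup.le_normalizer_iff_commutator_le_left.mp (hYH.trans hn)
    have h2 : ⁅N', Y⁆ ≤ pCoreOf p (N' ⊔ P) :=
      (Subgroup.commutator_mono le_rfl hYA).trans
        (Subgroup.le_normalizer_iff_commutator_le_right.mp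
          (le_sup_left.trans (le_normalizer_pCoreOf p _)))
    have h3 : N' ⊓ pCoreOf p (N' ⊔ P) ≤ pCoreOf p N' :=
      le_pCoreOf inf_le_left
        (le_normalizer_inf' Subgroup.le_normalizer (le_sup_left.trans (le_normalizer_pCoreOf p _)))
        ((pCoreOf_isPGroup p _).to_le inf_le_right)
    exact (le_inf h1 h2).trans h3
  have hYK : Y ≤ commSub N' (pCoreOf p N') := by
    intro y hy
    refine ⟨hHO (hYH hy), fun z hz => ?_⟩
    have := hcomm (Subgroup.commutator_mem_commutator hz hy)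
    rw [← commutatorElement_inv]
    exact Subgroup.inv_mem _ this
  have hHK : H ≤ Subgroup.normalizer ((commSub N' (pCoreOf p N') : Subgroup G) : Set G) := by
    intro l hl
    rw [mem_normalizer_iff_cj]
    apply cj_eq_self_of_le_of_card
    rintro _ ⟨c, hc, rfl⟩
    exact conj_mem_commSub (hn hl) (hHO hl) hc
  have hRK : oP(p, H) ≤ commSub N' (pCoreOf p N') :=
    (hm.residual_le_normalClosure hYP hP).trans (normalClosure_map_le hYK hHK)
  apply isPClosed_of_coprime_commutator_mem (pCore p ↥N') (pCore_isPGroup p ↥N')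
  intro a ha g
  have haR : (a : G) ∈ oP(p, H) := by
    rw [map_pResidual_subtype]
    apply Subgroup.subset_closure
    exact ⟨hN'H a.2, by rw [Subgroup.orderOf_coe]; exact ha⟩
  have h1 := (hRK haR).2 (g : G) g.2
  rw [commutatorElement_def] at h1
  obtain ⟨h2, h3⟩ := mem_pCoreOf.mp h1
  have e : a * g * a⁻¹ * g⁻¹ = ⟨(a : G) * (g : G) * (a : G)⁻¹ * (g : G)⁻¹, h2⟩ := Subtype.ext rfl
  rw [e]
  exact h3

/-- The structure of `H A` for a `p`-group `A` normalized by a minimal `H`. -/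
theorem HMin.sup_structure (hm : HMin p P Y H) (huc : UniqConj p P) (hYP : Y ≤ P)
    (hP : IsPGroup p ↥P) {A : Subgroup G} (hAp : IsPGroup p ↥A)
    (hHA : H ≤ Subgroup.normalizer (A : Set G)) :
    A ≤ pCoreOf p (H ⊔ A) ∧ pCoreOf p (H ⊔ A) ≤ Subgroup.normalizer (P : Set G) ∧
      H ⊔ A ≤ Subgroup.normalizer (H : Set G) ∧ oP(p, H) = oP(p, (H ⊔ A)) := by
  have hAD : A ≤ pCoreOf p (H ⊔ A) :=
    le_pCoreOf le_sup_right (sup_le hHA Subgroup.le_normalizer) hAp
  have hDP : pCoreOf p (H ⊔ A) ≤ Subgroup.normalizer (P : Set G) :=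
    huc.pCoreOf_le_normalizer hP (hm.hPH.trans le_sup_left)
  have hDH : pCoreOf p (H ⊔ A) ≤ Subgroup.normalizer (H : Set G) := by
    apply hm.le_normalizer_of_forall
    intro x hx
    have h1 := cj_mono x hDP
    rw [cj_normalizer, cj_of_mem_normalizer (le_normalizer_pCoreOf p _ (le_sup_left (a := H) hx))] at h1
    exact h1
  have hXH : H ⊔ A ≤ Subgroup.normalizer (H : Set G) :=
    sup_le Subgroup.le_normalizer (hAD.trans hDH)
  refine ⟨hAD, hDP, hXH, le_antisymm (map_pResidual_subtype_mono p le_sup_left) ?_⟩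
  have hle : oP(p, (H ⊔ A)) ≤ H :=
    map_pResidual_le_of_le_sup (le_sup_right.trans hXH) hAp (Subgroup.map_subtype_le _)
  have hle' := hle
  rw [map_pResidual_subtype] at hle' ⊢
  rw [Subgroup.closure_le]
  rintro g ⟨hgX, hg⟩
  have hgH : g ∈ H := hle' (Subgroup.subset_closure ⟨hgX, hg⟩)
  change g ∈ oP(p, H)
  rw [map_pResidual_subtype]
  exact Subgroup.subset_closure ⟨hgH, hg⟩

end

end Cfsg.Agent.H53
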