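import Mathlib
import Cfsg.Prelude.Def_LocalStructure
import Cfsg.Agent.H53.Asym9

set_option autoImplicit false

namespace Cfsg.Agent.H53

open Cfsg
open scoped commutatorElement Pointwise

section

variable {p : ℕ} [Fact p.Prime] {G : Type*} [Group G] [Finite G] {P Y H : Subgroup G}

/-- `H A` is `p`-irreducible for a `p`-group `A` normalized by a minimal `H`. -/
theorem HMin.isPIrreducible_sup (hm : HMin p P Y H) (huc : UniqConj p P) (hYP : Y ≤ P)
    (hP : IsPGroup p ↥P) {A : Subgroup G} (hAp : IsPGroup p ↥A)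
    (hHA : H ≤ Subgroup.normalizer (A : Set G)) : IsPIrreducible p ↥(H ⊔ A) := by
  obtain ⟨hAD, hDP, hXH, hres⟩ := hm.sup_structure huc hYP hP hAp hHA
  obtain ⟨X, hX⟩ : ∃ X : Subgroup G, X = H ⊔ A := ⟨_, rfl⟩
  rw [← hX] at hAD hDP hXH hres ⊢
  have hHX : H ≤ X := by rw [hX]; exact le_sup_left
  have hYp : IsPGroup p ↥Y := hP.to_le hYP
  have hYH : Y ≤ H := hYP.trans hm.hPH
  have hXD := le_normalizer_pCoreOf p X
  have hDX := pCoreOf_le p X
  have hDp := pCoreOf_isPGroup p X
  have hOH : pCoreOf p H ≤ pCoreOf p X := pCoreOf_le_of_normal hHX hXH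
  have hXle : X ≤ H ⊔ pCoreOf p X :=
    hX.le.trans (sup_le le_sup_left (hAD.trans le_sup_right))
  refine ⟨?_, ?_⟩
  · intro hcl
    have h1 : Y.subgroupOf X ≤ pCore p ↥X := isPClosed_le_pCore_of_isPGroup hcl hYp.comap_subtype
    have h2 : Y ≤ pCoreOf p X := by
      intro y hy
      exact mem_pCoreOf.mpr ⟨hHX (hYH hy), h1 (Subgroup.mem_subgroupOf.mpr hy)⟩
    have h3 : pCoreOf p X ⊓ H ≤ pCoreOf p H :=
      le_pCoreOf inf_le_right (le_normalizer_inf' (hHX.trans hXD) Subgroup.le_normalizer)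
        (hDp.to_le inf_le_left)
    exact hm.hY ((le_inf h2 hYH).trans h3)
  · intro N hNn hNcl
    by_contra hRN
    apply hNcl
    have hXN : X ≤ Subgroup.normalizer ((N.map X.subtype : Subgroup G) : Set G) :=
      map_subtype_le_normalizer N
    have hRN' : ¬ oP(p, X) ≤ N.map X.subtype := by
      intro h
      apply hRN
      intro r hr
      obtain ⟨n, hn, e⟩ := h ⟨r, hr, rfl⟩
      have : n = r := Subtype.ext e
      rw [← this]
      exact hn
    have hn' : H ≤ Subgroup.normalizer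
        ((((N.map X.subtype ⊔ pCoreOf p X) ⊓ H : Subgroup G)) : Set G) :=
      le_normalizer_inf' (le_normalizer_sup (hHX.trans hXN) (hHX.trans hXD))
        Subgroup.le_normalizer
    have hRN'' : ¬ oP(p, H) ≤ (N.map X.subtype ⊔ pCoreOf p X) ⊓ H := by
      intro h
      apply hRN'
      rw [← hres]
      exact map_pResidual_le_of_le_sup (hDX.trans hXN) hDp (h.trans inf_le_left)
    have hcl' := hm.isPClosed_of_not_le hYP hP inf_le_right hn' hRN''
    have key : ∀ x ∈ N.map X.subtype, ∀ k : ℕ, x ^ p ^ k = 1 → x ∈ pCoreOf p X := by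
      intro x hx k hxk
      have hxX : x ∈ X := Subgroup.map_subtype_le _ hx
      have hxHD : x ∈ H ⊔ pCoreOf p X := hXle hxX
      obtain ⟨h, hh, d, hd, rfl⟩ := mem_sup_of_le_normalizer (hHX.trans hXD) hxHD
      have hhN : h ∈ (N.map X.subtype ⊔ pCoreOf p X) ⊓ H := by
        refine Subgroup.mem_inf.mpr ⟨?_, hh⟩
        have e : h = (h * d) * d⁻¹ := by group
        rw [e]
        exact Subgroup.mul_mem _ (Subgroup.mem_sup_left hx)
          (Subgroup.mem_sup_right (Subgroup.inv_mem _ hd))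
      have hpow : h ^ p ^ k ∈ pCoreOf p X := by
        have hk1 : h * d⁻¹ * h⁻¹ ∈ pCoreOf p X :=
          conj_mem_of_mem_normalizer (hXD (hHX hh)) (Subgroup.inv_mem _ hd)
        have := pow_mul_mem_of_mem_normalizer (pCoreOf p X) hk1 (hXD hxX) (p ^ k)
        rw [hxk, inv_one, mul_one] at this
        have e : h * d⁻¹ * h⁻¹ * (h * d) = h := by group
        rwa [e] at this
      obtain ⟨j, hj⟩ := hDp ⟨_, hpow⟩
      have hj' : (h ^ p ^ k) ^ p ^ j = 1 := by simpa using congrArg Subtype.val hj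
      have hzp : IsPGroup p ↥(Subgroup.zpowers h) := by
        rintro ⟨z, hz⟩
        obtain ⟨i, rfl⟩ := Subgroup.mem_zpowers_iff.mp hz
        refine ⟨k + j, Subtype.ext ?_⟩
        have e : (h ^ i) ^ p ^ (k + j) = ((h ^ p ^ k) ^ p ^ j) ^ i := by
          rw [pow_add, ← pow_mul, ← zpow_natCast, ← zpow_natCast, ← zpow_mul, ← zpow_mul,
            mul_comm]
        simp only [Subgroup.coe_pow, Subgroup.coe_one]
        rw [e, hj', one_zpow]
      have hzN : Subgroup.zpowers h ≤ (N.map X.subtype ⊔ pCoreOf p X) ⊓ H := by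
        rw [Subgroup.zpowers_le]; exact hhN
      have h5 : (Subgroup.zpowers h).subgroupOf ((N.map X.subtype ⊔ pCoreOf p X) ⊓ H) ≤
          pCore p ↥((N.map X.subtype ⊔ pCoreOf p X) ⊓ H : Subgroup G) :=
        isPClosed_le_pCore_of_isPGroup hcl' hzp.comap_subtype
      have h6 : h ∈ pCoreOf p ((N.map X.subtype ⊔ pCoreOf p X) ⊓ H) :=
        mem_pCoreOf.mpr ⟨hhN, h5 (Subgroup.mem_subgroupOf.mpr (Subgroup.mem_zpowers h))⟩
      have h7 : h ∈ pCoreOf p X := hOH (pCoreOf_le_of_normal inf_le_right hn' h6)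
      exact Subgroup.mul_mem _ h7 hd
    rw [isPClosed_iff_exists_normal]
    obtain ⟨T⟩ := (inferInstance : Nonempty (Sylow p ↥N))
    haveI hDn : ((pCoreOf p X).subgroupOf X).Normal :=
      Subgroup.normal_subgroupOf_of_le_normalizer hXD
    have hEn : (((pCoreOf p X).subgroupOf X).subgroupOf N).Normal :=
      Subgroup.Normal.subgroupOf hDn N
    have hEp : IsPGroup p ↥(((pCoreOf p X).subgroupOf X).subgroupOf N) :=
      hDp.comap_subtype.comap_subtype
    have hTE : (T : Subgroup ↥N) ≤ ((pCoreOf p X).subgroupOf X).subgroupOf N := by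
      intro t ht
      rw [Subgroup.mem_subgroupOf, Subgroup.mem_subgroupOf]
      obtain ⟨k, hk⟩ := T.isPGroup' ⟨t, ht⟩
      have hk' : (((t : ↥N) : ↥X) : G) ^ p ^ k = 1 := by
        have := congrArg (fun z : ↥(T : Subgroup ↥N) => (((z : ↥N) : ↥X) : G)) hk
        simpa using this
      exact key _ ⟨(t : ↥X), t.2, rfl⟩ k hk'
    have heq := T.is_maximal' hEp hTE
    exact ⟨T, by rw [← heq]; exact hEn⟩

end

section

variable {p : ℕ} [Fact p.Prime] {G : Type*} [Group G] [Finite G]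

theorem frakM_largestPReducedOf_ne_bot (S : Sylow p G) {Q : Subgroup G} (hQ1 : Q ≠ ⊥)
    (hQS : Q ≤ (S : Subgroup G)) {M : Subgroup G} (hSM : (S : Subgroup G) ≤ M)
    (hM : IsInFrakM p M) : largestPReducedOf p M ≠ ⊥ := by
  have hS1 : (S : Subgroup G) ≠ ⊥ := by
    intro h
    rw [h] at hQS
    exact hQ1 (le_bot_iff.mp hQS)
  have hchar : Subgroup.centralizer (pCore p ↥M : Set ↥M) ≤ pCore p ↥M := by
    apply charP_subtype_of_ambient
    exact inf_le_right.trans (mem_charPSubgroups_iff.mp hM.1).2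
  exact largestPReducedOf_ne_bot S hSM hchar hS1

/-- `N_G(Y_M) = M†`. -/
theorem frakM_normalizer_largestPReducedOf (S : Sylow p G) {Q : Subgroup G} (hQp : IsPGroup p ↥Q)
    (hQ1 : Q ≠ ⊥) (hQS : Q ≤ (S : Subgroup G)) (hQ : IsLarge Q) {M : Subgroup G}
    (hSM : (S : Subgroup G) ≤ M) (hM : IsInFrakM p M) :
    Subgroup.normalizer ((largestPReducedOf p M : Subgroup G) : Set G) =
      M ⊔ Subgroup.centralizer ((largestPReducedOf p M : Subgroup G) : Set G) :=
  le_antisymm
    (isInFrakM_normalizer_le hQp hQ hSM hM (frakM_largestPReducedOf_ne_bot S hQ1 hQS hSM hM)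
      ((pCoreOf_isPGroup p M).to_le (largestPReducedOf_le_pCoreOf p M))
      (le_normalizer_largestPReducedOf p M))
    (dagger_le_normalizer p M)

end

end Cfsg.Agent.H53
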