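import Mathlib
import Cfsg.Prelude.Def_LocalStructure
import Cfsg.Agent.H53.Asym10
import Cfsg.Agent.H27.Layer

set_option autoImplicit false

namespace Cfsg.Agent.H53

open Cfsg
open scoped commutatorElement Pointwise

/-- In a finite group `K` with `O_p(K) = 1`, a `p`-subgroup normalized by `F*(K)` is trivial. -/
theorem eq_bot_of_isPGroup_of_genFitting_le_normalizer {p : ℕ} [Fact p.Prime] {K : Type*} [Group K]
    [Finite K] (hK : pCore p K = ⊥) {X : Subgroup K} (hX : IsPGroup p ↥X)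
    (hn : generalizedFittingSubgroup K ≤ Subgroup.normalizer (X : Set K)) : X = ⊥ := by
  have hFn : (generalizedFittingSubgroup K).Normal := Cfsg.Agent.H27.genFitting_normal K
  have hZ : X ⊓ generalizedFittingSubgroup K = ⊥ := by
    rw [eq_bot_iff, ← hK]
    refine le_trans (le_pCoreOf inf_le_right ?_ (hX.to_le inf_le_left))
      (map_pCore_subtype_le_of_normal _)
    exact le_normalizer_inf' hn Subgroup.le_normalizer
  have hcomm : ⁅X, generalizedFittingSubgroup K⁆ = ⊥ := by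
    rw [eq_bot_iff, ← hZ]
    refine le_inf ?_ (Subgroup.commutator_le_right _ _)
    rw [Subgroup.commutator_le]
    intro x hx f hf
    have := (Subgroup.mem_normalizer_iff.mp (hn hf) x⁻¹).mp (X.inv_mem hx)
    rw [commutatorElement_def]
    have e : x * f * x⁻¹ * f⁻¹ = x * (f * x⁻¹ * f⁻¹) := by group
    rw [e]; exact X.mul_mem hx this
  have hXc : X ≤ Subgroup.centralizer (generalizedFittingSubgroup K : Set K) :=
    Subgroup.commutator_eq_bot_iff_le_centralizer.mp hcomm
  have hXF : X ≤ generalizedFittingSubgroup K := hXc.trans Cfsg.Agent.H27.centralizer_genFitting_le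
  rw [eq_bot_iff, ← hZ]; exact le_inf le_rfl hXF

/-- `O_p(Md / C) = 1` from the subgroup-level criterion. -/
theorem pCore_quotient_subgroupOf_eq_bot {p : ℕ} {G : Type*} [Group G] {C Md : Subgroup G}
    [hn : (C.subgroupOf Md).Normal]
    (h : ∀ D : Subgroup G, D ≤ Md → Md ≤ Subgroup.normalizer (D : Set G) →
      (∀ d ∈ D, ∃ k : ℕ, d ^ (p ^ k) ∈ C) → D ≤ C) :
    pCore p (↥Md ⧸ C.subgroupOf Md) = ⊥ := by
  rw [pCore_quotient_eq_bot_iff]
  intro D hD hDp
  have h1 := h (D.map Md.subtype) (Subgroup.map_subtype_le _) (map_subtype_le_normalizer D) (by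
    rintro _ ⟨d, hd, rfl⟩
    obtain ⟨k, hk⟩ := hDp d hd
    refine ⟨k, ?_⟩
    have := Subgroup.mem_subgroupOf.mp hk
    rwa [Subgroup.coe_pow] at this)
  intro d hd
  exact Subgroup.mem_subgroupOf.mpr (h1 ⟨d, hd, rfl⟩)

/-- A subgroup of `Md` normalized by the preimage of `F*(Md / C)` and acting as a `p`-group
modulo `C` lies in `C`, provided `O_p(Md / C) = 1`. -/
theorem le_of_genFitting_preimage_le_normalizer {p : ℕ} [Fact p.Prime] {G : Type*} [Group G]
    [Finite G] {C Md : Subgroup G} [hn : (C.subgroupOf Md).Normal]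
    (hK : pCore p (↥Md ⧸ C.subgroupOf Md) = ⊥) {X : Subgroup G} (hXM : X ≤ Md)
    (hXn : ((generalizedFittingSubgroup (↥Md ⧸ C.subgroupOf Md)).comap
      (QuotientGroup.mk' (C.subgroupOf Md))).map Md.subtype ≤ Subgroup.normalizer (X : Set G))
    (hXp : ∀ x ∈ X, ∃ k : ℕ, x ^ p ^ k ∈ C) : X ≤ C := by
  have h1 : (X.subgroupOf Md).map (QuotientGroup.mk' (C.subgroupOf Md)) = ⊥ := by
    apply eq_bot_of_isPGroup_of_genFitting_le_normalizer hK
    · rintro ⟨_, ⟨x, hx, rfl⟩⟩
      obtain ⟨k, hk⟩ := hXp x.1 (Subgroup.mem_subgroupOf.mp hx)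
      refine ⟨k, Subtype.ext ?_⟩
      rw [Subgroup.coe_pow]
      show (QuotientGroup.mk' (C.subgroupOf Md) x) ^ (p ^ k) = 1
      rw [← map_pow]
      refine (QuotientGroup.eq_one_iff _).mpr (Subgroup.mem_subgroupOf.mpr ?_)
      rw [Subgroup.coe_pow]; exact hk
    · intro f hf
      obtain ⟨y, rfl⟩ := QuotientGroup.mk'_surjective _ f
      have hy : (y : G) ∈ Subgroup.normalizer (X : Set G) := hXn ⟨y, hf, rfl⟩
      have hy' : y ∈ Subgroup.normalizer ((X.subgroupOf Md : Subgroup ↥Md) : Set ↥Md) := by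
        rw [Subgroup.mem_normalizer_iff]
        intro h
        rw [Subgroup.mem_subgroupOf, Subgroup.mem_subgroupOf]
        exact Subgroup.mem_normalizer_iff.mp hy h.1
      exact Subgroup.le_normalizer_map (QuotientGroup.mk' (C.subgroupOf Md)) ⟨y, hy', rfl⟩
  intro x hx
  have h2 : QuotientGroup.mk' (C.subgroupOf Md) ⟨x, hXM hx⟩ ∈
      (X.subgroupOf Md).map (QuotientGroup.mk' (C.subgroupOf Md)) :=
    ⟨_, Subgroup.mem_subgroupOf.mpr hx, rfl⟩
  rw [h1, Subgroup.mem_bot] at h2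
  exact Subgroup.mem_subgroupOf.mp ((QuotientGroup.eq_one_iff _).mp h2)

section

variable {p : ℕ} [Fact p.Prime] {G : Type*} [Group G] [Finite G]

/-- Abstract form of the statement on characteristic `p` overgroups of the preimage of
`F*(M†/C(Y))`. -/
theorem largestPReducedOf_le_of_genFitting_le {Y C Md H : Subgroup G}
    [hn : (C.subgroupOf Md).Normal]
    (hC : C = Subgroup.centralizer (Y : Set G)) (hCM : C ≤ Md) (hYel : IsElementaryAbelian p Y)
    (hred : PRedIn p Md Y)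
    (hpar : C ≤ H → IsParabolic p ((H ⊓ Md).subgroupOf H))
    (hFH : ((generalizedFittingSubgroup (↥Md ⧸ C.subgroupOf Md)).comap
      (QuotientGroup.mk' (C.subgroupOf Md))).map Md.subtype ≤ H)
    (hH : Subgroup.centralizer (pCore p ↥H : Set ↥H) ≤ pCore p ↥H) :
    Y ≤ largestPReducedOf p H := by
  obtain ⟨F, hF⟩ : ∃ F : Subgroup G, F = ((generalizedFittingSubgroup (↥Md ⧸ C.subgroupOf Md)).comap
      (QuotientGroup.mk' (C.subgroupOf Md))).map Md.subtype := ⟨_, rfl⟩
  rw [← hF] at hFH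
  have hK : pCore p (↥Md ⧸ C.subgroupOf Md) = ⊥ :=
    pCore_quotient_subgroupOf_eq_bot (by rw [hC]; exact hred)
  have lemA : ∀ X : Subgroup G, X ≤ Md → F ≤ Subgroup.normalizer (X : Set G) →
      (∀ x ∈ X, ∃ k : ℕ, x ^ p ^ k ∈ C) → X ≤ C := by
    intro X h1 h2 h3
    rw [hF] at h2
    exact le_of_genFitting_preimage_le_normalizer hK h1 h2 h3
  have hCF : C ≤ F := by
    rw [hF]
    intro c hc
    refine ⟨⟨c, hCM hc⟩, ?_, rfl⟩
    show QuotientGroup.mk' (C.subgroupOf Md) ⟨c, hCM hc⟩ ∈ generalizedFittingSubgroup _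
    have h1 : QuotientGroup.mk' (C.subgroupOf Md) (⟨c, hCM hc⟩ : ↥Md) = 1 :=
      (QuotientGroup.eq_one_iff _).mpr (Subgroup.mem_subgroupOf.mpr hc)
    rw [h1]
    exact Subgroup.one_mem _
  have hYel' := isElementaryAbelian_iff.mp hYel
  have hYC : Y ≤ C := by
    rw [hC]
    intro y hy
    rw [Subgroup.mem_centralizer_iff]
    intro z hz
    exact hYel'.1 z hz y hy
  have hYH : Y ≤ H := hYC.trans (hCF.trans hFH)
  obtain ⟨T, hT⟩ := hpar (hCF.trans hFH)
  have hTM : (T : Subgroup ↥H).map H.subtype ≤ Md := by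
    rintro _ ⟨t, ht, rfl⟩
    exact (Subgroup.mem_inf.mp (Subgroup.mem_subgroupOf.mp (hT ht))).2
  have hOT : pCoreOf p H ≤ (T : Subgroup ↥H).map H.subtype := Subgroup.map_mono (pCore_le_sylow T)
  have hOC : pCoreOf p H ≤ C := by
    refine lemA _ (hOT.trans hTM) (hFH.trans (le_normalizer_pCoreOf p H)) (fun x hx => ?_)
    obtain ⟨k, hk⟩ := (pCoreOf_isPGroup p H) ⟨x, hx⟩
    refine ⟨k, ?_⟩
    have h1 := congrArg Subtype.val hk
    rw [Subgroup.coe_pow] at h1
    rw [show x ^ p ^ k = 1 from h1]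
    exact C.one_mem
  have hYO : Y ≤ pCoreOf p H := by
    intro y hy
    rw [mem_pCoreOf]
    refine ⟨hYH hy, hH ?_⟩
    rw [Subgroup.mem_centralizer_iff]
    intro g hg
    apply Subtype.ext
    have hg' : (g : G) ∈ C := hOC ⟨g, hg, rfl⟩
    rw [hC] at hg'
    exact ((Subgroup.mem_centralizer_iff.mp hg') y hy).symm
  -- the centre of `O_p(H)`
  obtain ⟨Z, hZ⟩ : ∃ Z : Subgroup G, Z = pCoreOf p H ⊓
      Subgroup.centralizer ((pCoreOf p H : Subgroup G) : Set G) := ⟨_, rfl⟩
  have hZab : ∀ a ∈ Z, ∀ b ∈ Z, a * b = b * a := by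
    intro a ha b hb
    rw [hZ] at ha hb
    exact ((Subgroup.mem_centralizer_iff.mp hb.2) a ha.1)
  have hHZ : H ≤ Subgroup.normalizer (Z : Set G) := by
    rw [hZ]
    exact le_normalizer_inf' (le_normalizer_pCoreOf p H)
      ((le_normalizer_pCoreOf p H).trans (normalizer_le_normalizer_centralizer _))
  have hYZ : Y ≤ Z := by
    rw [hZ]
    refine le_inf hYO ?_
    rw [Subgroup.le_centralizer_iff, ← hC]
    exact hOC
  have hYK : Y ≤ omegaSub p Z hZab := fun y hy => ⟨hYZ hy, hYel'.2 y hy⟩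
  have hconj : ∀ h ∈ H, ∀ x ∈ omegaSub p Z hZab, h * x * h⁻¹ ∈ omegaSub p Z hZab := by
    intro h hh x hx
    refine ⟨(Subgroup.mem_normalizer_iff.mp (hHZ hh) x).mp hx.1, ?_⟩
    rw [conj_pow, hx.2]; simp
  have hHK : H ≤ Subgroup.normalizer ((omegaSub p Z hZab : Subgroup G) : Set G) := by
    intro h hh
    rw [Subgroup.mem_normalizer_iff]
    intro x
    refine ⟨hconj h hh x, fun hx => ?_⟩
    have := hconj h⁻¹ (H.inv_mem hh) _ hx
    have e : h⁻¹ * (h * x * h⁻¹) * h⁻¹⁻¹ = x := by group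
    rwa [e] at this
  obtain ⟨V, hV⟩ : ∃ V : Subgroup G, V = (Subgroup.normalClosure
      ((Y.subgroupOf H : Subgroup ↥H) : Set ↥H)).map H.subtype := ⟨_, rfl⟩
  have hVK : V ≤ omegaSub p Z hZab := by rw [hV]; exact normalClosure_map_le hYK hHK
  have hVel : IsElementaryAbelian p V :=
    isElementaryAbelian_of_le hVK (omegaSub_isElementaryAbelian hZab)
  have hYV : Y ≤ V := by rw [hV]; exact le_normalClosure_map hYH
  have hVH : V ≤ H := by rw [hV]; exact Subgroup.map_subtype_le _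
  have hHV : H ≤ Subgroup.normalizer (V : Set G) := by
    rw [hV]; exact le_normalizer_normalClosure_map H Y
  have hCV : Subgroup.centralizer (V : Set G) ≤ C := by
    rw [hC]; exact Subgroup.centralizer_le hYV
  have hred' : PRedIn p H V := by
    intro D hDH hHD hDp
    obtain ⟨P⟩ := (inferInstance : Nonempty (Sylow p ↥D))
    obtain ⟨k, hk, hA⟩ := exists_conj_sylow_map T (A := (P : Subgroup ↥D).map D.subtype)
      ((Subgroup.map_subtype_le _).trans hDH) (P.isPGroup'.map _)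
    have hD1 : D ≤ cj(k, Md) := by
      refine le_of_pow_mem_of_sylow_le (p := p) (C := cj(k, Md)) ?_ P (hA.trans (cj_mono k hTM))
      intro d hd
      obtain ⟨m, hm⟩ := hDp d hd
      refine ⟨m, ?_⟩
      have e : cj(k, Subgroup.centralizer (V : Set G)) = Subgroup.centralizer (V : Set G) :=
        cj_of_mem_normalizer ((hHV.trans (normalizer_le_normalizer_centralizer V)) hk)
      rw [← e] at hm
      exact cj_mono k (hCV.trans hCM) hm
    have hD2 : D ≤ Md := by
      have h1 : cj(k⁻¹, D) ≤ Md := by rw [cj_le_iff, inv_inv]; exact hD1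
      rwa [cj_of_mem_normalizer (hHD (H.inv_mem hk))] at h1
    have hD3 : D ≤ C := lemA D hD2 (hFH.trans hHD) (fun d hd => by
      obtain ⟨m, hm⟩ := hDp d hd
      exact ⟨m, hCV hm⟩)
    rw [Subgroup.le_centralizer_iff, hV]
    apply normalClosure_map_le
    · rw [← Subgroup.le_centralizer_iff, ← hC]; exact hD3
    · exact hHD.trans (normalizer_le_normalizer_centralizer D)
  exact hYV.trans (le_largestPReducedOf hVH hHV hVel hred')

end

end Cfsg.Agent.H53
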