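import Mathlib
import Cfsg.Prelude
import Cfsg.Agent.Lib.Helper30.Generation

/-!
# S1402 (B&G 9.5), piece PG2 (helper53 for helper38)
-/

set_option autoImplicit false

open Cfsg Subgroup

namespace Cfsg.Agent.H53.BG95

universe u

variable {G : Type u} [Group G]

/-- an elementary abelian `p`-group normalizing a group `L` of prime order has a subgroup of index
at most `p` centralizing `L`. -/
theorem pg2_kernel [Finite G] {p s : ℕ} [Fact p.Prime] [Fact s.Prime] {E L : Subgroup G}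
    (hEp : ∀ a ∈ E, a ^ p = 1) (hEL : E ≤ normalizer (L : Set G)) (hL : Nat.card L = s) :
    ∃ K : Subgroup E, K.index ≤ p ∧ ∀ e ∈ K, ∀ u ∈ L, (e : G) * u = u * (e : G) := by
  obtain ⟨φ, hφ⟩ : ∃ φ : E →* MulAut L, φ = (L.normalizerMonoidHom).comp (Subgroup.inclusion hEL) :=
    ⟨_, rfl⟩
  refine ⟨φ.ker, ?_, ?_⟩
  · rw [Subgroup.index_ker]
    have hLc : IsCyclic L := isCyclic_of_prime_card (p := s) hL
    have hZ : IsCyclic (ZMod (Nat.card L))ˣ := by
      rw [hL]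
      infer_instance
    have hA : IsCyclic (MulAut L) :=
      isCyclic_of_surjective (IsCyclic.mulAutMulEquiv L).symm
        (IsCyclic.mulAutMulEquiv L).symm.surjective
    have hR : IsCyclic φ.range := Subgroup.isCyclic _
    obtain ⟨g, hg⟩ := IsCyclic.exists_generator (α := φ.range)
    have hgp : g ^ p = 1 := by
      obtain ⟨e, he⟩ := g.2
      apply Subtype.ext
      rw [Subgroup.coe_pow, ← he, ← map_pow]
      have h1 : e ^ p = 1 := Subtype.ext (by rw [Subgroup.coe_pow]; exact hEp e e.2)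
      rw [h1, map_one]
      rfl
    have hcard : Nat.card φ.range = orderOf g := by
      rw [← Nat.card_zpowers]
      have h1 : Subgroup.zpowers g = ⊤ := (Subgroup.eq_top_iff' _).mpr hg
      rw [h1, Subgroup.card_top]
    rw [hcard]
    exact Nat.le_of_dvd (Fact.out : p.Prime).pos (orderOf_dvd_of_pow_eq_one hgp)
  · intro e he u hu
    have h1 : φ e = 1 := MonoidHom.mem_ker.mp he
    have h2 : (φ e) ⟨u, hu⟩ = ⟨u, hu⟩ := by
      rw [h1]
      rfl
    have h3 := congrArg Subtype.val h2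
    have h4 : ((φ e) ⟨u, hu⟩ : G) = (e : G) * u * (e : G)⁻¹ := by
      rw [hφ]
      rfl
    rw [h4] at h3
    calc (e : G) * u = ((e : G) * u * (e : G)⁻¹) * e := by group
      _ = u * e := by rw [h3]

theorem exists_good [Finite G] {p s : ℕ} [Fact p.Prime] [Fact s.Prime] (hps : p ≠ s)
    {E W : Subgroup G} (hE : IsElementaryAbelian p E) (hE3 : p ^ 3 ≤ Nat.card E)
    (hW : IsPGroup s W) (hW2 : s ^ 2 ≤ Nat.card W) (hEW : E ≤ normalizer (W : Set G)) :
    ∃ y ∈ E, y ≠ 1 ∧ s ^ 2 ≤ Nat.card (W ⊓ centralizer ({y} : Set G) : Subgroup G) := by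
  by_contra hcon
  push Not at hcon
  have hp : p.Prime := Fact.out
  have hs : s.Prime := Fact.out
  have hEc : IsMulCommutative E := hE.1
  have hEp : ∀ a ∈ E, a ^ p = 1 := hE.2
  have hEcomm : ∀ a ∈ E, ∀ b ∈ E, a * b = b * a := by
    intro a ha b hb
    have h1 := hEc.is_comm.comm (⟨a, ha⟩ : E) ⟨b, hb⟩
    exact congrArg Subtype.val h1
  have hEpg : IsPGroup p E := by
    rintro ⟨a, ha⟩
    exact ⟨1, Subtype.ext (by rw [pow_one, Subgroup.coe_pow]; exact hEp a ha)⟩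
  have hEnc : ¬ IsCyclic E := by
    intro hc
    obtain ⟨g, hg⟩ := IsCyclic.exists_generator (α := E)
    have hcard : Nat.card E = orderOf g := by
      rw [← Nat.card_zpowers]
      have h1 : Subgroup.zpowers g = ⊤ := (Subgroup.eq_top_iff' _).mpr hg
      rw [h1, Subgroup.card_top]
    have h2 : orderOf g ∣ p :=
      orderOf_dvd_of_pow_eq_one (Subtype.ext (by rw [Subgroup.coe_pow]; exact hEp g g.2))
    have h3 : Nat.card E ≤ p := hcard ▸ Nat.le_of_dvd hp.pos h2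
    have h4 := hp.two_le
    have h5 : 2 * (p * p) ≤ p ^ 3 := by
      calc 2 * (p * p) ≤ p * (p * p) := Nat.mul_le_mul_right _ h4
        _ = p ^ 3 := by ring
    have h6 : 2 * 2 ≤ p * p := Nat.mul_le_mul h4 h4
    have h7 : p ^ 3 ≤ p := hE3.trans h3
    have h8 : p ≤ p * p := Nat.le_mul_self p
    omega
  have hcop : (Nat.card E).Coprime (Nat.card W) := by
    obtain ⟨k, hk⟩ := IsPGroup.iff_card.mp hEpg
    obtain ⟨l, hl⟩ := IsPGroup.iff_card.mp hW
    rw [hk, hl]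
    exact Nat.Coprime.pow _ _ ((Nat.coprime_primes hp hs).mpr hps)
  have hgen : Cfsg.Agent.Lib.Helper30.genCent E W = W :=
    Cfsg.Agent.Lib.Helper30.genCent_eq hEnc _ W rfl hEW hcop
  have hLcard : ∀ y ∈ E, y ≠ 1 → (W ⊓ centralizer ({y} : Set G) = ⊥ ∨
      Nat.card (W ⊓ centralizer ({y} : Set G) : Subgroup G) = s) := by
    intro y hy hy1
    have h1 := hcon y hy hy1
    have hpg : IsPGroup s (W ⊓ centralizer ({y} : Set G) : Subgroup G) := hW.to_le inf_le_left
    obtain ⟨k, hk⟩ := IsPGroup.iff_card.mp hpg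
    rw [hk] at h1
    have hk2 : k < 2 := (Nat.pow_lt_pow_iff_right hs.one_lt).mp h1
    interval_cases k
    · left
      rw [pow_zero] at hk
      exact Subgroup.card_eq_one.mp hk
    · right
      rw [hk, pow_one]
  have hex1 : ∃ y₁ ∈ E, y₁ ≠ 1 ∧ W ⊓ centralizer ({y₁} : Set G) ≠ ⊥ := by
    by_contra h
    push Not at h
    have h1 : Cfsg.Agent.Lib.Helper30.genCent E W = ⊥ := by
      unfold Cfsg.Agent.Lib.Helper30.genCent
      rw [iSup₂_eq_bot]
      intro a ha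
      exact h a ha.1 ha.2
    rw [hgen] at h1
    rw [h1, Subgroup.card_bot, pow_two] at hW2
    have h2 := hs.two_le
    have h3 : 2 * 2 ≤ s * s := Nat.mul_le_mul h2 h2
    omega
  obtain ⟨y₁, hy₁E, hy₁1, hL₁ne⟩ := hex1
  have hL₁card : Nat.card (W ⊓ centralizer ({y₁} : Set G) : Subgroup G) = s :=
    (hLcard y₁ hy₁E hy₁1).resolve_left hL₁ne
  have hex2 : ∃ y₂ ∈ E, y₂ ≠ 1 ∧
      ¬ (W ⊓ centralizer ({y₂} : Set G) ≤ W ⊓ centralizer ({y₁} : Set G)) := by
    by_contra h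
    push Not at h
    have hle : Cfsg.Agent.Lib.Helper30.genCent E W ≤ W ⊓ centralizer ({y₁} : Set G) := by
      unfold Cfsg.Agent.Lib.Helper30.genCent
      exact iSup₂_le (fun a ha => h a ha.1 ha.2)
    rw [hgen] at hle
    have h1 := Subgroup.card_le_of_le hle
    rw [hL₁card] at h1
    have h2 := hs.two_le
    have h3 : 2 * s ≤ s * s := Nat.mul_le_mul_right _ h2
    rw [pow_two] at hW2
    omega
  obtain ⟨y₂, hy₂E, hy₂1, hL₂⟩ := hex2
  have hL₂ne : W ⊓ centralizer ({y₂} : Set G) ≠ ⊥ := by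
    intro h
    apply hL₂
    rw [h]
    exact bot_le
  have hL₂card := (hLcard y₂ hy₂E hy₂1).resolve_left hL₂ne
  have hnorm : ∀ y ∈ E,
      E ≤ normalizer ((W ⊓ centralizer ({y} : Set G) : Subgroup G) : Set G) := by
    intro y hy e he
    exact Subgroup.inf_normalizer_le_normalizer_inf (Subgroup.mem_inf.mpr ⟨hEW he,
      Cfsg.Agent.Lib.Helper30.mem_normalizer_centralizer_singleton (hEcomm y hy e he)⟩)
  obtain ⟨K₁, hK₁i, hK₁c⟩ := pg2_kernel hEp (hnorm y₁ hy₁E) hL₁card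
  obtain ⟨K₂, hK₂i, hK₂c⟩ := pg2_kernel hEp (hnorm y₂ hy₂E) hL₂card
  have hidx : (K₁ ⊓ K₂).index ≤ p * p :=
    (Subgroup.index_inf_le).trans (Nat.mul_le_mul hK₁i hK₂i)
  have hcardE := (K₁ ⊓ K₂).card_mul_index
  have hne : K₁ ⊓ K₂ ≠ ⊥ := by
    intro h
    rw [h, Subgroup.card_bot, one_mul] at hcardE
    rw [h] at hidx
    rw [hcardE] at hidx
    have h2 := hp.two_le
    have h5 : 2 * (p * p) ≤ p ^ 3 := by
      calc 2 * (p * p) ≤ p * (p * p) := Nat.mul_le_mul_right _ h2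
        _ = p ^ 3 := by ring
    have h6 : 2 * 2 ≤ p * p := Nat.mul_le_mul h2 h2
    omega
  obtain ⟨y, hy1⟩ := (Subgroup.ne_bot_iff_exists_ne_one).mp hne
  have hyK' : (y : E) ∈ K₁ ⊓ K₂ := y.2
  have hy1' : ((y : E) : G) ≠ 1 := by
    intro h
    apply hy1
    exact Subtype.ext (Subtype.ext h)
  have hsup : (W ⊓ centralizer ({y₁} : Set G)) ⊔ (W ⊓ centralizer ({y₂} : Set G)) ≤
      W ⊓ centralizer ({((y : E) : G)} : Set G) := by
    apply sup_le
    · intro u hu
      refine Subgroup.mem_inf.mpr ⟨(Subgroup.mem_inf.mp hu).1, ?_⟩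
      rw [Subgroup.mem_centralizer_singleton_iff]
      exact (hK₁c _ hyK'.1 u hu).symm
    · intro u hu
      refine Subgroup.mem_inf.mpr ⟨(Subgroup.mem_inf.mp hu).1, ?_⟩
      rw [Subgroup.mem_centralizer_singleton_iff]
      exact (hK₂c _ hyK'.2 u hu).symm
  have h3 := hcon _ (y : E).2 hy1'
  have h4 := Subgroup.card_le_of_le hsup
  have hpgsup : IsPGroup s
      ↥((W ⊓ centralizer ({y₁} : Set G)) ⊔ (W ⊓ centralizer ({y₂} : Set G))) :=
    hW.to_le (sup_le inf_le_left inf_le_left)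
  obtain ⟨k, hk⟩ := IsPGroup.iff_card.mp hpgsup
  have hk2 : k < 2 := by
    apply (Nat.pow_lt_pow_iff_right hs.one_lt).mp
    rw [← hk]
    exact lt_of_le_of_lt h4 h3
  have h5 : (W ⊓ centralizer ({y₁} : Set G)) =
      (W ⊓ centralizer ({y₁} : Set G)) ⊔ (W ⊓ centralizer ({y₂} : Set G)) := by
    apply Subgroup.eq_of_le_of_card_ge le_sup_left
    rw [hk, hL₁card]
    interval_cases k
    · rw [pow_zero]
      exact hs.one_lt.le
    · rw [pow_one]
  apply hL₂
  rw [h5]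
  exact le_sup_right

/-- verbatim check of the posted statement -/
example [Finite G] {p s : ℕ} [Fact p.Prime] [Fact s.Prime] (hps : p ≠ s)
    {E W : Subgroup G} (hE : IsElementaryAbelian p E) (hE3 : p ^ 3 ≤ Nat.card E)
    (hW : IsPGroup s W) (hW2 : s ^ 2 ≤ Nat.card W) (hEW : E ≤ normalizer (W : Set G)) :
    ∃ y ∈ E, y ≠ 1 ∧ s ^ 2 ≤ Nat.card (W ⊓ centralizer ({y} : Set G) : Subgroup G) :=
  exists_good hps hE hE3 hW hW2 hEW

end Cfsg.Agent.H53.BG95
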