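import Mathlib
import Cfsg.Prelude
import Cfsg.Agent.Lib.Helper30.Generation

/-!
# S1402 (B&G 9.5), piece PG3 (helper53 for helper38)
-/

set_option autoImplicit false

open Cfsg Subgroup

namespace Cfsg.Agent.H53.BG95

universe u

variable {G : Type u} [Group G]

/-- a cyclic group of exponent dividing `p` has at most `p` elements. -/
theorem pg3_card_le {H : Type*} [Group H] [Finite H] [IsCyclic H] {p : ℕ} (hp : 0 < p)
    (h : ∀ x : H, x ^ p = 1) : Nat.card H ≤ p := by
  rw [← IsCyclic.exponent_eq_card]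
  exact Nat.le_of_dvd hp (Monoid.exponent_dvd_of_forall_pow_eq_one h)

/-- in a commutative group of exponent `p` and order at least `p ^ 3`, every nontrivial element is
avoided by some noncyclic subgroup. -/
theorem pg3_aux {H : Type*} [Group H] [Finite H] {p : ℕ} [Fact p.Prime]
    (hcomm : ∀ x y : H, x * y = y * x)
    (hexp : ∀ x : H, x ^ p = 1) (h3 : p ^ 3 ≤ Nat.card H) {a : H} (ha : a ≠ 1) :
    ∃ E' : Subgroup H, a ∉ E' ∧ ¬ IsCyclic E' := by
  have hp : p.Prime := Fact.out
  obtain ⟨E', hE'S, hmax⟩ := Set.exists_max_image {K : Subgroup H | a ∉ K}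
    (fun K => Nat.card K) (Set.toFinite _) ⟨⊥, by simpa [Subgroup.mem_bot] using ha⟩
  have hE'a : a ∉ E' := hE'S
  -- membership in a join, commutative case
  have hsup : ∀ (K : Subgroup H) (x y : H), y ∈ K ⊔ Subgroup.zpowers x →
      ∃ e ∈ K, ∃ z ∈ Subgroup.zpowers x, e * z = y := by
    intro K x y hy
    let _ : CommGroup H := { ‹Group H› with mul_comm := hcomm }
    exact Subgroup.mem_sup.mp hy
  have hcov : ∀ x : H, x ∈ E' ⊔ Subgroup.zpowers a := by
    intro x
    by_cases hx : x ∈ E'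
    · exact (le_sup_left : E' ≤ E' ⊔ Subgroup.zpowers a) hx
    · have hx1 : x ≠ 1 := fun h => hx (h ▸ E'.one_mem)
      have hmem : a ∈ E' ⊔ Subgroup.zpowers x := by
        by_contra hna
        have h1 := hmax _ hna
        have h2 : E' = E' ⊔ Subgroup.zpowers x :=
          Subgroup.eq_of_le_of_card_ge le_sup_left h1
        apply hx
        rw [h2]
        exact (le_sup_right : Subgroup.zpowers x ≤ E' ⊔ Subgroup.zpowers x)
          (Subgroup.mem_zpowers x)
      obtain ⟨e, he, z, hz, hez⟩ := hsup _ _ _ hmem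
      have hz1 : z ≠ 1 := by
        intro h
        apply hE'a
        rw [← hez, h, mul_one]
        exact he
      have hzx : Subgroup.zpowers z = Subgroup.zpowers x := by
        apply Subgroup.eq_of_le_of_card_ge ((Subgroup.zpowers_le).mpr hz)
        rw [Nat.card_zpowers, Nat.card_zpowers, orderOf_eq_prime (hexp z) hz1,
          orderOf_eq_prime (hexp x) hx1]
      have hzm : z ∈ E' ⊔ Subgroup.zpowers a := by
        have h1 : z = e⁻¹ * a := by rw [← hez]; group
        rw [h1]
        exact Subgroup.mul_mem _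
          ((le_sup_left : E' ≤ E' ⊔ Subgroup.zpowers a) (E'.inv_mem he))
          ((le_sup_right : Subgroup.zpowers a ≤ E' ⊔ Subgroup.zpowers a)
            (Subgroup.mem_zpowers a))
      have h2 : x ∈ Subgroup.zpowers z := hzx ▸ Subgroup.mem_zpowers x
      exact ((Subgroup.zpowers_le).mpr hzm) h2
  have hcard : Nat.card H ≤ Nat.card E' * p := by
    have hsurj : Function.Surjective
        (fun q : E' × Subgroup.zpowers a => (q.1 : H) * (q.2 : H)) := by
      intro x
      obtain ⟨e, he, z, hz, hez⟩ := hsup _ _ _ (hcov x)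
      exact ⟨(⟨e, he⟩, ⟨z, hz⟩), hez⟩
    have h1 := Nat.card_le_card_of_surjective _ hsurj
    rw [Nat.card_prod, Nat.card_zpowers, orderOf_eq_prime (hexp a) ha] at h1
    exact h1
  refine ⟨E', hE'a, ?_⟩
  intro hc
  have h1 : Nat.card E' ≤ p :=
    pg3_card_le hp.pos (fun x => Subtype.ext (by rw [Subgroup.coe_pow]; exact hexp x))
  have h2 : p ^ 3 ≤ p * p := h3.trans (hcard.trans (Nat.mul_le_mul_right _ h1))
  have h4 := hp.two_le
  have h5 : 2 * (p * p) ≤ p ^ 3 := by
    calc 2 * (p * p) ≤ p * (p * p) := Nat.mul_le_mul_right _ h4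
      _ = p ^ 3 := by ring
  have h6 : 2 * 2 ≤ p * p := Nat.mul_le_mul h4 h4
  omega

theorem exists_B [Finite G] {p : ℕ} [Fact p.Prime] {A E W : Subgroup G}
    (hAc : IsMulCommutative A) (hEA : E ≤ A) (hE : IsElementaryAbelian p E)
    (hE3 : p ^ 3 ≤ Nat.card E) (hW : (Nat.card W).Coprime p)
    (hAW : A ≤ normalizer (W : Set G)) (hne : ¬ A ≤ centralizer (W : Set G)) :
    ∃ B : Subgroup G, B ≤ E ∧ IsElementaryAbelian p B ∧ ¬ IsCyclic B ∧
      ¬ A ≤ centralizer ((W ⊓ centralizer (B : Set G) : Subgroup G) : Set G) := by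
  have hp : p.Prime := Fact.out
  have hEp : ∀ a ∈ E, a ^ p = 1 := hE.2
  have hAcomm : ∀ a ∈ A, ∀ b ∈ A, a * b = b * a := by
    intro a ha b hb
    have h1 := hAc.is_comm.comm (⟨a, ha⟩ : A) ⟨b, hb⟩
    exact congrArg Subtype.val h1
  have hEcomm : ∀ a ∈ E, ∀ b ∈ E, a * b = b * a :=
    fun a ha b hb => hAcomm a (hEA ha) b (hEA hb)
  have hsubc : ∀ F : Subgroup G, F ≤ E → IsMulCommutative F := by
    intro F hF
    exact ⟨⟨fun x y => Subtype.ext (hEcomm x (hF x.2) y (hF y.2))⟩⟩
  have hsubp : ∀ F : Subgroup G, F ≤ E → IsPGroup p F := by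
    intro F hF
    rintro ⟨a, ha⟩
    exact ⟨1, Subtype.ext (by rw [pow_one, Subgroup.coe_pow]; exact hEp a (hF ha))⟩
  have hEnc : ¬ IsCyclic E := by
    intro hc
    have h3 : Nat.card E ≤ p :=
      pg3_card_le hp.pos (fun x => Subtype.ext (by rw [Subgroup.coe_pow]; exact hEp x x.2))
    have h4 := hp.two_le
    have h5 : 2 * (p * p) ≤ p ^ 3 := by
      calc 2 * (p * p) ≤ p * (p * p) := Nat.mul_le_mul_right _ h4
        _ = p ^ 3 := by ring
    have h6 : 2 * 2 ≤ p * p := Nat.mul_le_mul h4 h4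
    have h7 : p ^ 3 ≤ p := hE3.trans h3
    have h8 : p ≤ p * p := Nat.le_mul_self p
    omega
  -- the generation step
  have key : ∀ (F K : Subgroup G), F ≤ E → ¬ IsCyclic F → K ≤ W →
      A ≤ normalizer (K : Set G) → ¬ A ≤ centralizer (K : Set G) →
      ∃ a ∈ F, a ≠ 1 ∧
        ¬ A ≤ centralizer ((K ⊓ centralizer ({a} : Set G) : Subgroup G) : Set G) := by
    intro F K hFE hFnc hKW hKN hKne
    have : IsMulCommutative F := hsubc F hFE
    have hcop : (Nat.card F).Coprime (Nat.card K) := by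
      obtain ⟨k, hk⟩ := IsPGroup.iff_card.mp (hsubp F hFE)
      rw [hk]
      exact Nat.Coprime.coprime_dvd_right (Subgroup.card_dvd_of_le hKW)
        (Nat.Coprime.pow_left k hW.symm)
    have hgen : Cfsg.Agent.Lib.Helper30.genCent F K = K :=
      Cfsg.Agent.Lib.Helper30.genCent_eq hFnc _ K rfl ((hFE.trans hEA).trans hKN) hcop
    by_contra h
    push Not at h
    apply hKne
    rw [Subgroup.le_centralizer_iff, ← hgen]
    unfold Cfsg.Agent.Lib.Helper30.genCent
    apply iSup₂_le
    intro a ha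
    rw [← Subgroup.le_centralizer_iff]
    exact h a ha.1 ha.2
  obtain ⟨a, haE, ha1, hna⟩ := key E W le_rfl hEnc le_rfl hAW hne
  have hW₁N : A ≤ normalizer ((W ⊓ centralizer ({a} : Set G) : Subgroup G) : Set G) := by
    intro e he
    exact Subgroup.inf_normalizer_le_normalizer_inf (Subgroup.mem_inf.mpr ⟨hAW he,
      Cfsg.Agent.Lib.Helper30.mem_normalizer_centralizer_singleton
        (hAcomm a (hEA haE) e he)⟩)
  -- a noncyclic subgroup of `E` avoiding `a`
  have ha1' : (⟨a, haE⟩ : E) ≠ 1 := fun h => ha1 (congrArg Subtype.val h)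
  have hE3' : p ^ 3 ≤ Nat.card (E : Type u) := hE3
  obtain ⟨E', hE'a, hE'nc⟩ := pg3_aux (H := E) (p := p)
    (fun x y => Subtype.ext (hEcomm x x.2 y y.2))
    (fun x => Subtype.ext (by rw [Subgroup.coe_pow]; exact hEp x x.2)) hE3' ha1'
  have hFE : E'.map E.subtype ≤ E := Subgroup.map_subtype_le E'
  have hFnc : ¬ IsCyclic (E'.map E.subtype) := by
    intro hc
    apply hE'nc
    have e := E'.equivMapOfInjective E.subtype (Subgroup.subtype_injective E)
    exact isCyclic_of_surjective e.symm e.symm.surjective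
  have haF : a ∉ E'.map E.subtype := by
    intro h
    obtain ⟨x, hx, hxa⟩ := Subgroup.mem_map.mp h
    apply hE'a
    have h1 : x = ⟨a, haE⟩ := Subtype.ext hxa
    rw [← h1]
    exact hx
  obtain ⟨b, hbF, hb1, hnb⟩ := key (E'.map E.subtype) (W ⊓ centralizer ({a} : Set G)) hFE hFnc
    inf_le_left hW₁N hna
  have hbE : b ∈ E := hFE hbF
  have hBE : Subgroup.zpowers a ⊔ Subgroup.zpowers b ≤ E :=
    sup_le ((Subgroup.zpowers_le).mpr haE) ((Subgroup.zpowers_le).mpr hbE)
  refine ⟨Subgroup.zpowers a ⊔ Subgroup.zpowers b, hBE, ⟨hsubc _ hBE, fun x hx => hEp x (hBE hx)⟩,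
    ?_, ?_⟩
  · intro hc
    have h1 : Nat.card (Subgroup.zpowers a ⊔ Subgroup.zpowers b : Subgroup G) ≤ p :=
      pg3_card_le hp.pos
        (fun x => Subtype.ext (by rw [Subgroup.coe_pow]; exact hEp x (hBE x.2)))
    have h2 : Subgroup.zpowers a = Subgroup.zpowers a ⊔ Subgroup.zpowers b := by
      apply Subgroup.eq_of_le_of_card_ge le_sup_left
      rw [Nat.card_zpowers, orderOf_eq_prime (hEp a haE) ha1]
      exact h1
    have h3 : Subgroup.zpowers b ≤ Subgroup.zpowers a := by
      rw [h2]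
      exact le_sup_right
    have h4 : Subgroup.zpowers b = Subgroup.zpowers a := by
      apply Subgroup.eq_of_le_of_card_ge h3
      rw [Nat.card_zpowers, Nat.card_zpowers, orderOf_eq_prime (hEp a haE) ha1,
        orderOf_eq_prime (hEp b hbE) hb1]
    apply haF
    have h5 : a ∈ Subgroup.zpowers b := h4 ▸ Subgroup.mem_zpowers a
    exact ((Subgroup.zpowers_le).mpr hbF) h5
  · intro hA
    apply hnb
    refine hA.trans (Subgroup.centralizer_le ?_)
    intro u hu
    have hu' : u ∈ (W ⊓ centralizer ({a} : Set G)) ⊓ centralizer ({b} : Set G) := hu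
    obtain ⟨hu1, hub⟩ := Subgroup.mem_inf.mp hu'
    obtain ⟨huW, hua⟩ := Subgroup.mem_inf.mp hu1
    rw [Subgroup.mem_centralizer_singleton_iff] at hua hub
    have hBle : Subgroup.zpowers a ⊔ Subgroup.zpowers b ≤ centralizer ({u} : Set G) := by
      apply sup_le
      · rw [Subgroup.zpowers_le, Subgroup.mem_centralizer_singleton_iff]
        exact hua.symm
      · rw [Subgroup.zpowers_le, Subgroup.mem_centralizer_singleton_iff]
        exact hub.symm
    show u ∈ W ⊓ centralizer ((Subgroup.zpowers a ⊔ Subgroup.zpowers b : Subgroup G) : Set G)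
    refine Subgroup.mem_inf.mpr ⟨huW, ?_⟩
    rw [Subgroup.mem_centralizer_iff]
    intro x hx
    have h1 := hBle hx
    rw [Subgroup.mem_centralizer_singleton_iff] at h1
    exact h1

/-- verbatim check of the posted statement -/
example [Finite G] {p : ℕ} [Fact p.Prime] {A E W : Subgroup G}
    (hAc : IsMulCommutative A) (hEA : E ≤ A) (hE : IsElementaryAbelian p E)
    (hE3 : p ^ 3 ≤ Nat.card E) (hW : (Nat.card W).Coprime p)
    (hAW : A ≤ normalizer (W : Set G)) (hne : ¬ A ≤ centralizer (W : Set G)) :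
    ∃ B : Subgroup G, B ≤ E ∧ IsElementaryAbelian p B ∧ ¬ IsCyclic B ∧
      ¬ A ≤ centralizer ((W ⊓ centralizer (B : Set G) : Subgroup G) : Set G) :=
  exists_B hAc hEA hE hE3 hW hAW hne

end Cfsg.Agent.H53.BG95
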