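import Mathlib
import Cfsg.Agent.H6.DcDefs

/-!
# DC-GEN (helper6's project S2132): `(0 1 2)` and `(1 2 3 4 5 6 7)` generate `A₈` (helper53)

Every product `swap a b * swap a c` of two transpositions with a common point is an explicit word
in the two generators and their inverses (table found by breadth-first search, checked by `decide`);
an even permutation is a product of an even number of transpositions.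
-/

set_option autoImplicit false

namespace Cfsg.Agent.H53.Dc

open Equiv Cfsg.Agent.H6.Dc

/-- the letters: `a1`, `a1⁻¹`, `a2`, `a2⁻¹` -/
def letter : Fin 4 → Perm (Fin 8) := ![a1, a1⁻¹, a2, a2⁻¹]

/-- a word for `swap a b * swap a c` -/
def wordTbl : Fin 8 → Fin 8 → Fin 8 → List (Fin 4) :=
![
  ![![[], [], [], [], [], [], [], []],
    ![[], [], [1], [1, 2, 1, 3], [1, 2, 1, 2, 1, 3, 3], [3, 0, 3, 0, 3, 0, 2, 2, 2], [3, 0, 3, 0, 2, 2], [3, 0, 2]],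
    ![[], [0], [], [2, 1, 3], [2, 1, 2, 1, 3, 3], [2, 1, 2, 1, 2, 1, 3, 3, 3], [0, 3, 0, 3, 0, 2, 2], [0, 3, 0, 2]],
    ![[], [2, 0, 3, 0], [2, 0, 3], [], [2, 2, 1, 3, 3], [2, 2, 1, 2, 1, 3, 3, 3], [0, 2, 2, 0, 2, 0, 2, 2, 0, 2], [2, 0, 3, 0, 3, 0, 2]],
    ![[], [2, 2, 0, 3, 0, 3, 0], [2, 2, 0, 3, 0, 3], [2, 2, 0, 3, 3], [], [2, 2, 2, 1, 3, 3, 3], [2, 2, 2, 1, 2, 1, 2, 2, 2], [2, 0, 2, 2, 0, 2, 0, 2, 2, 0]],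
    ![[], [3, 3, 3, 1, 2, 1, 2, 1, 2], [2, 2, 2, 0, 3, 0, 3, 0, 3], [2, 2, 2, 0, 3, 0, 3, 3], [2, 2, 2, 0, 3, 3, 3], [], [3, 3, 3, 1, 2, 2, 2], [3, 3, 3, 1, 2, 1, 2, 2]],
    ![[], [3, 3, 1, 2, 1, 2], [3, 3, 1, 2, 1, 2, 1], [3, 1, 3, 3, 1, 3, 1, 3, 3, 1], [3, 3, 3, 0, 3, 0, 3, 3, 3], [3, 3, 3, 0, 2, 2, 2], [], [3, 3, 1, 2, 2]],
    ![[], [3, 1, 2], [3, 1, 2, 1], [3, 1, 2, 1, 2, 1, 3], [1, 3, 3, 1, 3, 1, 3, 3, 1, 3], [3, 3, 0, 3, 0, 2, 2, 2], [3, 3, 0, 2, 2], []]],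
  ![![[], [], [0], [2, 0, 3, 0], [2, 2, 0, 3, 0, 3, 0], [3, 3, 3, 1, 2, 1, 2, 1, 2], [3, 3, 1, 2, 1, 2], [3, 1, 2]],
    ![[], [], [], [], [], [], [], []],
    ![[1], [], [], [2, 1, 3, 1], [2, 1, 2, 1, 3, 3, 1], [1, 3, 3, 3, 1, 2, 1, 2, 1, 2], [1, 3, 3, 1, 2, 1, 2], [1, 3, 1, 2]],
    ![[1, 2, 1, 3], [], [0, 2, 0, 3], [], [0, 2, 2, 1, 3, 3, 1], [0, 2, 2, 1, 2, 1, 3, 3, 3, 1], [1, 2, 1, 3, 3, 3, 1, 2, 1, 2], [1, 2, 1, 3, 3, 1, 2]],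
    ![[1, 2, 1, 2, 1, 3, 3], [], [0, 2, 2, 0, 3, 0, 3], [0, 2, 2, 0, 3, 3, 1], [], [0, 2, 2, 2, 1, 3, 3, 3, 1], [0, 2, 0, 2, 2, 0, 2, 1, 2, 0, 2], [0, 2, 0, 2, 2, 0, 2, 0, 2, 2]],
    ![[3, 0, 3, 0, 3, 0, 2, 2, 2], [], [0, 2, 2, 2, 0, 3, 0, 3, 0, 3], [0, 2, 2, 2, 0, 3, 0, 3, 3, 1], [0, 2, 2, 2, 0, 3, 3, 3, 1], [], [0, 3, 3, 3, 1, 2, 2, 2, 1], [3, 1, 3, 3, 1, 2, 1, 2, 2]],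
    ![[3, 0, 3, 0, 2, 2], [], [3, 0, 3, 0, 2, 2, 0], [3, 0, 3, 0, 2, 2, 2, 0, 3, 0], [0, 3, 3, 3, 0, 3, 0, 3, 3, 3, 1], [0, 3, 3, 3, 0, 2, 2, 2, 1], [], [3, 1, 3, 1, 2, 2]],
    ![[3, 0, 2], [], [3, 0, 2, 0], [3, 0, 2, 2, 0, 3, 0], [3, 0, 2, 2, 2, 0, 3, 0, 3, 0], [3, 3, 0, 3, 0, 2, 2, 0, 2], [3, 3, 0, 2, 0, 2], []]],
  ![![[], [1], [], [2, 0, 3], [2, 2, 0, 3, 0, 3], [2, 2, 2, 0, 3, 0, 3, 0, 3], [3, 3, 1, 2, 1, 2, 1], [3, 1, 2, 1]],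
    ![[0], [], [], [0, 2, 0, 3], [0, 2, 2, 0, 3, 0, 3], [0, 2, 2, 2, 0, 3, 0, 3, 0, 3], [3, 0, 3, 0, 2, 2, 0], [3, 0, 2, 0]],
    ![[], [], [], [], [], [], [], []],
    ![[2, 1, 3], [2, 1, 3, 1], [], [], [2, 2, 1, 3, 1, 3], [2, 2, 1, 2, 1, 3, 3, 1, 3], [2, 1, 3, 3, 3, 1, 2, 1, 2, 1], [2, 1, 3, 3, 1, 2, 1]],
    ![[2, 1, 2, 1, 3, 3], [2, 1, 2, 1, 3, 3, 1], [], [2, 0, 2, 0, 3, 3], [], [1, 2, 2, 2, 1, 3, 3, 3, 0], [1, 2, 2, 2, 1, 2, 1, 2, 2, 2, 0], [2, 1, 2, 1, 3, 3, 3, 1, 2, 1]],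
    ![[2, 1, 2, 1, 2, 1, 3, 3, 3], [1, 3, 3, 3, 1, 2, 1, 2, 1, 2], [], [2, 0, 2, 2, 0, 3, 0, 3, 3], [1, 2, 2, 2, 0, 3, 3, 3, 0], [], [1, 3, 3, 3, 1, 2, 2, 2, 0], [1, 3, 3, 3, 1, 2, 1, 2, 2, 0]],
    ![[0, 3, 0, 3, 0, 2, 2], [1, 3, 3, 1, 2, 1, 2], [], [0, 3, 0, 3, 0, 2, 2, 2, 0, 3], [1, 3, 1, 3, 3, 1, 3, 0, 3, 1, 3], [1, 3, 3, 3, 0, 2, 2, 2, 0], [], [1, 3, 3, 1, 2, 2, 0]],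
    ![[0, 3, 0, 2], [1, 3, 1, 2], [], [0, 3, 0, 2, 2, 0, 3], [0, 3, 0, 2, 2, 2, 0, 3, 0, 3], [1, 3, 3, 0, 3, 0, 2, 2, 2, 0], [1, 3, 3, 0, 2, 2, 0], []]],
  ![![[], [1, 2, 1, 3], [2, 1, 3], [], [2, 2, 0, 3, 3], [2, 2, 2, 0, 3, 0, 3, 3], [3, 1, 3, 3, 1, 3, 1, 3, 3, 1], [3, 1, 2, 1, 2, 1, 3]],
    ![[2, 0, 3, 0], [], [2, 1, 3, 1], [], [0, 2, 2, 0, 3, 3, 1], [0, 2, 2, 2, 0, 3, 0, 3, 3, 1], [3, 0, 3, 0, 2, 2, 2, 0, 3, 0], [3, 0, 2, 2, 0, 3, 0]],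
    ![[2, 0, 3], [0, 2, 0, 3], [], [], [2, 0, 2, 0, 3, 3], [2, 0, 2, 2, 0, 3, 0, 3, 3], [0, 3, 0, 3, 0, 2, 2, 2, 0, 3], [0, 3, 0, 2, 2, 0, 3]],
    ![[], [], [], [], [], [], [], []],
    ![[2, 2, 1, 3, 3], [0, 2, 2, 1, 3, 3, 1], [2, 2, 1, 3, 1, 3], [], [], [2, 2, 2, 1, 3, 1, 3, 3], [2, 2, 2, 1, 2, 1, 3, 3, 1, 3, 3], [3, 0, 2, 2, 2, 1, 3, 3, 3, 1, 2]],
    ![[2, 2, 1, 2, 1, 3, 3, 3], [0, 2, 2, 1, 2, 1, 3, 3, 3, 1], [2, 2, 1, 2, 1, 3, 3, 1, 3], [], [2, 2, 0, 2, 0, 3, 3, 3], [], [2, 1, 2, 2, 2, 1, 3, 3, 3, 0, 3], [0, 3, 3, 0, 3, 1, 3, 3, 1, 3, 0, 3, 3]],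
    ![[0, 2, 2, 0, 2, 0, 2, 2, 0, 2], [1, 2, 1, 3, 3, 3, 1, 2, 1, 2], [2, 1, 3, 3, 3, 1, 2, 1, 2, 1], [], [2, 2, 0, 2, 2, 0, 3, 0, 3, 3, 3], [2, 1, 2, 2, 2, 0, 3, 3, 3, 0, 3], [], [2, 1, 3, 3, 3, 1, 2, 2, 2, 0, 3]],
    ![[2, 0, 3, 0, 3, 0, 2], [1, 2, 1, 3, 3, 1, 2], [2, 1, 3, 3, 1, 2, 1], [], [3, 0, 2, 2, 2, 0, 3, 3, 3, 1, 2], [1, 2, 2, 1, 2, 0, 2, 2, 0, 2, 1, 2, 2], [2, 1, 3, 3, 3, 0, 2, 2, 2, 0, 3], []]],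
  ![![[], [1, 2, 1, 2, 1, 3, 3], [2, 1, 2, 1, 3, 3], [2, 2, 1, 3, 3], [], [2, 2, 2, 0, 3, 3, 3], [3, 3, 3, 0, 3, 0, 3, 3, 3], [1, 3, 3, 1, 3, 1, 3, 3, 1, 3]],
    ![[2, 2, 0, 3, 0, 3, 0], [], [2, 1, 2, 1, 3, 3, 1], [0, 2, 2, 1, 3, 3, 1], [], [0, 2, 2, 2, 0, 3, 3, 3, 1], [0, 3, 3, 3, 0, 3, 0, 3, 3, 3, 1], [3, 0, 2, 2, 2, 0, 3, 0, 3, 0]],
    ![[2, 2, 0, 3, 0, 3], [0, 2, 2, 0, 3, 0, 3], [], [2, 2, 1, 3, 1, 3], [], [1, 2, 2, 2, 0, 3, 3, 3, 0], [1, 3, 1, 3, 3, 1, 3, 0, 3, 1, 3], [0, 3, 0, 2, 2, 2, 0, 3, 0, 3]],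
    ![[2, 2, 0, 3, 3], [0, 2, 2, 0, 3, 3, 1], [2, 0, 2, 0, 3, 3], [], [], [2, 2, 0, 2, 0, 3, 3, 3], [2, 2, 0, 2, 2, 0, 3, 0, 3, 3, 3], [3, 0, 2, 2, 2, 0, 3, 3, 3, 1, 2]],
    ![[], [], [], [], [], [], [], []],
    ![[2, 2, 2, 1, 3, 3, 3], [0, 2, 2, 2, 1, 3, 3, 3, 1], [1, 2, 2, 2, 1, 3, 3, 3, 0], [2, 2, 2, 1, 3, 1, 3, 3], [], [], [3, 3, 3, 1, 3, 1, 3, 3, 3], [3, 0, 3, 3, 3, 1, 2, 2, 2, 1, 2]],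
    ![[2, 2, 2, 1, 2, 1, 2, 2, 2], [0, 2, 0, 2, 2, 0, 2, 1, 2, 0, 2], [1, 2, 2, 2, 1, 2, 1, 2, 2, 2, 0], [2, 2, 2, 1, 2, 1, 3, 3, 1, 3, 3], [], [2, 2, 2, 0, 2, 0, 2, 2, 2], [], [3, 3, 1, 3, 3, 1, 2, 1, 2, 2, 2]],
    ![[2, 0, 2, 2, 0, 2, 0, 2, 2, 0], [0, 2, 0, 2, 2, 0, 2, 0, 2, 2], [2, 1, 2, 1, 3, 3, 3, 1, 2, 1], [3, 0, 2, 2, 2, 1, 3, 3, 3, 1, 2], [], [3, 0, 3, 3, 3, 0, 2, 2, 2, 1, 2], [3, 3, 3, 0, 3, 0, 2, 2, 0, 2, 2], []]],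
  ![![[], [3, 0, 3, 0, 3, 0, 2, 2, 2], [2, 1, 2, 1, 2, 1, 3, 3, 3], [2, 2, 1, 2, 1, 3, 3, 3], [2, 2, 2, 1, 3, 3, 3], [], [3, 3, 3, 0, 2, 2, 2], [3, 3, 0, 3, 0, 2, 2, 2]],
    ![[3, 3, 3, 1, 2, 1, 2, 1, 2], [], [1, 3, 3, 3, 1, 2, 1, 2, 1, 2], [0, 2, 2, 1, 2, 1, 3, 3, 3, 1], [0, 2, 2, 2, 1, 3, 3, 3, 1], [], [0, 3, 3, 3, 0, 2, 2, 2, 1], [3, 3, 0, 3, 0, 2, 2, 0, 2]],
    ![[2, 2, 2, 0, 3, 0, 3, 0, 3], [0, 2, 2, 2, 0, 3, 0, 3, 0, 3], [], [2, 2, 1, 2, 1, 3, 3, 1, 3], [1, 2, 2, 2, 1, 3, 3, 3, 0], [], [1, 3, 3, 3, 0, 2, 2, 2, 0], [1, 3, 3, 0, 3, 0, 2, 2, 2, 0]],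
    ![[2, 2, 2, 0, 3, 0, 3, 3], [0, 2, 2, 2, 0, 3, 0, 3, 3, 1], [2, 0, 2, 2, 0, 3, 0, 3, 3], [], [2, 2, 2, 1, 3, 1, 3, 3], [], [2, 1, 2, 2, 2, 0, 3, 3, 3, 0, 3], [1, 2, 2, 1, 2, 0, 2, 2, 0, 2, 1, 2, 2]],
    ![[2, 2, 2, 0, 3, 3, 3], [0, 2, 2, 2, 0, 3, 3, 3, 1], [1, 2, 2, 2, 0, 3, 3, 3, 0], [2, 2, 0, 2, 0, 3, 3, 3], [], [], [2, 2, 2, 0, 2, 0, 2, 2, 2], [3, 0, 3, 3, 3, 0, 2, 2, 2, 1, 2]],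
    ![[], [], [], [], [], [], [], []],
    ![[3, 3, 3, 1, 2, 2, 2], [0, 3, 3, 3, 1, 2, 2, 2, 1], [1, 3, 3, 3, 1, 2, 2, 2, 0], [2, 1, 2, 2, 2, 1, 3, 3, 3, 0, 3], [3, 3, 3, 1, 3, 1, 3, 3, 3], [], [], [3, 3, 1, 3, 1, 2, 2, 2]],
    ![[3, 3, 3, 1, 2, 1, 2, 2], [3, 1, 3, 3, 1, 2, 1, 2, 2], [1, 3, 3, 3, 1, 2, 1, 2, 2, 0], [0, 3, 3, 0, 3, 1, 3, 3, 1, 3, 0, 3, 3], [3, 0, 3, 3, 3, 1, 2, 2, 2, 1, 2], [], [3, 3, 3, 0, 2, 0, 2, 2], []]],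
  ![![[], [3, 0, 3, 0, 2, 2], [0, 3, 0, 3, 0, 2, 2], [0, 2, 2, 0, 2, 0, 2, 2, 0, 2], [2, 2, 2, 1, 2, 1, 2, 2, 2], [3, 3, 3, 1, 2, 2, 2], [], [3, 3, 0, 2, 2]],
    ![[3, 3, 1, 2, 1, 2], [], [1, 3, 3, 1, 2, 1, 2], [1, 2, 1, 3, 3, 3, 1, 2, 1, 2], [0, 2, 0, 2, 2, 0, 2, 1, 2, 0, 2], [0, 3, 3, 3, 1, 2, 2, 2, 1], [], [3, 3, 0, 2, 0, 2]],
    ![[3, 3, 1, 2, 1, 2, 1], [3, 0, 3, 0, 2, 2, 0], [], [2, 1, 3, 3, 3, 1, 2, 1, 2, 1], [1, 2, 2, 2, 1, 2, 1, 2, 2, 2, 0], [1, 3, 3, 3, 1, 2, 2, 2, 0], [], [1, 3, 3, 0, 2, 2, 0]],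
    ![[3, 1, 3, 3, 1, 3, 1, 3, 3, 1], [3, 0, 3, 0, 2, 2, 2, 0, 3, 0], [0, 3, 0, 3, 0, 2, 2, 2, 0, 3], [], [2, 2, 2, 1, 2, 1, 3, 3, 1, 3, 3], [2, 1, 2, 2, 2, 1, 3, 3, 3, 0, 3], [], [2, 1, 3, 3, 3, 0, 2, 2, 2, 0, 3]],
    ![[3, 3, 3, 0, 3, 0, 3, 3, 3], [0, 3, 3, 3, 0, 3, 0, 3, 3, 3, 1], [1, 3, 1, 3, 3, 1, 3, 0, 3, 1, 3], [2, 2, 0, 2, 2, 0, 3, 0, 3, 3, 3], [], [3, 3, 3, 1, 3, 1, 3, 3, 3], [], [3, 3, 3, 0, 3, 0, 2, 2, 0, 2, 2]],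
    ![[3, 3, 3, 0, 2, 2, 2], [0, 3, 3, 3, 0, 2, 2, 2, 1], [1, 3, 3, 3, 0, 2, 2, 2, 0], [2, 1, 2, 2, 2, 0, 3, 3, 3, 0, 3], [2, 2, 2, 0, 2, 0, 2, 2, 2], [], [], [3, 3, 3, 0, 2, 0, 2, 2]],
    ![[], [], [], [], [], [], [], []],
    ![[3, 3, 1, 2, 2], [3, 1, 3, 1, 2, 2], [1, 3, 3, 1, 2, 2, 0], [2, 1, 3, 3, 3, 1, 2, 2, 2, 0, 3], [3, 3, 1, 3, 3, 1, 2, 1, 2, 2, 2], [3, 3, 1, 3, 1, 2, 2, 2], [], []]],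
  ![![[], [3, 0, 2], [0, 3, 0, 2], [2, 0, 3, 0, 3, 0, 2], [2, 0, 2, 2, 0, 2, 0, 2, 2, 0], [3, 3, 3, 1, 2, 1, 2, 2], [3, 3, 1, 2, 2], []],
    ![[3, 1, 2], [], [1, 3, 1, 2], [1, 2, 1, 3, 3, 1, 2], [0, 2, 0, 2, 2, 0, 2, 0, 2, 2], [3, 1, 3, 3, 1, 2, 1, 2, 2], [3, 1, 3, 1, 2, 2], []],
    ![[3, 1, 2, 1], [3, 0, 2, 0], [], [2, 1, 3, 3, 1, 2, 1], [2, 1, 2, 1, 3, 3, 3, 1, 2, 1], [1, 3, 3, 3, 1, 2, 1, 2, 2, 0], [1, 3, 3, 1, 2, 2, 0], []],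
    ![[3, 1, 2, 1, 2, 1, 3], [3, 0, 2, 2, 0, 3, 0], [0, 3, 0, 2, 2, 0, 3], [], [3, 0, 2, 2, 2, 1, 3, 3, 3, 1, 2], [0, 3, 3, 0, 3, 1, 3, 3, 1, 3, 0, 3, 3], [2, 1, 3, 3, 3, 1, 2, 2, 2, 0, 3], []],
    ![[1, 3, 3, 1, 3, 1, 3, 3, 1, 3], [3, 0, 2, 2, 2, 0, 3, 0, 3, 0], [0, 3, 0, 2, 2, 2, 0, 3, 0, 3], [3, 0, 2, 2, 2, 0, 3, 3, 3, 1, 2], [], [3, 0, 3, 3, 3, 1, 2, 2, 2, 1, 2], [3, 3, 1, 3, 3, 1, 2, 1, 2, 2, 2], []],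
    ![[3, 3, 0, 3, 0, 2, 2, 2], [3, 3, 0, 3, 0, 2, 2, 0, 2], [1, 3, 3, 0, 3, 0, 2, 2, 2, 0], [1, 2, 2, 1, 2, 0, 2, 2, 0, 2, 1, 2, 2], [3, 0, 3, 3, 3, 0, 2, 2, 2, 1, 2], [], [3, 3, 1, 3, 1, 2, 2, 2], []],
    ![[3, 3, 0, 2, 2], [3, 3, 0, 2, 0, 2], [1, 3, 3, 0, 2, 2, 0], [2, 1, 3, 3, 3, 0, 2, 2, 2, 0, 3], [3, 3, 3, 0, 3, 0, 2, 2, 0, 2, 2], [3, 3, 3, 0, 2, 0, 2, 2], [], []],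
    ![[], [], [], [], [], [], [], []]]]

set_option maxRecDepth 1000000 in
theorem wordTbl_spec : ∀ a b c : Fin 8, a ≠ b → a ≠ c → b ≠ c →
    ((wordTbl a b c).map letter).prod = swap a b * swap a c := by
  decide

theorem letter_mem (H : Subgroup (Perm (Fin 8))) (h1 : a1 ∈ H) (h2 : a2 ∈ H) (i : Fin 4) :
    letter i ∈ H := by
  fin_cases i
  · exact h1
  · exact H.inv_mem h1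
  · exact h2
  · exact H.inv_mem h2

theorem base_mem (H : Subgroup (Perm (Fin 8))) (h1 : a1 ∈ H) (h2 : a2 ∈ H) (a b c : Fin 8)
    (ab : a ≠ b) (ac : a ≠ c) (bc : b ≠ c) : swap a b * swap a c ∈ H := by
  rw [← wordTbl_spec a b c ab ac bc]
  apply Subgroup.list_prod_mem
  intro x hx
  obtain ⟨i, -, rfl⟩ := List.mem_map.mp hx
  exact letter_mem H h1 h2 i

theorem same_mem (H : Subgroup (Perm (Fin 8))) (h1 : a1 ∈ H) (h2 : a2 ∈ H) (a b c : Fin 8)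
    (ab : a ≠ b) (ac : a ≠ c) : swap a b * swap a c ∈ H := by
  by_cases bc : b = c
  · subst bc
    rw [swap_mul_self]
    exact H.one_mem
  · exact base_mem H h1 h2 a b c ab ac bc

theorem two_swaps_mem (H : Subgroup (Perm (Fin 8))) (h1 : a1 ∈ H) (h2 : a2 ∈ H)
    {σ τ : Perm (Fin 8)} (hσ : σ.IsSwap) (hτ : τ.IsSwap) : σ * τ ∈ H := by
  obtain ⟨a, b, ab, rfl⟩ := hσ
  obtain ⟨c, d, cd, rfl⟩ := hτ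
  by_cases ac : a = c
  · subst ac
    exact same_mem H h1 h2 a b d ab cd
  · have h' : swap a b * swap c d = swap a b * swap a c * (swap c a * swap c d) := by
      simp [swap_comm c a, mul_assoc]
    rw [h']
    exact H.mul_mem (same_mem H h1 h2 a b c ab ac) (same_mem H h1 h2 c a d (Ne.symm ac) cd)

/-- piece DC-GEN. -/
theorem gen : StGen := by
  intro H h1 h2 σ hσ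
  suffices hind : ∀ (n : ℕ) (l : List (Perm (Fin 8))), (∀ g, g ∈ l → g.IsSwap) →
      l.length = 2 * n → l.prod ∈ H by
    obtain ⟨l, rfl, hl⟩ := (Equiv.Perm.truncSwapFactors σ).out
    obtain ⟨n, hn⟩ := (Equiv.Perm.prod_list_swap_mem_alternatingGroup_iff_even_length hl).1 hσ
    rw [← two_mul] at hn
    exact hind n l hl hn
  intro n
  induction n with
  | zero =>
    intro l _ hl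
    have : l = [] := List.length_eq_zero_iff.mp (by omega)
    rw [this, List.prod_nil]
    exact H.one_mem
  | succ n ih =>
    intro l hl hn
    match l, hl, hn with
    | [], _, hn => simp at hn
    | [_], _, hn => simp at hn; omega
    | a :: b :: l, hl, hn =>
      rw [List.prod_cons, List.prod_cons, ← mul_assoc]
      rw [List.length_cons, List.length_cons] at hn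
      exact H.mul_mem (two_swaps_mem H h1 h2 (hl a (by simp)) (hl b (by simp)))
        (ih l (fun g hg => hl g (by simp [hg])) (by omega))

example : Cfsg.Agent.H6.Dc.StGen := gen

end Cfsg.Agent.H53.Dc
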