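import Mathlib
import Cfsg.Agent.H42.EqDefs2
import Cfsg.Agent.H53.EpCntA
import Cfsg.Agent.H53.EqCntB

/-!
# EQ-CNTA (helper53, for helper42): the minus-type twin of EP-CNTA

From the type-generic core `Cfsg.Agent.H53.Ep.cntA_core` with `pl := False`.  The Witt
transitivity needed is `StOrbM`, the mirror of helper48's `StOrbP` for minus-type subspaces.
-/

set_option autoImplicit false

namespace Cfsg.Agent.H53.Eq

open Cfsg.Agent.H45 Cfsg.Agent.H42.Spd Cfsg.Agent.H42.Ti Cfsg.Agent.H48.Ep Module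

universe u

/-- EQ-ORBM (Witt): two nondegenerate minus-type subspaces of the same dimension, both orthogonal
to a nondegenerate subspace `R`, are conjugate under an isometry fixing `R` pointwise.
(The mirror of `Cfsg.Agent.H48.Ep.StOrbP` with `¬ QPlus`.) -/
def StOrbM : Prop :=
  ∀ (F : Type u) [Field F] [Fintype F] (d : ℕ), 4 ≤ d →
    ∀ R W W' : Submodule F (Fin d ⊕ Fin d → F),
    QNd (Cfsg.Agent.H49.QP d F) R → QNd (Cfsg.Agent.H49.QP d F) W →
    QNd (Cfsg.Agent.H49.QP d F) W' →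
    (∀ u ∈ W, ∀ v ∈ R, QuadraticMap.polar (Cfsg.quadFormPlus d F) u v = 0) →
    (∀ u ∈ W', ∀ v ∈ R, QuadraticMap.polar (Cfsg.quadFormPlus d F) u v = 0) →
    Module.finrank F W = Module.finrank F W' →
    ¬ QPlus (Cfsg.Agent.H49.QP d F) W → ¬ QPlus (Cfsg.Agent.H49.QP d F) W' →
    ∃ g : Matrix.GeneralLinearGroup (Fin d ⊕ Fin d) F,
      g ∈ Cfsg.isometryGroup F (Cfsg.quadFormPlus d F) ∧
      (∀ v ∈ R, Matrix.toLin' (g : Matrix (Fin d ⊕ Fin d) (Fin d ⊕ Fin d) F) v = v) ∧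
      W.map (Matrix.toLin' (g : Matrix (Fin d ⊕ Fin d) (Fin d ⊕ Fin d) F)) = W'

/-- **EQ-CNTA**. -/
theorem cntA (hS : Cfsg.Agent.H48.Ep.StStruct.{u,u}) (hBr : Cfsg.Agent.H48.Ep.StBridge.{u})
    (hOrb : StOrbM.{u}) : Cfsg.Agent.H42.Eq.StCntA.{u} := by
  intro F _ _ p _ _ r hr hr2 hrp d m hd hm hm2 hmc x hx hxr hmK hKc
  have hOrbT : Cfsg.Agent.H53.Ep.OrbTy F d False := by
    intro R W W' hR hW hW' h1 h2 h3 h4 h5
    exact hOrb F d hd R W W' hR hW hW' h1 h2 h3 (fun h => h4.mp h) (fun h => h5.mp h)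
  have hcore := Cfsg.Agent.H53.Ep.cntA_core hS hBr F p r hr hr2 hrp d m False hm hm2 hmc hOrbT
    x hx hxr hmK hKc
  have hcard : Nat.card {W : Submodule F (Fin d ⊕ Fin d → F) //
        Cfsg.Agent.H42.Eq.IsEll F d m W} =
      Nat.card {W : Submodule F (Fin d ⊕ Fin d → F) // Cfsg.Agent.H53.Ep.IsTy F d m False W} := by
    apply Nat.card_congr
    apply Equiv.subtypeEquivRight
    intro W
    rw [isEll_iff d m W]
    unfold Cfsg.Agent.H53.Ep.IsTy
    rw [iff_false]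
  rw [hcard]
  exact hcore

example (hS : Cfsg.Agent.H48.Ep.StStruct.{u,u}) (hBr : Cfsg.Agent.H48.Ep.StBridge.{u})
    (hOrb : Cfsg.Agent.H53.Eq.StOrbM.{u}) : Cfsg.Agent.H42.Eq.StCntA.{u} := cntA hS hBr hOrb

end Cfsg.Agent.H53.Eq
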