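import Cfsg.Agent.H53.PRed6
import Cfsg.Agent.H53.PRed2
import Cfsg.Agent.H53.FrakM

set_option autoImplicit false
open Cfsg

namespace Cfsg.Agent.H53

/-- In a group of parabolic characteristic `p`, an overgroup of a Sylow `p`-subgroup with
nontrivial `O_p` lies in `𝓛_H`. -/
theorem mem_charPSubgroups_of_parabolicChar {p : ℕ} [Fact p.Prime] {H : Type*} [Group H]
    [Finite H] (hH : IsOfParabolicCharacteristic p H) (T : Sylow p H) {X : Subgroup H}
    (hTX : (T : Subgroup H) ≤ X) (hX1 : pCoreOf p X ≠ ⊥) : X ∈ charPSubgroups p H := by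
  rw [mem_charPSubgroups_iff]
  refine ⟨hX1, ?_⟩
  have hXN : X ≤ Subgroup.normalizer ((pCoreOf p X : Subgroup H) : Set H) :=
    le_normalizer_pCoreOf p X
  have hchar := hH (pCoreOf p X) (pCoreOf_isPGroup p X) hX1 ⟨T, hTX.trans hXN⟩
  have hamb := charP_ambient_of_subtype hchar
  have h1 : pCoreOf p (Subgroup.normalizer ((pCoreOf p X : Subgroup H) : Set H)) ≤ pCoreOf p X :=
    le_pCoreOf ((pCoreOf_le_sylow T (hTX.trans hXN)).trans hTX)
      (hXN.trans (le_normalizer_pCoreOf p _)) (pCoreOf_isPGroup p _)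
  intro x hx
  have hxN : x ∈ Subgroup.normalizer ((pCoreOf p X : Subgroup H) : Set H) :=
    Subgroup.centralizer_le_normalizer _ hx
  have hxC : x ∈ Subgroup.centralizer
      ((pCoreOf p (Subgroup.normalizer ((pCoreOf p X : Subgroup H) : Set H)) : Subgroup H) : Set H) :=
    Subgroup.centralizer_le h1 hx
  exact h1 (hamb (Subgroup.mem_inf.mpr ⟨hxN, hxC⟩))

/-- Monotonicity of `Y` along overgroups of a Sylow subgroup inside a group of characteristic `p`. -/
theorem largestPReducedOf_mono {p : ℕ} [Fact p.Prime] {H : Type*} [Group H] [Finite H]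
    (T : Sylow p H) {F X : Subgroup H} (hTF : (T : Subgroup H) ≤ F) (hFX : F ≤ X)
    (hX : X ⊓ Subgroup.centralizer ((pCoreOf p X : Subgroup H) : Set H) ≤ pCoreOf p X) :
    largestPReducedOf p F ≤ largestPReducedOf p X := by
  have hTX := hTF.trans hFX
  have hOXF : pCoreOf p X ≤ pCoreOf p F :=
    le_pCoreOf ((pCoreOf_le_sylow T hTX).trans hTF) (hFX.trans (le_normalizer_pCoreOf p X))
      (pCoreOf_isPGroup p X)
  have hYC : largestPReducedOf p F ≤ Subgroup.centralizer ((pCoreOf p X : Subgroup H) : Set H) := by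
    intro y hy
    rw [Subgroup.mem_centralizer_iff]
    intro z hz
    have := pCoreOf_le_centralizer_largestPReducedOf p F (hOXF hz)
    exact ((Subgroup.mem_centralizer_iff.mp this) y hy).symm
  have hYZ : largestPReducedOf p F ≤
      pCoreOf p X ⊓ Subgroup.centralizer ((pCoreOf p X : Subgroup H) : Set H) := by
    intro y hy
    have hyC := hYC hy
    exact Subgroup.mem_inf.mpr
      ⟨hX (Subgroup.mem_inf.mpr ⟨hFX (largestPReducedOf_le p F hy), hyC⟩), hyC⟩
  have hW : ∀ x ∈ X, cj(x, (largestPReducedOf p F)) ≤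
      pCoreOf p X ⊓ Subgroup.centralizer ((pCoreOf p X : Subgroup H) : Set H) := by
    intro x hx
    have h1 := cj_mono x hYZ
    rw [cj_inf, cj_centralizer, cj_of_mem_normalizer (le_normalizer_pCoreOf p X hx)] at h1
    exact h1
  have hVel : IsElementaryAbelian p (sSup {W : Subgroup H | ∃ x ∈ X, W = cj(x, (largestPReducedOf p F))}) := by
    apply isElementaryAbelian_sSup
    · rintro W ⟨x, hx, rfl⟩ a ha
      exact (isElementaryAbelian_iff.mp
        (isElementaryAbelian_map _ (largestPReducedOf_isElementaryAbelian p F))).2 a ha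
    · rintro W ⟨x, hx, rfl⟩ W' ⟨x', hx', rfl⟩ a ha
      rw [Subgroup.mem_centralizer_iff]
      intro b hb
      have ha' := (Subgroup.mem_inf.mp (hW x hx ha)).1
      have hb' := (Subgroup.mem_inf.mp (hW x' hx' hb)).2
      exact ((Subgroup.mem_centralizer_iff.mp hb') a ha').symm
  have hYV : largestPReducedOf p F ≤ sSup {W : Subgroup H | ∃ x ∈ X, W = cj(x, (largestPReducedOf p F))} :=
    le_sSup ⟨1, X.one_mem, (cj_one _).symm⟩
  have hVX : sSup {W : Subgroup H | ∃ x ∈ X, W = cj(x, (largestPReducedOf p F))} ≤ X := by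
    apply sSup_le
    rintro W ⟨x, hx, rfl⟩
    exact cj_le_of_mem hx ((largestPReducedOf_le p F).trans hFX)
  have hXV : X ≤ Subgroup.normalizer
      ((sSup {W : Subgroup H | ∃ x ∈ X, W = cj(x, (largestPReducedOf p F))} : Subgroup H) : Set H) := by
    intro x hx
    rw [mem_normalizer_iff_cj]
    apply cj_eq_self_of_le_of_card
    rw [cj_le_iff]
    apply sSup_le
    rintro W ⟨x', hx', rfl⟩
    rw [← cj_le_iff, cj_cj]
    exact le_sSup ⟨x * x', X.mul_mem hx hx', rfl⟩
  have hPR : PRedIn p X (sSup {W : Subgroup H | ∃ x ∈ X, W = cj(x, (largestPReducedOf p F))}) := by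
    intro D hDX hXD hDp
    have hDp' : ∀ d ∈ D, ∃ k : ℕ, d ^ (p ^ k) ∈
        Subgroup.centralizer ((largestPReducedOf p F : Subgroup H) : Set H) := by
      intro d hd
      obtain ⟨k, hk⟩ := hDp d hd
      exact ⟨k, Subgroup.centralizer_le hYV hk⟩
    have hstep1 : D ≤ Subgroup.centralizer ((largestPReducedOf p F : Subgroup H) : Set H) := by
      have hD₁ : F ⊓ D ≤ Subgroup.centralizer ((largestPReducedOf p F : Subgroup H) : Set H) :=
        pRedIn_largestPReducedOf p F (F ⊓ D) inf_le_left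
          (le_normalizer_inf' Subgroup.le_normalizer (hFX.trans hXD))
          (fun d hd => hDp' d (Subgroup.mem_inf.mp hd).2)
      haveI hn : (D.subgroupOf X).Normal :=
        (Subgroup.normal_subgroupOf_iff_le_normalizer hDX).mpr hXD
      obtain ⟨Q, hQ⟩ := sylow_subgroupOf_normal (D.subgroupOf X) (T.subtype hTX)
      have key : D.subgroupOf X ≤
          (Subgroup.centralizer ((largestPReducedOf p F : Subgroup H) : Set H)).subgroupOf X := by
        apply le_of_pow_mem_of_sylow_le (p := p) _ Q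
        · rintro _ ⟨q, hq, rfl⟩
          have hq' : q ∈ ((T.subtype hTX : Sylow p ↥X) : Subgroup ↥X).subgroupOf (D.subgroupOf X) := by
            rw [← hQ]; exact hq
          rw [Subgroup.mem_subgroupOf, Sylow.coe_subtype, Subgroup.mem_subgroupOf] at hq'
          have hqD : ((q : ↥X) : H) ∈ D := Subgroup.mem_subgroupOf.mp q.2
          rw [Subgroup.mem_subgroupOf]
          exact hD₁ (Subgroup.mem_inf.mpr ⟨hTF hq', hqD⟩)
        · intro d hd
          obtain ⟨k, hk⟩ := hDp' d.1 (Subgroup.mem_subgroupOf.mp hd)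
          refine ⟨k, ?_⟩
          rw [Subgroup.mem_subgroupOf]
          simpa using hk
      intro d hd
      have := key (show (⟨d, hDX hd⟩ : ↥X) ∈ D.subgroupOf X from Subgroup.mem_subgroupOf.mpr hd)
      exact Subgroup.mem_subgroupOf.mp this
    rw [Subgroup.le_centralizer_iff]
    apply sSup_le
    rintro W ⟨x, hx, rfl⟩
    have h1 := cj_mono x (Subgroup.le_centralizer_iff.mp hstep1)
    rw [cj_centralizer, cj_of_mem_normalizer (hXD hx)] at h1
    exact h1
  exact hYV.trans (le_largestPReducedOf hVX hXV hVel hPR)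

end Cfsg.Agent.H53
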