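import Cfsg.Agent.H53.FM2
import Cfsg.Agent.H53.WC5
import Cfsg.Agent.H53.Large4

set_option autoImplicit false
open Cfsg

namespace Cfsg.Agent.H53

/-- A supplement `K` in `M` to a normal subgroup `N` whose Sylow subgroup `T ∩ N` is normal in `M`
and contained in `K` contains a conjugate of the Sylow subgroup `T`. -/
theorem exists_sylow_conj_le_supplement {p : ℕ} [Fact p.Prime] {H : Type*} [Group H] [Finite H]
    (T : Sylow p H) {M N K : Subgroup H} (hTM : (T : Subgroup H) ≤ M) (hKM : K ≤ M) (hNM : N ≤ M)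
    (hMN : M ≤ Subgroup.normalizer (N : Set H)) (hTK : (T : Subgroup H) ⊓ N ≤ K)
    (hMT : M ≤ Subgroup.normalizer ((((T : Subgroup H) ⊓ N : Subgroup H)) : Set H))
    (hsup : M ≤ K ⊔ N) : ∃ a ∈ M, (T : Subgroup H) ≤ cj(a, K) := by
  have hTN : (T : Subgroup H) ≤ Subgroup.normalizer (N : Set H) := hTM.trans hMN
  have hKN : K ≤ Subgroup.normalizer (N : Set H) := hKM.trans hMN
  have hpow : ∀ g ∈ K ⊓ ((T : Subgroup H) ⊔ N), ∃ m : ℕ, g ^ p ^ m ∈ N := by
    intro g hg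
    obtain ⟨t, ht, n, hn, rfl⟩ := mem_sup_of_le_normalizer hTN (Subgroup.mem_inf.mp hg).2
    obtain ⟨m, hm⟩ := T.isPGroup' ⟨t, ht⟩
    have hm' : t ^ p ^ m = 1 := by simpa using congrArg Subtype.val hm
    obtain ⟨c', hc', h⟩ := exists_pow_mul_eq (hTN ht) hn (p ^ m)
    exact ⟨m, by rw [h, hm', one_mul]; exact hc'⟩
  have hA : IsPGroup p ↥((T : Subgroup H) ⊓ N) := T.isPGroup'.to_le inf_le_left
  obtain ⟨P, hPp, hT₀P, hPK₁, hfac⟩ :=
    exists_sylow_supplement hA (le_inf hTK (inf_le_left.trans le_sup_left)) hpow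
  obtain ⟨k, hk, R, hRA, hRp, hTR, hPR⟩ := exists_conj_le_of_isPGroup_le ((T : Subgroup H) ⊔ N)
    le_sup_left (hPK₁.trans inf_le_right) T.isPGroup' hPp
  have hRT : R = T := T.is_maximal' hRp hTR
  rw [hRT] at hPR
  have hkM : k ∈ M := (sup_le hTM hNM) hk
  refine ⟨k⁻¹, M.inv_mem hkM, ?_⟩
  rw [← cj_le_iff]
  intro t' ht'
  have ht'A : t' ∈ (T : Subgroup H) ⊔ N := cj_le_of_mem hk le_sup_left ht'
  have ht'M : t' ∈ M := (sup_le hTM hNM) ht'A
  obtain ⟨k₀, hk₀, n₀, hn₀, rfl⟩ := mem_sup_of_le_normalizer hKN (hsup ht'M)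
  have hk₀A : k₀ ∈ (T : Subgroup H) ⊔ N := by
    have e : k₀ = (k₀ * n₀) * n₀⁻¹ := by group
    rw [e]
    exact Subgroup.mul_mem _ ht'A (Subgroup.inv_mem _ (Subgroup.mem_sup_right hn₀))
  obtain ⟨q, hq, r, hr, rfl⟩ := hfac k₀ (Subgroup.mem_inf.mpr ⟨hk₀, hk₀A⟩)
  have hn₁ : r * n₀ ∈ N := N.mul_mem hr hn₀
  have hn₁T : r * n₀ ∈ cj(k, (T : Subgroup H)) := by
    have e : r * n₀ = q⁻¹ * (q * r * n₀) := by group
    rw [e]
    exact Subgroup.mul_mem _ (Subgroup.inv_mem _ (hPR hq)) ht'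
  have hn₁T₀ : r * n₀ ∈ (T : Subgroup H) ⊓ N := by
    have h1 : r * n₀ ∈ cj(k, ((T : Subgroup H) ⊓ N)) := by
      rw [cj_inf, cj_of_mem_normalizer (hMN hkM)]
      exact Subgroup.mem_inf.mpr ⟨hn₁T, hn₁⟩
    rw [cj_of_mem_normalizer (hMT hkM)] at h1
    exact h1
  have e : q * r * n₀ = q * (r * n₀) := by group
  rw [e]
  exact K.mul_mem (Subgroup.mem_inf.mp (hPK₁ hq)).1 (hTK hn₁T₀)

/-- Minimality forces `C_T(Y)` to be normal. -/
theorem le_normalizer_of_minimal {p : ℕ} [Fact p.Prime] {H : Type*} [Group H] [Finite H]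
    (T : Sylow p H) {M Y : Subgroup H} (hTM : (T : Subgroup H) ≤ M)
    (hMY : M ≤ Subgroup.normalizer (Y : Set H))
    (hmin : ∀ M' : Subgroup H, (T : Subgroup H) ≤ M' → M' ≤ M →
      M' ⊔ Subgroup.centralizer (Y : Set H) = M ⊔ Subgroup.centralizer (Y : Set H) → M' = M) :
    M ≤ Subgroup.normalizer
      ((((T : Subgroup H) ⊓ Subgroup.centralizer (Y : Set H) : Subgroup H)) : Set H) := by
  have hNC := normalizer_le_normalizer_centralizer Y
  have h1 := hmin (M ⊓ Subgroup.normalizer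
      ((((T : Subgroup H) ⊓ Subgroup.centralizer (Y : Set H) : Subgroup H)) : Set H))
    (le_inf hTM (le_normalizer_inf' Subgroup.le_normalizer ((hTM.trans hMY).trans hNC))) inf_le_left
    (le_antisymm (sup_le (inf_le_left.trans le_sup_left) le_sup_right)
      (sup_le (frattini_sylow_inf T hTM (hMY.trans hNC)) le_sup_right))
  exact inf_eq_left.mp h1

theorem isPClosed_of_le_normalizer {p : ℕ} [Fact p.Prime] {H : Type*} [Group H] [Finite H]
    (T : Sylow p H) {M C : Subgroup H} (hTM : (T : Subgroup H) ≤ M)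
    (hMC : M ≤ Subgroup.normalizer (C : Set H))
    (hMT : M ≤ Subgroup.normalizer ((((T : Subgroup H) ⊓ C : Subgroup H)) : Set H)) :
    IsPClosed p ↥(M ⊓ C) := by
  apply isPClosed_inf_of_subgroupOf
  haveI hN : (C.subgroupOf M).Normal := Subgroup.normal_subgroupOf_of_le_normalizer hMC
  obtain ⟨Q, hQ⟩ := sylow_subgroupOf_normal (C.subgroupOf M) (T.subtype hTM)
  rw [isPClosed_iff_exists_normal]
  refine ⟨Q, ⟨fun n hn g => ?_⟩⟩
  rw [hQ] at hn ⊢
  rw [Subgroup.mem_subgroupOf, Sylow.coe_subtype, Subgroup.mem_subgroupOf] at hn ⊢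
  have hnC : ((n : ↥M) : H) ∈ C := Subgroup.mem_subgroupOf.mp n.2
  have hg : ((g : ↥M) : H) ∈ M := (g : ↥M).2
  have := conj_mem_of_mem_normalizer (hMT hg) (Subgroup.mem_inf.mpr ⟨hn, hnC⟩)
  exact (Subgroup.mem_inf.mp this).1

/-- Minimality forces the image of `C_M(Y)` into the Frattini subgroup of `M / O_p(M)`. -/
theorem map_le_frattini_of_minimal {p : ℕ} [Fact p.Prime] {H : Type*} [Group H] [Finite H]
    (T : Sylow p H) {M Y : Subgroup H} (hTM : (T : Subgroup H) ≤ M)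
    (hMY : M ≤ Subgroup.normalizer (Y : Set H))
    (hmin : ∀ M' : Subgroup H, (T : Subgroup H) ≤ M' → M' ≤ M →
      M' ⊔ Subgroup.centralizer (Y : Set H) = M ⊔ Subgroup.centralizer (Y : Set H) → M' = M) :
    ((M ⊓ Subgroup.centralizer (Y : Set H)).subgroupOf M).map (QuotientGroup.mk' (pCore p ↥M)) ≤
      frattini (↥M ⧸ pCore p ↥M) := by
  have hNC := normalizer_le_normalizer_centralizer Y
  have hMC : M ≤ Subgroup.normalizer ((Subgroup.centralizer (Y : Set H) : Subgroup H) : Set H) :=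
    hMY.trans hNC
  have hMT := le_normalizer_of_minimal T hTM hMY hmin
  have hT₀O : (T : Subgroup H) ⊓ Subgroup.centralizer (Y : Set H) ≤ pCoreOf p M :=
    le_pCoreOf (inf_le_left.trans hTM) hMT (T.isPGroup'.to_le inf_le_left)
  have hMMC : M ≤ Subgroup.normalizer
      ((M ⊓ Subgroup.centralizer (Y : Set H) : Subgroup H) : Set H) :=
    le_normalizer_inf' Subgroup.le_normalizer hMC
  haveI hCn : ((M ⊓ Subgroup.centralizer (Y : Set H)).subgroupOf M).Normal :=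
    Subgroup.normal_subgroupOf_of_le_normalizer hMMC
  haveI hCbn : (((M ⊓ Subgroup.centralizer (Y : Set H)).subgroupOf M).map
      (QuotientGroup.mk' (pCore p ↥M))).Normal :=
    Subgroup.Normal.map hCn _ (QuotientGroup.mk'_surjective _)
  rw [frattini, Order.radical]
  refine le_iInf₂ (fun Kb hKb => ?_)
  by_contra hnot
  have hsupb : Kb ⊔ ((M ⊓ Subgroup.centralizer (Y : Set H)).subgroupOf M).map
      (QuotientGroup.mk' (pCore p ↥M)) = ⊤ := hKb.2 _ (left_lt_sup.mpr hnot)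
  obtain ⟨K, hK⟩ : ∃ K : Subgroup H,
      K = (Kb.comap (QuotientGroup.mk' (pCore p ↥M))).map M.subtype := ⟨_, rfl⟩
  have hKM : K ≤ M := by rw [hK]; exact Subgroup.map_subtype_le _
  have hOK : pCoreOf p M ≤ K := by
    rw [hK]
    apply Subgroup.map_mono
    intro x hx
    rw [Subgroup.mem_comap]
    have : (QuotientGroup.mk' (pCore p ↥M)) x = 1 := (QuotientGroup.eq_one_iff x).mpr hx
    rw [this]
    exact Kb.one_mem
  have hsup : M ≤ K ⊔ (M ⊓ Subgroup.centralizer (Y : Set H)) := by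
    intro m hm
    have h1 : (QuotientGroup.mk' (pCore p ↥M)) ⟨m, hm⟩ ∈
        Kb ⊔ ((M ⊓ Subgroup.centralizer (Y : Set H)).subgroupOf M).map
          (QuotientGroup.mk' (pCore p ↥M)) := by
      rw [hsupb]; trivial
    obtain ⟨kb, hkb, cb, hcb, hmul⟩ := mem_sup_of_le_normalizer
      (by rw [Subgroup.normalizer_eq_top_iff.mpr hCbn]; exact le_top) h1
    obtain ⟨c, hc, rfl⟩ := hcb
    have h2 : (⟨m, hm⟩ : ↥M) * c⁻¹ ∈ Kb.comap (QuotientGroup.mk' (pCore p ↥M)) := by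
      rw [Subgroup.mem_comap, map_mul, map_inv, hmul, mul_inv_cancel_right]
      exact hkb
    have e : m = ((⟨m, hm⟩ : ↥M) * c⁻¹ : ↥M).1 * (c : H) := by simp
    rw [e]
    refine Subgroup.mul_mem _ (Subgroup.mem_sup_left ?_)
      (Subgroup.mem_sup_right (Subgroup.mem_subgroupOf.mp hc))
    rw [hK]
    exact ⟨_, h2, rfl⟩
  have e0 : (T : Subgroup H) ⊓ (M ⊓ Subgroup.centralizer (Y : Set H)) =
      (T : Subgroup H) ⊓ Subgroup.centralizer (Y : Set H) := by
    rw [← inf_assoc, inf_eq_left.mpr hTM]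
  obtain ⟨a, ha, hTa⟩ := exists_sylow_conj_le_supplement T hTM hKM inf_le_left hMMC
    (by rw [e0]; exact hT₀O.trans hOK) (by rw [e0]; exact hMT) hsup
  have h1 : K ⊔ Subgroup.centralizer (Y : Set H) = M ⊔ Subgroup.centralizer (Y : Set H) :=
    le_antisymm (sup_le_sup_right hKM _)
      (sup_le (hsup.trans (sup_le_sup_left inf_le_right _)) le_sup_right)
  have h2 : cj(a, (K ⊔ Subgroup.centralizer (Y : Set H))) =
      cj(a, K) ⊔ Subgroup.centralizer (Y : Set H) := by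
    rw [cj_sup, cj_of_mem_normalizer (hMC ha)]
  have hcj : cj(a, K) = M := by
    apply hmin _ hTa (cj_le_of_mem ha hKM)
    rw [← h2, h1]
    exact cj_eq_of_mem (Subgroup.mem_sup_left ha)
  have hKeq : K = M := by
    have h3 := congrArg (fun X => cj(a⁻¹, X)) hcj
    simp only [cj_inv_cj] at h3
    rw [h3]
    exact cj_eq_of_mem (M.inv_mem ha)
  apply hKb.1
  rw [eq_top_iff]
  intro xb _
  obtain ⟨x, rfl⟩ := QuotientGroup.mk'_surjective (pCore p ↥M) xb
  have hx : (x : H) ∈ K := by rw [hKeq]; exact x.2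
  rw [hK] at hx
  obtain ⟨y, hy, hyx⟩ := hx
  have : y = x := Subtype.ext hyx
  rw [← this]
  exact hy

end Cfsg.Agent.H53
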