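import Cfsg.Agent.H53.FM3

set_option autoImplicit false
open Cfsg

namespace Cfsg.Agent.H53

/-- Existence of a member `M` of `𝔐_H` and of `L*` attached to `L ∈ 𝓛_H` containing a Sylow
`p`-subgroup, in a group of parabolic characteristic `p`. -/
theorem exists_frakM {p : ℕ} [Fact p.Prime] {H : Type*} [Group H] [Finite H]
    (hH : IsOfParabolicCharacteristic p H) (T : Sylow p H) (L : Subgroup H)
    (hTL : (T : Subgroup H) ≤ L) (hL : L ∈ charPSubgroups p H) :
    ∃ M Ls : Subgroup H, (T : Subgroup H) ≤ M ∧ IsInFrakM p M ∧ (T : Subgroup H) ≤ Ls ∧ Ls ≤ M ∧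
      Ls ∈ charPSubgroups p H ∧ largestPReducedOf p L = largestPReducedOf p Ls ∧
      largestPReducedOf p L ≤ largestPReducedOf p M ∧
      L ⊔ Subgroup.centralizer ((largestPReducedOf p L : Subgroup H) : Set H) =
        Ls ⊔ Subgroup.centralizer ((largestPReducedOf p L : Subgroup H) : Set H) ∧
      largestPReducedOf p L ≠ ⊥ := by
  obtain ⟨Mt, hTMt, hMtmax, hNMt, hYLMt, hLMt, hYL1, hmax⟩ :=
    exists_maxCharP_normalizer hH T hTL hL
  have hMtc := hMtmax.1
  have hMtamb := charP_ambient_of_mem hMtc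
  obtain ⟨Y, hY⟩ : ∃ Y : Subgroup H, Y = largestPReducedOf p Mt := ⟨_, rfl⟩
  rw [← hY] at hNMt hYLMt hmax
  have hY1 : Y ≠ ⊥ := by
    intro h
    rw [h] at hYLMt
    exact hYL1 (le_bot_iff.mp hYLMt)
  have hCMt : Subgroup.centralizer (Y : Set H) ≤ Mt := by
    have := Subgroup.centralizer_le_normalizer (Y : Set H)
    rw [hNMt] at this
    exact this
  obtain ⟨M, hMle, hMmin⟩ := (Set.toFinite {M' : Subgroup H | (T : Subgroup H) ≤ M' ∧ M' ≤ Mt ∧
    M' ⊔ Subgroup.centralizer (Y : Set H) = Mt}).exists_le_minimal (a := Mt)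
      ⟨hTMt, le_rfl, sup_eq_left.mpr hCMt⟩
  obtain ⟨⟨hTM, hMMt, hMsup⟩, hMmin'⟩ := hMmin
  have hmin : ∀ M' : Subgroup H, (T : Subgroup H) ≤ M' → M' ≤ M →
      M' ⊔ Subgroup.centralizer (Y : Set H) = M ⊔ Subgroup.centralizer (Y : Set H) → M' = M :=
    fun M' h1 h2 h3 => le_antisymm h2 (hMmin' ⟨h1, h2.trans hMMt, h3.trans hMsup⟩ h2)
  have hMY : M ≤ Subgroup.normalizer (Y : Set H) := by rw [hNMt]; exact hMMt
  have hNC := normalizer_le_normalizer_centralizer Y
  have hYel : IsElementaryAbelian p Y := by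
    rw [hY]; exact largestPReducedOf_isElementaryAbelian p Mt
  have hYT : Y ≤ (T : Subgroup H) := by
    rw [hY]; exact (largestPReducedOf_le_pCoreOf p Mt).trans (pCoreOf_le_sylow T hTMt)
  have hYM : Y ≤ M := hYT.trans hTM
  have hPR : PRedIn p M Y := by
    have h0 : PRedIn p Mt Y := by rw [hY]; exact pRedIn_largestPReducedOf p Mt
    exact h0.transfer hNMt.ge (by rw [hMsup, sup_eq_left.mpr hCMt])
  have hYMeq : largestPReducedOf p M = Y :=
    le_antisymm (by rw [hY]; exact largestPReducedOf_mono T hTM hMMt hMtamb)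
      (le_largestPReducedOf hYM hMY hYel hPR)
  have hOM : pCoreOf p M ≠ ⊥ := by
    intro h
    have h1 := largestPReducedOf_le_pCoreOf p M
    rw [hYMeq, h] at h1
    exact hY1 (le_bot_iff.mp h1)
  have hMc := mem_charPSubgroups_of_parabolicChar hH T hTM hOM
  have hCYL : Subgroup.centralizer (Y : Set H) ≤
      Subgroup.centralizer ((largestPReducedOf p L : Subgroup H) : Set H) :=
    Subgroup.centralizer_le hYLMt
  have hLM : ∀ l ∈ L, ∃ f ∈ M,
      ∃ c ∈ Subgroup.centralizer ((largestPReducedOf p L : Subgroup H) : Set H), l = f * c := by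
    intro l hl
    obtain ⟨f, hf, c, hc, rfl⟩ := hLMt l hl
    have hf' : f ∈ M ⊔ Subgroup.centralizer (Y : Set H) := by rw [hMsup]; exact hf
    obtain ⟨m, hm, c', hc', rfl⟩ := mem_sup_of_le_normalizer (hMY.trans hNC) hf'
    exact ⟨m, hm, c' * c, Subgroup.mul_mem _ (hCYL hc') hc, by group⟩
  have hFM : IsInFrakM p M := by
    unfold IsInFrakM
    rw [hYMeq, hMsup]
    refine ⟨hMc, hMtmax, ?_, hY, ?_, ?_⟩
    · intro X hX hMX
      have hXc := hX.1
      have h1 : X ≤ Mt := hmax X (hTM.trans hMX) hXc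
        (by rw [← hYMeq]; exact largestPReducedOf_mono T hTM hMX (charP_ambient_of_mem hXc))
        (fun l hl => by
          obtain ⟨f, hf, c, hc, h⟩ := hLM l hl
          exact ⟨f, hMX hf, c, hc, h⟩)
      exact (hX.2 Mt hMtc h1).symm
    · exact isPClosed_of_le_normalizer T hTM (hMY.trans hNC) (le_normalizer_of_minimal T hTM hMY hmin)
    · exact map_le_frattini_of_minimal T hTM hMY hmin
  obtain ⟨Ls, hLs⟩ : ∃ Ls : Subgroup H, Ls =
      (M ⊓ (L ⊔ Subgroup.centralizer ((largestPReducedOf p L : Subgroup H) : Set H))) ⊓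
        Subgroup.normalizer ((((T : Subgroup H) ⊓
          Subgroup.centralizer ((largestPReducedOf p L : Subgroup H) : Set H) : Subgroup H)) : Set H) :=
    ⟨_, rfl⟩
  have hTM' : (T : Subgroup H) ≤
      M ⊓ (L ⊔ Subgroup.centralizer ((largestPReducedOf p L : Subgroup H) : Set H)) :=
    le_inf hTM (hTL.trans le_sup_left)
  have hfac : (M ⊓ (L ⊔ Subgroup.centralizer ((largestPReducedOf p L : Subgroup H) : Set H))) ⊔
      Subgroup.centralizer ((largestPReducedOf p L : Subgroup H) : Set H) =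
      L ⊔ Subgroup.centralizer ((largestPReducedOf p L : Subgroup H) : Set H) := by
    apply le_antisymm (sup_le inf_le_right le_sup_right)
    refine sup_le ?_ le_sup_right
    intro l hl
    obtain ⟨m, hm, c, hc, rfl⟩ := hLM l hl
    have hm' : m ∈ L ⊔ Subgroup.centralizer ((largestPReducedOf p L : Subgroup H) : Set H) := by
      have e : m = (m * c) * c⁻¹ := by group
      rw [e]
      exact Subgroup.mul_mem _ (Subgroup.mem_sup_left hl)
        (Subgroup.inv_mem _ (Subgroup.mem_sup_right hc))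
    exact Subgroup.mul_mem _ (Subgroup.mem_sup_left (Subgroup.mem_inf.mpr ⟨hm, hm'⟩))
      (Subgroup.mem_sup_right hc)
  have hLsub := charP_subtype_of_ambient (charP_ambient_of_mem hL)
  have hYLT : largestPReducedOf p L ≤ (T : Subgroup H) :=
    (largestPReducedOf_le_pCoreOf p L).trans (pCoreOf_le_sylow T hTL)
  obtain ⟨h1, h2⟩ := largestPReducedOf_eq_of_frattini T hTL hTM'
    (largestPReducedOf_isElementaryAbelian p L) (le_normalizer_largestPReducedOf p L) hYLT
    (pRedIn_largestPReducedOf p L)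
    (fun x hx hxc hxp => mem_largestPReducedOf_of_central T hTL hLsub
      (Subgroup.mem_inf.mp hx).1 (Subgroup.mem_inf.mp hx).2 hxc hxp) hfac
  rw [← hLs] at h1 h2
  have hTLs : (T : Subgroup H) ≤ Ls := by
    rw [hLs]
    exact le_inf hTM' (le_normalizer_inf' Subgroup.le_normalizer
      ((hTL.trans (le_normalizer_largestPReducedOf p L)).trans
        (normalizer_le_normalizer_centralizer _)))
  have hLsM : Ls ≤ M := by rw [hLs]; exact inf_le_left.trans inf_le_left
  have hOLs : pCoreOf p Ls ≠ ⊥ := by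
    intro h
    have h3 : (T : Subgroup H) ⊓
        Subgroup.centralizer ((largestPReducedOf p L : Subgroup H) : Set H) ≤ pCoreOf p Ls :=
      le_pCoreOf (inf_le_left.trans hTLs) (by rw [hLs]; exact inf_le_right)
        (T.isPGroup'.to_le inf_le_left)
    have h4 : largestPReducedOf p L ≤ (T : Subgroup H) ⊓
        Subgroup.centralizer ((largestPReducedOf p L : Subgroup H) : Set H) :=
      le_inf hYLT (fun y hy => Subgroup.mem_centralizer_iff.mpr (fun z hz =>
        (isElementaryAbelian_iff.mp (largestPReducedOf_isElementaryAbelian p L)).1 z hz y hy))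
    rw [h] at h3
    exact hYL1 (le_bot_iff.mp (h4.trans h3))
  exact ⟨M, Ls, hTM, hFM, hTLs, hLsM, mem_charPSubgroups_of_parabolicChar hH T hTLs hOLs, h1.symm,
    hYLMt.trans hYMeq.ge, h2, hYL1⟩

end Cfsg.Agent.H53
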