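import Mathlib
import Cfsg.Agent.H52.FzDefs

/-!
# S4302, piece SETUP-B (helper53 for helper52): `C_X(Ω₁(W)) = C_X(W)` when `O_p(X / C_X(W)) = 1`
-/

set_option autoImplicit false

namespace Cfsg.Agent.H53.Fz

open Cfsg

/-- coprime lemma: a `p'`-element centralizing the elements of order dividing `p` of the abelian normal
`p`-subgroup `W` centralizes `W`. -/
theorem fzb_coprime {X : Type*} [Group X] {p : ℕ}
    (W : Subgroup X) [hWn : W.Normal] (hWc : ∀ a ∈ W, ∀ b ∈ W, a * b = b * a) (hWp : IsPGroup p ↥W)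
    (h : X) (hh : (orderOf h).Coprime p)
    (hΩ : ∀ c ∈ W, c ^ p = 1 → h * c * h⁻¹ = c) :
    ∀ w ∈ W, h * w * h⁻¹ = w := by
  have key : ∀ k : ℕ, ∀ w ∈ W, w ^ (p ^ k) = 1 → h * w * h⁻¹ = w := by
    intro k
    induction k with
    | zero =>
      intro w _ hw
      rw [pow_zero, pow_one] at hw
      rw [hw]
      group
    | succ k ih =>
      intro w hw hwk
      have hwp : h * w ^ p * h⁻¹ = w ^ p := by
        apply ih _ (pow_mem hw p)
        rw [← pow_mul, ← pow_succ']
        exact hwk
      have hconj : h * w * h⁻¹ ∈ W := hWn.conj_mem w hw h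
      obtain ⟨c, hc⟩ : ∃ c : X, c = h * w * h⁻¹ * w⁻¹ := ⟨_, rfl⟩
      have hcW : c ∈ W := by
        rw [hc]
        exact mul_mem hconj (inv_mem hw)
      have hcp : c ^ p = 1 := by
        have hcomm : Commute (h * w * h⁻¹) w⁻¹ := hWc _ hconj _ (inv_mem hw)
        rw [hc, hcomm.mul_pow, conj_pow, hwp, inv_pow, mul_inv_cancel]
      have hcfix : h * c * h⁻¹ = c := hΩ c hcW hcp
      have hw' : h * w * h⁻¹ = c * w := by
        rw [hc]
        group
      have hpow : ∀ n : ℕ, h ^ n * w * (h ^ n)⁻¹ = c ^ n * w := by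
        intro n
        induction n with
        | zero => simp
        | succ n ihn =>
          calc h ^ (n + 1) * w * (h ^ (n + 1))⁻¹ = h * (h ^ n * w * (h ^ n)⁻¹) * h⁻¹ := by
                rw [pow_succ']
                group
            _ = h * (c ^ n * w) * h⁻¹ := by rw [ihn]
            _ = (h * c * h⁻¹) ^ n * (h * w * h⁻¹) := by
                rw [conj_pow]
                group
            _ = c ^ (n + 1) * w := by
                rw [hcfix, hw', pow_succ, mul_assoc]
      have hcn : c ^ orderOf h = 1 := by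
        have h1 := hpow (orderOf h)
        rw [pow_orderOf_eq_one, inv_one, one_mul, mul_one] at h1
        exact (mul_eq_right.mp h1.symm)
      have hc1 : c = 1 := by
        have h1 : orderOf c ∣ orderOf h := orderOf_dvd_of_pow_eq_one hcn
        have h2 : orderOf c ∣ p := orderOf_dvd_of_pow_eq_one hcp
        have h3 : orderOf c ∣ 1 := by
          have h4 := Nat.dvd_gcd h1 h2
          rwa [hh] at h4
        exact orderOf_eq_one_iff.mp (Nat.dvd_one.mp h3)
      rw [hw', hc1, one_mul]
  intro w hw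
  obtain ⟨k, hk⟩ := hWp ⟨w, hw⟩
  apply key k w hw
  have h1 := congrArg Subtype.val hk
  simpa using h1

theorem centralizer_omegaOne_eq {X : Type*} [Group X] [Finite X] {p : ℕ} [Fact p.Prime]
    (W : Subgroup X) [W.Normal] (hWc : ∀ a ∈ W, ∀ b ∈ W, a * b = b * a) (hWp : IsPGroup p ↥W)
    (hO : Cfsg.pCore p (X ⧸ Subgroup.centralizer (W : Set X)) = ⊥) :
    Subgroup.centralizer (Cfsg.omegaOne p W : Set X) = Subgroup.centralizer (W : Set X) := by
  have hWn : W.Normal := inferInstance
  have hp : p.Prime := Fact.out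
  have hΩW : Cfsg.omegaOne p W ≤ W := by
    unfold Cfsg.omegaOne
    rw [Subgroup.closure_le]
    intro x hx
    exact hx.1
  -- membership in `K := C_X(Ω₁(W))`
  have hK : ∀ g : X, g ∈ Subgroup.centralizer (Cfsg.omegaOne p W : Set X) ↔
      ∀ c ∈ W, c ^ p = 1 → c * g = g * c := by
    intro g
    rw [Subgroup.mem_centralizer_iff]
    constructor
    · intro h c hc hcp
      apply h
      unfold Cfsg.omegaOne
      exact Subgroup.subset_closure ⟨hc, hcp⟩
    · intro h x hx
      have hle : Cfsg.omegaOne p W ≤ Subgroup.centralizer ({g} : Set X) := by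
        unfold Cfsg.omegaOne
        rw [Subgroup.closure_le]
        intro c hc
        rw [SetLike.mem_coe, Subgroup.mem_centralizer_iff]
        intro y hy
        rw [Set.mem_singleton_iff] at hy
        rw [hy]
        exact (h c hc.1 hc.2).symm
      have h1 := hle hx
      rw [Subgroup.mem_centralizer_iff] at h1
      exact (h1 g (Set.mem_singleton g)).symm
  apply le_antisymm
  · -- `K ≤ C`
    have hKn : (Subgroup.centralizer (Cfsg.omegaOne p W : Set X)).Normal := by
      constructor
      intro g hg x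
      rw [hK] at hg ⊢
      intro c hc hcp
      have h1 : x⁻¹ * c * x ∈ W := by
        have h2 := hWn.conj_mem c hc x⁻¹
        rwa [inv_inv] at h2
      have h3 : (x⁻¹ * c * x) ^ p = 1 := by
        have h4 : x⁻¹ * c * x = x⁻¹ * c * x⁻¹⁻¹ := by rw [inv_inv]
        rw [h4, conj_pow, hcp]
        group
      have h5 := hg _ h1 h3
      calc c * (x * g * x⁻¹) = x * ((x⁻¹ * c * x) * g) * x⁻¹ := by group
        _ = x * (g * (x⁻¹ * c * x)) * x⁻¹ := by rw [h5]
        _ = x * g * x⁻¹ * c := by group
    have hpow : ∀ g ∈ Subgroup.centralizer (Cfsg.omegaOne p W : Set X),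
        ∃ a : ℕ, g ^ (p ^ a) ∈ Subgroup.centralizer (W : Set X) := by
      intro g hg
      have hog : orderOf g ≠ 0 := (orderOf_pos g).ne'
      obtain ⟨a, m, hm, hgm⟩ := Nat.exists_eq_pow_mul_and_not_dvd hog p hp.ne_one
      refine ⟨a, ?_⟩
      have hpa : p ^ a ≠ 0 := pow_ne_zero _ hp.ne_zero
      have ho : orderOf (g ^ (p ^ a)) = m := by
        rw [orderOf_pow_of_dvd hpa (by rw [hgm]; exact Dvd.intro _ rfl), hgm]
        exact Nat.mul_div_cancel_left _ (Nat.pos_of_ne_zero hpa)
      have hcop : (orderOf (g ^ (p ^ a))).Coprime p := by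
        rw [ho]
        exact ((Nat.Prime.coprime_iff_not_dvd hp).mpr hm).symm
      have hgK : g ^ (p ^ a) ∈ Subgroup.centralizer (Cfsg.omegaOne p W : Set X) := pow_mem hg _
      rw [hK] at hgK
      have h1 := fzb_coprime W hWc hWp (g ^ (p ^ a)) hcop (by
        intro c hc hcp
        have h2 := hgK c hc hcp
        rw [← h2]
        group)
      rw [Subgroup.mem_centralizer_iff]
      intro w hw
      have h3 := h1 w hw
      calc w * g ^ (p ^ a) = (g ^ (p ^ a) * w * (g ^ (p ^ a))⁻¹) * g ^ (p ^ a) := by rw [h3]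
        _ = g ^ (p ^ a) * w := by group
    have hmapn : ((Subgroup.centralizer (Cfsg.omegaOne p W : Set X)).map
        (QuotientGroup.mk' (Subgroup.centralizer (W : Set X)))).Normal :=
      hKn.map _ (QuotientGroup.mk'_surjective _)
    have hmapp : IsPGroup p ((Subgroup.centralizer (Cfsg.omegaOne p W : Set X)).map
        (QuotientGroup.mk' (Subgroup.centralizer (W : Set X)))) := by
      rintro ⟨y, hy⟩
      obtain ⟨g, hg, rfl⟩ := Subgroup.mem_map.mp hy
      obtain ⟨a, ha⟩ := hpow g hg
      refine ⟨a, ?_⟩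
      apply Subtype.ext
      rw [Subgroup.coe_pow, Subgroup.coe_one, ← map_pow]
      exact (QuotientGroup.eq_one_iff _).mpr ha
    have hle : (Subgroup.centralizer (Cfsg.omegaOne p W : Set X)).map
        (QuotientGroup.mk' (Subgroup.centralizer (W : Set X))) ≤
        Cfsg.pCore p (X ⧸ Subgroup.centralizer (W : Set X)) :=
      le_sSup ⟨hmapn, hmapp⟩
    rw [hO] at hle
    intro g hg
    have h1 := hle (Subgroup.mem_map_of_mem _ hg)
    rw [Subgroup.mem_bot] at h1
    exact (QuotientGroup.eq_one_iff _).mp h1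
  · exact Subgroup.centralizer_le hΩW

/-- verbatim check of the posted statement -/
example {X : Type*} [Group X] [Finite X] {p : ℕ} [Fact p.Prime]
    (W : Subgroup X) [W.Normal] (hWc : ∀ a ∈ W, ∀ b ∈ W, a * b = b * a) (hWp : IsPGroup p ↥W)
    (hO : Cfsg.pCore p (X ⧸ Subgroup.centralizer (W : Set X)) = ⊥) :
    Subgroup.centralizer (Cfsg.omegaOne p W : Set X) = Subgroup.centralizer (W : Set X) :=
  centralizer_omegaOne_eq W hWc hWp hO

end Cfsg.Agent.H53.Fz
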