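import Mathlib
import Cfsg.Prelude.Def_LocalStructure
import Cfsg.Agent.H53.Large2

set_option autoImplicit false

namespace Cfsg.Agent.H53

open Cfsg
open scoped commutatorElement Pointwise

/-! ### The L-Lemma: relative setup inside a fixed finite group -/

theorem cj_le_cj_iff {G : Type*} [Group G] (b : G) {X Y : Subgroup G} :
    cj(b, X) ≤ cj(b, Y) ↔ X ≤ Y :=
  Subgroup.map_le_map_iff_of_injective (MulAut.conj b).injective

theorem cj_inj {G : Type*} [Group G] (b : G) {X Y : Subgroup G} (h : cj(b, X) = cj(b, Y)) :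
    X = Y :=
  le_antisymm ((cj_le_cj_iff b).mp h.le) ((cj_le_cj_iff b).mp h.ge)

/-- Relative Sylow theorem inside a subgroup `Y`. -/
theorem exists_rel_sylow (p : ℕ) [Fact p.Prime] {G : Type*} [Group G] [Finite G]
    (Y A : Subgroup G) (hAY : A ≤ Y) (hA : IsPGroup p ↥A) :
    ∃ S : Subgroup G, A ≤ S ∧ S ≤ Y ∧ IsPGroup p ↥S ∧
      ∀ P : Subgroup G, P ≤ Y → IsPGroup p ↥P → ∃ y ∈ Y, cj(y, P) ≤ S := by
  obtain ⟨Q, hQ⟩ := (hA.comap_subtype (K := Y)).exists_le_sylow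
  refine ⟨(Q : Subgroup ↥Y).map Y.subtype, ?_, Subgroup.map_subtype_le _, Q.isPGroup'.map _, ?_⟩
  · intro a ha
    exact ⟨⟨a, hAY ha⟩, hQ (Subgroup.mem_subgroupOf.mpr ha), rfl⟩
  · intro P hPY hP
    obtain ⟨Q', hQ'⟩ := (hP.comap_subtype (K := Y)).exists_le_sylow
    obtain ⟨y, hy⟩ := MulAction.exists_smul_eq ↥Y Q' Q
    refine ⟨y, y.2, ?_⟩
    intro x hx
    rw [mem_cj] at hx
    have hxY : x ∈ Y := by
      have := Y.mul_mem (Y.mul_mem y.2 (hPY hx)) (Y.inv_mem y.2)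
      simpa [mul_assoc] using this
    have h1 : (⟨(y : G)⁻¹ * x * y, hPY hx⟩ : ↥Y) ∈ (Q' : Subgroup ↥Y) :=
      hQ' (Subgroup.mem_subgroupOf.mpr hx)
    have h2 : (⟨x, hxY⟩ : ↥Y) ∈ ((y • Q' : Sylow p ↥Y) : Subgroup ↥Y) := by
      rw [sylow_smul_eq_cj, mem_cj]
      exact h1
    rw [hy] at h2
    exact ⟨⟨x, hxY⟩, h2, rfl⟩

theorem isPGroup_sup_pCoreOf {p : ℕ} {G : Type*} [Group G] {A L : Subgroup G}
    (hAL : A ≤ L) (hA : IsPGroup p ↥A) : IsPGroup p ↥(A ⊔ pCoreOf p L) :=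
  hA.to_sup_of_normal_right' (pCoreOf_isPGroup p L) (hAL.trans (le_normalizer_pCoreOf p L))

theorem pCoreOf_top_le (p : ℕ) {G : Type*} [Group G] : pCoreOf p (⊤ : Subgroup G) ≤ pCore p G := by
  apply le_pCore _ (pCoreOf_isPGroup p ⊤)
  exact Subgroup.normalizer_eq_top_iff.mp (top_le_iff.mp (le_normalizer_pCoreOf p ⊤))

theorem pCore_le_pCoreOf_top (p : ℕ) {G : Type*} [Group G] : pCore p G ≤ pCoreOf p (⊤ : Subgroup G) := by
  apply le_pCoreOf le_top _ (pCore_isPGroup p G)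
  rw [Subgroup.normalizer_eq_top_iff.mpr (pCore_normal p G)]

/-- The hypothesis: `M` is the unique maximal subgroup of `H` containing a Sylow `p`-subgroup of
`H`, and it is not normal in `H`. -/
structure LHyp (p : ℕ) {G : Type*} [Group G] (H M : Subgroup G) : Prop where
  le : M ≤ H
  nn : ∃ h ∈ H, cj(h, M) ≠ M
  syl : ∃ T : Subgroup G, T ≤ M ∧ IsPGroup p ↥T ∧
    (∀ P : Subgroup G, P ≤ H → IsPGroup p ↥P → ∃ h ∈ H, cj(h, P) ≤ T) ∧
    (∀ X : Subgroup G, X ≤ H → X ≠ H → T ≤ X → X ≤ M)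

/-- The conclusion of the L-Lemma, relative form. -/
def LConcl (p : ℕ) {G : Type*} [Group G] (H M A : Subgroup G) : Prop :=
  ∃ L : Subgroup G, L ≤ H ∧ ∃ g ∈ H, A ⊔ pCoreOf p H ≤ L ∧ A ⊔ pCoreOf p L ≤ cj(g, M) ∧
    ¬ L ≤ cj(g, M) ∧
    (∀ X : Subgroup G, X ≤ L → X ≠ L → A ⊔ pCoreOf p L ≤ X → X ≤ cj(g, M)) ∧
    (∃ l ∈ L, cj(l, (L ⊓ cj(g, M))) ≠ L ⊓ cj(g, M))

/-- `B` anchors the proper subgroup `M'` of `H`. -/
def Anch {G : Type*} [Group G] (H B M' : Subgroup G) : Prop :=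
  B ≤ M' ∧ ∀ X : Subgroup G, X ≤ H → X ≠ H → B ≤ X → X ≤ M'

variable {p : ℕ} {G : Type*} [Group G]

theorem LConcl.conj {H M A : Subgroup G} {b : G} (hb : b ∈ H) (h : LConcl p H M A) :
    LConcl p H M (cj(b, A)) := by
  obtain ⟨L, hLH, g, hgH, h1, h2, h3, h4, l, hlL, h5⟩ := h
  have hO : pCoreOf p H = cj(b, (pCoreOf p H)) := by
    rw [cj_pCoreOf, cj_eq_of_mem hb]
  refine ⟨cj(b, L), cj_le_of_mem hb hLH, b * g, H.mul_mem hb hgH, ?_, ?_, ?_, ?_,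
    b * l * b⁻¹, conj_mem_cj hlL, ?_⟩
  · rw [hO, ← cj_sup]
    exact cj_mono b h1
  · rw [← cj_pCoreOf, ← cj_sup, ← cj_cj]
    exact cj_mono b h2
  · rw [← cj_cj, cj_le_cj_iff]
    exact h3
  · intro X hX hXne hAX
    obtain ⟨X', rfl⟩ : ∃ X', X = cj(b, X') := ⟨cj(b⁻¹, X), (cj_cj_inv b X).symm⟩
    rw [← cj_cj, cj_le_cj_iff]
    rw [← cj_pCoreOf, ← cj_sup, cj_le_cj_iff] at hAX
    rw [cj_le_cj_iff] at hX
    exact h4 X' hX (fun h => hXne (by rw [h])) hAX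
  · rw [← cj_cj b g, ← cj_inf]
    have e : cj((b * l * b⁻¹), (cj(b, (L ⊓ cj(g, M))))) = cj(b, (cj(l, (L ⊓ cj(g, M))))) := by
      rw [cj_cj, cj_cj]
      congr 2
      group
    rw [e]
    intro h
    exact h5 (cj_inj b h)

theorem LConcl.of_sup {H M A : Subgroup G} (h : LConcl p H M (A ⊔ pCoreOf p H)) :
    LConcl p H M A := by
  obtain ⟨L, hLH, g, hgH, h1, h2, h3, h4, l, hlL, h5⟩ := h
  have hD : pCoreOf p H ≤ pCoreOf p L :=
    le_pCoreOf (le_sup_right.trans h1) (hLH.trans (le_normalizer_pCoreOf p H)) (pCoreOf_isPGroup p H)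
  refine ⟨L, hLH, g, hgH, le_sup_left.trans h1, (sup_le_sup_right le_sup_left _).trans h2, h3, ?_,
    l, hlL, h5⟩
  intro X hX hXne hAX
  exact h4 X hX hXne (sup_le (sup_le (le_sup_left.trans hAX) (hD.trans (le_sup_right.trans hAX)))
    (le_sup_right.trans hAX))

end Cfsg.Agent.H53
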