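import Mathlib
import Cfsg.Prelude.Def_LocalStructure
import Cfsg.Agent.H53.LL1

set_option autoImplicit false

namespace Cfsg.Agent.H53

open Cfsg
open scoped commutatorElement Pointwise

variable {p : ℕ} [Fact p.Prime] {G : Type*} [Group G] [Finite G]

/-- Lemma Z: an anchoring `p`-subgroup containing `A` can be replaced by one normalizing `A`,
unless the conclusion of the L-Lemma already holds. -/
theorem lemmaZ {H M A : Subgroup G} (hAp : IsPGroup p ↥A)
    (hDA : pCoreOf p H ≤ A)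
    (outer : ∀ H' M' A' : Subgroup G, Nat.card ↥H' < Nat.card ↥H → LHyp p H' M' → A' ≤ H' →
      IsPGroup p ↥A' → ¬ A' ≤ pCoreOf p H' → LConcl p H' M' A')
    (inner : ∀ A' : Subgroup G, A < A' → A' ≤ H → IsPGroup p ↥A' → LConcl p H M A')
    (M' : Subgroup G) (hM'H : M' ≤ H) (hM'ne : M' ≠ H) (hM'card : Nat.card ↥M' = Nat.card ↥M) :
    ∀ n : ℕ, ∀ B : Subgroup G, Nat.card ↥B ≤ n → IsPGroup p ↥B → A ≤ B → Anch H B M' →
      LConcl p H M A ∨ ∃ B' : Subgroup G, IsPGroup p ↥B' ∧ A ≤ B' ∧ Anch H B' M' ∧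
        B' ≤ Subgroup.normalizer (A : Set G) := by
  intro n
  induction n with
  | zero =>
    intro B hc
    have := Nat.card_pos (α := ↥B)
    omega
  | succ n ih =>
    intro B hc hBp hAB hB
    by_cases hBN : B ≤ Subgroup.normalizer (A : Set G)
    · exact Or.inr ⟨B, hBp, hAB, hB, hBN⟩
    -- the normalizer of `A` in `B` is proper
    have hNB : Subgroup.normalizer (A : Set G) ⊓ B < B :=
      lt_of_le_of_ne inf_le_right (fun h => hBN (inf_eq_right.mp h))
    obtain ⟨b₀, hb₀B, hb₀N, hb₀n⟩ := exists_mem_normalizer_not_mem hBp hNB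
    have hb₀A : b₀ ∉ Subgroup.normalizer (A : Set G) := fun h => hb₀n ⟨h, hb₀B⟩
    have hANB : A ≤ Subgroup.normalizer (A : Set G) ⊓ B := le_inf Subgroup.le_normalizer hAB
    have hcjNB : cj(b₀, A) ≤ Subgroup.normalizer (A : Set G) ⊓ B := by
      have := cj_mono b₀ hANB
      rwa [cj_of_mem_normalizer hb₀N] at this
    have hAB₁ : A ≤ A ⊔ cj(b₀, A) := le_sup_left
    have hB₁NB : A ⊔ cj(b₀, A) ≤ Subgroup.normalizer (A : Set G) ⊓ B := sup_le hANB hcjNB
    have hB₁B : A ⊔ cj(b₀, A) ≤ B := hB₁NB.trans inf_le_right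
    have hB₁p : IsPGroup p ↥(A ⊔ cj(b₀, A)) := hBp.to_le hB₁B
    have hAlt : A < A ⊔ cj(b₀, A) := by
      refine lt_of_le_of_ne hAB₁ (fun h => hb₀A ?_)
      rw [mem_normalizer_iff_cj]
      apply cj_eq_self_of_le_of_card
      exact (le_sup_right : cj(b₀, A) ≤ A ⊔ cj(b₀, A)).trans h.ge
    have hB₁card : Nat.card ↥(A ⊔ cj(b₀, A)) ≤ n := by
      have h1 := Subgroup.card_le_of_le hB₁NB
      have h2 := card_lt_of_lt hNB
      omega
    have hBH : B ≤ H := hB.1.trans hM'H
    obtain ⟨L', hL'H, g', hg'H, h1, h2, h3, h4, l', hl'L, h5⟩ :=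
      inner (A ⊔ cj(b₀, A)) hAlt (hB₁B.trans hBH) hB₁p
    by_cases hL' : L' = H
    · -- `B₁` anchors `cj(g', M)`, which must be `M'`
      subst hL'
      have hB₁M' : A ⊔ cj(b₀, A) ≤ M' := hB₁B.trans hB.1
      have hle : M' ≤ cj(g', M) :=
        h4 M' hM'H hM'ne (sup_le hB₁M' (hDA.trans (hAB₁.trans hB₁M')))
      have heq : M' = cj(g', M) := by
        apply Subgroup.eq_of_le_of_card_ge hle
        rw [card_cj, hM'card]
      have hanch : Anch L' (A ⊔ cj(b₀, A)) M' := by
        refine ⟨hB₁M', fun X hXH hXne hBX => ?_⟩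
        rw [heq]
        exact h4 X hXH hXne (sup_le hBX (hDA.trans (hAB₁.trans hBX)))
      exact ih _ hB₁card hB₁p hAB₁ hanch
    · -- `L'` is a proper subgroup: use the outer induction
      left
      have hcard : Nat.card ↥L' < Nat.card ↥H := card_lt_of_lt (lt_of_le_of_ne hL'H hL')
      have hD' : pCoreOf p H ≤ pCoreOf p L' :=
        le_pCoreOf (le_sup_right.trans h1) (hL'H.trans (le_normalizer_pCoreOf p H))
          (pCoreOf_isPGroup p H)
      have hB₁L' : A ⊔ cj(b₀, A) ≤ L' := le_sup_left.trans h1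
      have hOL₀ : pCoreOf p L' ≤ L' ⊓ cj(g', M) := le_inf (pCoreOf_le p L') (le_sup_right.trans h2)
      have hL₀ne : L' ⊓ cj(g', M) ≠ L' := fun h => h3 (inf_eq_left.mp h)
      have hHyp : LHyp p L' (L' ⊓ cj(g', M)) := by
        refine ⟨inf_le_left, ⟨l', hl'L, h5⟩, ?_⟩
        obtain ⟨T', hT'1, hT'2, hT'3, hT'4⟩ := exists_rel_sylow p L' ((A ⊔ cj(b₀, A)) ⊔ pCoreOf p L')
          (sup_le hB₁L' (pCoreOf_le p L')) (isPGroup_sup_pCoreOf hB₁L' hB₁p)
        have hT'ne : T' ≠ L' := by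
          intro h
          have hL'p : IsPGroup p ↥L' := h ▸ hT'3
          have : L' ≤ pCoreOf p L' := le_pCoreOf le_rfl Subgroup.le_normalizer hL'p
          exact h3 (this.trans (le_sup_right.trans h2))
        have hT'M : T' ≤ cj(g', M) := h4 T' hT'2 hT'ne hT'1
        exact ⟨T', le_inf hT'2 hT'M, hT'3, hT'4,
          fun X hXL hXne hTX => le_inf hXL (h4 X hXL hXne (hT'1.trans hTX))⟩
      have hex : ∃ b ∈ B, cj(b, A) ≤ A ⊔ cj(b₀, A) ∧ ¬ cj(b, A) ≤ pCoreOf p L' := by
        by_contra hcon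
        push Not at hcon
        have e1 := hcon 1 B.one_mem (by rw [cj_one]; exact hAB₁)
        rw [cj_one] at e1
        have e2 := hcon b₀ hb₀B le_sup_right
        have hB₁O : A ⊔ cj(b₀, A) ≤ pCoreOf p L' := sup_le e1 e2
        have hX1 : cj(l', (L' ⊓ cj(g', M))) ≤ L' := cj_le_of_mem hl'L inf_le_left
        have hX2 : cj(l', (L' ⊓ cj(g', M))) ≠ L' := by
          intro h
          have e3 := card_cj l' (L' ⊓ cj(g', M))
          rw [h] at e3
          have e4 := card_lt_of_lt (lt_of_le_of_ne inf_le_left hL₀ne)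
          omega
        have hOX : pCoreOf p L' ≤ cj(l', (L' ⊓ cj(g', M))) := by
          have := cj_mono l' hOL₀
          rwa [cj_of_mem_normalizer (le_normalizer_pCoreOf p L' hl'L)] at this
        have hX4 := h4 _ hX1 hX2 (sup_le (hB₁O.trans hOX) hOX)
        exact h5 (cj_eq_self_of_le_of_card (le_inf hX1 hX4))
      obtain ⟨b, hbB, hbB₁, hbO⟩ := hex
      obtain ⟨L'', hL''L', l, hlL', k1, k2, k3, k4, l'', hl''L'', k5⟩ :=
        outer L' (L' ⊓ cj(g', M)) (cj(b, A)) hcard hHyp (hbB₁.trans hB₁L') (isPGroup_cj b hAp) hbO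
      have key : cj(l, (L' ⊓ cj(g', M))) = L' ⊓ cj((l * g'), M) := by
        rw [cj_inf, cj_eq_of_mem hlL', cj_cj]
      have e : L'' ⊓ cj(l, (L' ⊓ cj(g', M))) = L'' ⊓ cj((l * g'), M) := by
        rw [key, ← inf_assoc, inf_eq_left.mpr hL''L']
      have hfin : LConcl p H M (cj(b, A)) := by
        refine ⟨L'', hL''L'.trans hL'H, l * g', H.mul_mem (hL'H hlL') hg'H,
          sup_le (le_sup_left.trans k1) (hD'.trans (le_sup_right.trans k1)), ?_, ?_, ?_,
          l'', hl''L'', ?_⟩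
        · rw [key] at k2
          exact k2.trans inf_le_right
        · intro h
          apply k3
          rw [key]
          exact le_inf hL''L' h
        · intro X hX hXne hAX
          have := k4 X hX hXne hAX
          rw [key] at this
          exact this.trans inf_le_right
        · rw [← e]
          exact k5
      have := hfin.conj (b := b⁻¹) (H.inv_mem (hBH hbB))
      rwa [cj_inv_cj] at this

end Cfsg.Agent.H53
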