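import Mathlib
import Cfsg.Prelude.Def_LocalStructure
import Cfsg.Agent.H53.LL2

set_option autoImplicit false

namespace Cfsg.Agent.H53

open Cfsg
open scoped commutatorElement Pointwise

variable {p : ℕ} [Fact p.Prime] {G : Type*} [Group G] [Finite G]

omit [Fact (Nat.Prime p)] [Finite G] in
theorem LHyp.conj_le {H M : Subgroup G} (hH : LHyp p H M) {h : G} (hh : h ∈ H) :
    cj(h, M) ≤ H := cj_le_of_mem hh hH.le

omit [Fact (Nat.Prime p)] [Finite G] in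
theorem LHyp.ne {H M : Subgroup G} (hH : LHyp p H M) : M ≠ H := by
  obtain ⟨h, hh, hne⟩ := hH.nn
  intro e
  apply hne
  rw [e]
  exact cj_eq_of_mem hh

omit [Fact (Nat.Prime p)] [Finite G] in
theorem LHyp.conj_ne {H M : Subgroup G} (hH : LHyp p H M) {h : G} (hh : h ∈ H) :
    cj(h, M) ≠ H := by
  intro e
  apply hH.ne
  have := congrArg (fun K => cj(h⁻¹, K)) e
  simp only [cj_inv_cj] at this
  rw [this]
  exact cj_eq_of_mem (H.inv_mem hh)

omit [Finite G] in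
/-- the anchoring property of the conjugates of the Sylow subgroup -/
theorem LHyp.anchor {H M T : Subgroup G}
    (hT : ∀ X : Subgroup G, X ≤ H → X ≠ H → T ≤ X → X ≤ M) {h : G} (hh : h ∈ H)
    {X : Subgroup G} (hXH : X ≤ H) (hXne : X ≠ H) (hTX : cj(h, T) ≤ X) : X ≤ cj(h, M) := by
  have h1 : cj(h⁻¹, X) ≤ H := cj_le_of_mem (H.inv_mem hh) hXH
  have h2 : cj(h⁻¹, X) ≠ H := by
    intro e
    apply hXne
    have := congrArg (fun K => cj(h, K)) e
    simp only [cj_cj_inv] at this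
    rw [this]
    exact cj_eq_of_mem hh
  have h3 : T ≤ cj(h⁻¹, X) := cj_le_iff.mp hTX
  have h4 := hT _ h1 h2 h3
  have h5 := cj_le_iff.mp h4
  rwa [inv_inv] at h5

omit [Fact (Nat.Prime p)] [Finite G] in
/-- a conjugate of `M` is self-normalizing in `H` -/
theorem LHyp.mem_of_conj_eq {H M : Subgroup G} (hH : LHyp p H M) {h l : G} (hh : h ∈ H)
    (hl : l ∈ H) (e : cj(l, (cj(h, M))) = cj(h, M)) : l ∈ cj(h, M) := by
  obtain ⟨T, hTM, hTp, hTconj, hTuniq⟩ := hH.syl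
  by_cases hN : Subgroup.normalizer ((cj(h, M) : Subgroup G) : Set G) ⊓ H = H
  · exfalso
    obtain ⟨h₀, hh₀, hne⟩ := hH.nn
    apply hne
    have h1 : h * h₀ * h⁻¹ ∈ Subgroup.normalizer ((cj(h, M) : Subgroup G) : Set G) :=
      (inf_eq_right.mp hN) (H.mul_mem (H.mul_mem hh hh₀) (H.inv_mem hh))
    rw [mem_normalizer_iff_cj, cj_cj] at h1
    have h2 : h * h₀ * h⁻¹ * h = h * h₀ := by group
    rw [h2, ← cj_cj] at h1
    exact cj_inj h h1
  · have h1 : Subgroup.normalizer ((cj(h, M) : Subgroup G) : Set G) ⊓ H ≤ cj(h, M) := by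
      apply LHyp.anchor hTuniq hh inf_le_right hN
      exact (cj_mono h hTM).trans (le_inf Subgroup.le_normalizer (hH.conj_le hh))
    exact h1 ⟨mem_normalizer_iff_cj.mpr e, hl⟩

omit [Fact (Nat.Prime p)] [Finite G] in
theorem LHyp.exists_le_conj {H M : Subgroup G} (hH : LHyp p H M) {P : Subgroup G} (hPH : P ≤ H)
    (hP : IsPGroup p ↥P) : ∃ h ∈ H, P ≤ cj(h, M) := by
  obtain ⟨T, hTM, hTp, hTconj, hTuniq⟩ := hH.syl
  obtain ⟨h, hh, hPT⟩ := hTconj P hPH hP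
  exact ⟨h⁻¹, H.inv_mem hh, cj_le_iff.mp (hPT.trans hTM)⟩

omit [Fact (Nat.Prime p)] in
/-- Case 1: `A` lies in a unique conjugate of `M`. -/
theorem core_case1 {H M A : Subgroup G} (hH : LHyp p H M) (hAH : A ≤ H) (hAp : IsPGroup p ↥A)
    (hDA : pCoreOf p H ≤ A)
    (hU : ∀ h₁ ∈ H, ∀ h₂ ∈ H, A ≤ cj(h₁, M) → A ≤ cj(h₂, M) → cj(h₁, M) = cj(h₂, M)) :
    LConcl p H M A := by
  obtain ⟨h₁, hh₁, hAM₁⟩ := hH.exists_le_conj hAH hAp
  let S : Set (Subgroup G) := {L | A ≤ L ∧ L ≤ H ∧ ¬ L ≤ cj(h₁, M)}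
  have hne : S.Nonempty :=
    ⟨H, hAH, le_rfl, fun h => hH.conj_ne hh₁ (le_antisymm (hH.conj_le hh₁) h)⟩
  obtain ⟨L, ⟨hAL, hLH, hLM₁⟩, hLmin⟩ := wellFounded_lt.has_min S hne
  have hmin' : ∀ X : Subgroup G, X ≤ L → X ≠ L → A ≤ X → X ≤ cj(h₁, M) := by
    intro X hXL hXne hAX
    by_contra hcon
    exact hLmin X ⟨hAX, hXL.trans hLH, hcon⟩ (lt_of_le_of_ne hXL hXne)
  have hAO : A ⊔ pCoreOf p L ≤ cj(h₁, M) := by
    apply hmin' _ (sup_le hAL (pCoreOf_le p L)) _ le_sup_left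
    intro h
    have hLp : IsPGroup p ↥L := h ▸ isPGroup_sup_pCoreOf hAL hAp
    obtain ⟨h', hh', hLh'⟩ := hH.exists_le_conj hLH hLp
    have := hU h' hh' h₁ hh₁ (hAL.trans hLh') hAM₁
    exact hLM₁ (this ▸ hLh')
  obtain ⟨l, hlL, hlM₁⟩ := SetLike.not_le_iff_exists.mp hLM₁
  refine ⟨L, hLH, h₁, hh₁, sup_le hAL (hDA.trans hAL), hAO, hLM₁,
    fun X hX hXne hAX => hmin' X hX hXne (le_sup_left.trans hAX), l, hlL, ?_⟩
  intro hcj
  apply hlM₁
  apply hH.mem_of_conj_eq hh₁ (hLH hlL)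
  have h6 : A ≤ cj(l, (cj(h₁, M))) := by
    have : A ≤ L ⊓ cj(h₁, M) := le_inf hAL hAM₁
    rw [← hcj] at this
    exact this.trans (cj_mono l inf_le_right)
  rw [cj_cj] at h6 ⊢
  exact hU (l * h₁) (H.mul_mem (hLH hlL) hh₁) h₁ hh₁ h6 hAM₁

/-- The inductive step of the relative L-Lemma. -/
theorem core {H M A : Subgroup G} (hH : LHyp p H M) (hAH : A ≤ H) (hAp : IsPGroup p ↥A)
    (hA : ¬ A ≤ pCoreOf p H)
    (outer : ∀ H' M' A' : Subgroup G, Nat.card ↥H' < Nat.card ↥H → LHyp p H' M' → A' ≤ H' →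
      IsPGroup p ↥A' → ¬ A' ≤ pCoreOf p H' → LConcl p H' M' A')
    (inner : ∀ A' : Subgroup G, A < A' → A' ≤ H → IsPGroup p ↥A' → LConcl p H M A') :
    LConcl p H M A := by
  by_cases hDA : pCoreOf p H ≤ A
  swap
  · apply LConcl.of_sup
    apply inner _ (lt_of_le_of_ne le_sup_left (fun h => hDA ?_)) (sup_le hAH (pCoreOf_le p H))
      (isPGroup_sup_pCoreOf hAH hAp)
    exact (le_sup_right : pCoreOf p H ≤ A ⊔ pCoreOf p H).trans h.ge
  by_cases hU : ∀ h₁ ∈ H, ∀ h₂ ∈ H, A ≤ cj(h₁, M) → A ≤ cj(h₂, M) → cj(h₁, M) = cj(h₂, M)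
  · exact core_case1 hH hAH hAp hDA hU
  push Not at hU
  obtain ⟨h₁, hh₁, h₂, hh₂, hA1, hA2, hne⟩ := hU
  obtain ⟨T, hTM, hTp, hTconj, hTuniq⟩ := hH.syl
  have key : ∀ h ∈ H, A ≤ cj(h, M) → LConcl p H M A ∨ ∃ B' : Subgroup G, IsPGroup p ↥B' ∧
      A ≤ B' ∧ Anch H B' (cj(h, M)) ∧ B' ≤ Subgroup.normalizer (A : Set G) := by
    intro h hh hAh
    obtain ⟨B, hAB, hBM, hBp, hBconj⟩ := exists_rel_sylow p (cj(h, M)) A hAh hAp
    obtain ⟨m, hm, hmT⟩ := hBconj (cj(h, T)) (cj_mono h hTM) (isPGroup_cj h hTp)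
    have hAnch : Anch H B (cj(h, M)) := by
      refine ⟨hBM, fun X hXH hXne hBX => ?_⟩
      have := LHyp.anchor hTuniq (H.mul_mem (hH.conj_le hh hm) hh) hXH hXne
        (by rw [← cj_cj]; exact hmT.trans hBX)
      rwa [← cj_cj, cj_eq_of_mem hm] at this
    exact lemmaZ hAp hDA outer inner (cj(h, M)) (hH.conj_le hh) (hH.conj_ne hh) (card_cj h M) _ B
      le_rfl hBp hAB hAnch
  rcases key h₁ hh₁ hA1 with hc | ⟨B₁, hB₁p, hAB₁, hB₁anch, hB₁N⟩
  · exact hc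
  rcases key h₂ hh₂ hA2 with hc | ⟨B₂, hB₂p, hAB₂, hB₂anch, hB₂N⟩
  · exact hc
  exfalso
  apply hA
  apply le_pCoreOf hAH _ hAp
  by_contra hHN
  have hNne : Subgroup.normalizer (A : Set G) ⊓ H ≠ H := fun h => hHN (inf_eq_right.mp h)
  have hN1 := hB₁anch.2 _ inf_le_right hNne (le_inf hB₁N (hB₁anch.1.trans (hH.conj_le hh₁)))
  have h12 : cj(h₁, M) ≤ cj(h₂, M) := hB₂anch.2 _ (hH.conj_le hh₁) (hH.conj_ne hh₁)
    ((le_inf hB₂N (hB₂anch.1.trans (hH.conj_le hh₂))).trans hN1)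
  exact hne (Subgroup.eq_of_le_of_card_ge h12 (by rw [card_cj, card_cj]))

/-- **The L-Lemma**, relative form: by induction on `|H|` and downward induction on `|A|`. -/
theorem lLemma_rel (p : ℕ) [Fact p.Prime] {G : Type*} [Group G] [Finite G] :
    ∀ n : ℕ, ∀ H M : Subgroup G, Nat.card ↥H ≤ n → LHyp p H M → ∀ k : ℕ, ∀ A : Subgroup G,
      Nat.card ↥H - Nat.card ↥A ≤ k → A ≤ H → IsPGroup p ↥A → ¬ A ≤ pCoreOf p H →
      LConcl p H M A := by
  intro n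
  induction n with
  | zero =>
    intro H M hc
    have := Nat.card_pos (α := ↥H)
    omega
  | succ n ihn =>
    intro H M hc hH k
    have hout : ∀ H' M' A' : Subgroup G, Nat.card ↥H' < Nat.card ↥H → LHyp p H' M' → A' ≤ H' →
        IsPGroup p ↥A' → ¬ A' ≤ pCoreOf p H' → LConcl p H' M' A' := by
      intro H' M' A' hlt hH' hA'H' hA'p hA'
      exact ihn H' M' (by omega) hH' _ A' le_rfl hA'H' hA'p hA'
    induction k with
    | zero =>
      intro A hk hAH hAp hA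
      apply core hH hAH hAp hA hout
      intro A' hlt hA'H hA'p
      exfalso
      have h1 := card_lt_of_lt hlt
      have h2 := Subgroup.card_le_of_le hA'H
      omega
    | succ k ihk =>
      intro A hk hAH hAp hA
      apply core hH hAH hAp hA hout
      intro A' hlt hA'H hA'p
      have h1 := card_lt_of_lt hlt
      have h2 := Subgroup.card_le_of_le hA'H
      exact ihk A' (by omega) hA'H hA'p (fun h => hA (hlt.le.trans h))

theorem lLemma_rel' (p : ℕ) [Fact p.Prime] {G : Type*} [Group G] [Finite G] {H M A : Subgroup G}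
    (hH : LHyp p H M) (hAH : A ≤ H) (hAp : IsPGroup p ↥A) (hA : ¬ A ≤ pCoreOf p H) :
    LConcl p H M A :=
  lLemma_rel p _ H M le_rfl hH _ A le_rfl hAH hAp hA

end Cfsg.Agent.H53
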