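import Mathlib
import Cfsg.Agent.H74.MCDefs

/-!
# S4756-CONJ (helper53, for helper74)

In the local setup, for `1 ≠ a ∈ A` the conjugacy class of `a` is the full coset `a G'`, and the
conjugating element can be taken in `P`.
-/

set_option autoImplicit false

namespace Cfsg.Agent.H53.MC

open Cfsg Cfsg.Agent.H74.MC
open scoped commutatorElement

universe u

/-- **S4756-CONJ**. -/
theorem conj : StConj.{u} := by
  intro G _ _ p _ P A hS a haA ha1 d hd
  classical
  have haP : a ∉ P := by
    intro h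
    have h1 : a ∈ A ⊓ P := ⟨haA, h⟩
    rw [hS.inf] at h1
    exact ha1 (Subgroup.mem_bot.mp h1)
  have hcent := hS.cent a haP
  -- the map `g ↦ a⁻¹ g a g⁻¹` into `G'`
  have hmem : ∀ g : G, a⁻¹ * g * a * g⁻¹ ∈ commutator G := by
    intro g
    have h1 : ⁅a⁻¹, g⁆ ∈ commutator G := by
      rw [commutator_def]
      exact Subgroup.commutator_mem_commutator (Subgroup.mem_top _) (Subgroup.mem_top _)
    rw [commutatorElement_def, inv_inv] at h1
    exact h1
  obtain ⟨ι, hι⟩ : ∃ ι : G ⧸ Subgroup.centralizer ({a} : Set G) → ↥(commutator G),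
      ∀ q, (ι q : G) = a⁻¹ * q.out * a * q.out⁻¹ :=
    ⟨fun q => ⟨a⁻¹ * q.out * a * q.out⁻¹, hmem _⟩, fun _ => rfl⟩
  have hinj : Function.Injective ι := by
    intro q q' h
    have h1 : a⁻¹ * q.out * a * q.out⁻¹ = a⁻¹ * q'.out * a * q'.out⁻¹ := by
      rw [← hι, ← hι, h]
    have h2 : q.out⁻¹ * q'.out ∈ Subgroup.centralizer ({a} : Set G) := by
      rw [Subgroup.mem_centralizer_iff]
      intro x hx
      rw [Set.mem_singleton_iff] at hx
      subst hx
      have h3 : q.out * x * q.out⁻¹ = q'.out * x * q'.out⁻¹ := by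
        have := congrArg (fun t => x * t) h1
        simpa [mul_assoc] using this
      calc x * (q.out⁻¹ * q'.out) = q.out⁻¹ * (q.out * x * q.out⁻¹) * q'.out := by group
        _ = q.out⁻¹ * (q'.out * x * q'.out⁻¹) * q'.out := by rw [h3]
        _ = q.out⁻¹ * q'.out * x := by group
    have h4 : (QuotientGroup.mk q.out : G ⧸ Subgroup.centralizer ({a} : Set G)) =
        QuotientGroup.mk q'.out := QuotientGroup.eq.mpr h2
    rw [QuotientGroup.out_eq', QuotientGroup.out_eq'] at h4
    exact h4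
  have hcardq : Nat.card (G ⧸ Subgroup.centralizer ({a} : Set G)) = Nat.card ↥(commutator G) := by
    have h1 := Subgroup.card_eq_card_quotient_mul_card_subgroup
      (Subgroup.centralizer ({a} : Set G))
    have hpos : 0 < Nat.card ↥(Subgroup.centralizer ({a} : Set G)) := Nat.card_pos
    have h2 : Nat.card (G ⧸ Subgroup.centralizer ({a} : Set G)) *
        Nat.card ↥(Subgroup.centralizer ({a} : Set G)) =
        Nat.card ↥(commutator G) * Nat.card ↥(Subgroup.centralizer ({a} : Set G)) := by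
      rw [← h1, ← hcent, mul_comm]
    exact Nat.eq_of_mul_eq_mul_right hpos h2
  have hbij : Function.Bijective ι :=
    hinj.bijective_of_nat_card_le (le_of_eq hcardq.symm)
  obtain ⟨q, hq⟩ := hbij.2 ⟨d, hd⟩
  have hq' : a⁻¹ * q.out * a * q.out⁻¹ = d := by
    rw [← hι, hq]
  -- decompose `q.out = u * b`
  have hgsup : q.out ∈ P ⊔ A := by
    rw [sup_comm, hS.sup]
    exact Subgroup.mem_top _
  have hN := hS.normal
  have hset : q.out ∈ ((P ⊔ A : Subgroup G) : Set G) := hgsup
  rw [Subgroup.normal_mul] at hset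
  obtain ⟨u, hu, b, hb, hub⟩ := Set.mem_mul.mp hset
  refine ⟨u, hu, ?_⟩
  have hba : b * a = a * b := hS.abel b hb a haA
  have h5 : q.out * a * q.out⁻¹ = a * d := by
    rw [← hq']
    group
  rw [← h5, ← hub]
  have h6 : u * b * a * (u * b)⁻¹ = u * (b * a) * b⁻¹ * u⁻¹ := by group
  rw [h6, hba]
  group

example : Cfsg.Agent.H74.MC.StConj.{u} := conj

end Cfsg.Agent.H53.MC
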