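import Mathlib
import Cfsg.Agent.H74.MCDefs

/-!
# S4756-DEQ (helper53, for helper74)

In the local setup with `A ≠ ⊥`: `⁅A, P⁆ = G'`.
-/

set_option autoImplicit false

namespace Cfsg.Agent.H53.MC

open Cfsg Cfsg.Agent.H74.MC
open scoped commutatorElement

universe u

/-- **S4756-DEQ**. -/
theorem dEq (hC : StConj.{u}) : StDEq.{u} := by
  intro G _ _ p hp P A hS hA
  classical
  apply le_antisymm
  · rw [commutator_def]
    exact Subgroup.commutator_mono le_top le_top
  · intro d hd
    obtain ⟨a, haA, ha1⟩ : ∃ a ∈ A, a ≠ 1 := by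
      by_contra hcon
      apply hA
      rw [Subgroup.eq_bot_iff_forall]
      intro x hx
      by_contra hx1
      exact hcon ⟨x, hx, hx1⟩
    obtain ⟨u, huP, hu⟩ := hC G p P A hS a haA ha1 d hd
    have h1 : d = ⁅a⁻¹, u⁆ := by
      rw [commutatorElement_def, inv_inv]
      have h2 : a⁻¹ * u * a * u⁻¹ = a⁻¹ * (u * a * u⁻¹) := by group
      rw [h2, hu]
      group
    rw [h1]
    exact Subgroup.commutator_mem_commutator (A.inv_mem haA) huP

example (hC : Cfsg.Agent.H74.MC.StConj.{u}) : Cfsg.Agent.H74.MC.StDEq.{u} := dEq hC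

end Cfsg.Agent.H53.MC
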