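import Mathlib
import Cfsg.Agent.H74.MCDefs

/-!
# S4756-FPF (helper53, for helper74)

In the local setup, `1 ≠ a ∈ A` centralizes no nonidentity element of `G'`.
-/

set_option autoImplicit false

namespace Cfsg.Agent.H53.MC

open Cfsg Cfsg.Agent.H74.MC

universe u

/-- **S4756-FPF**. -/
theorem fpf (hC : StConj.{u}) : StFpf.{u} := by
  intro G _ _ p hp P A hS a haA ha1 d hd hcomm
  classical
  obtain ⟨u, -, hu⟩ := hC G p P A hS a haA ha1 d hd
  -- `(a * d) ^ n = 1` for `n = orderOf a`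
  have h1 : (a * d) ^ orderOf a = 1 := by
    rw [← hu]
    have h2 : (u * a * u⁻¹) ^ orderOf a = u * a ^ orderOf a * u⁻¹ := by
      rw [← conj_pow]
    rw [h2, pow_orderOf_eq_one]
    group
  have h3 : d ^ orderOf a = 1 := by
    have h4 : (a * d) ^ orderOf a = a ^ orderOf a * d ^ orderOf a :=
      (show Commute a d from hcomm).mul_pow _
    rw [h4, pow_orderOf_eq_one, one_mul] at h1
    exact h1
  have h5 : orderOf d ∣ orderOf a := orderOf_dvd_of_pow_eq_one h3
  have h6 : orderOf a ∣ Nat.card ↥A := by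
    have h7 : orderOf (⟨a, haA⟩ : ↥A) ∣ Nat.card ↥A := orderOf_dvd_natCard _
    rwa [Subgroup.orderOf_mk] at h7
  have hdP : d ∈ P := hS.comm_le hd
  obtain ⟨k, hk⟩ := hS.pgroup (⟨d, hdP⟩ : ↥P)
  have hk' : d ^ p ^ k = 1 := by
    have := congrArg (Subtype.val) hk
    simpa using this
  have h10 : orderOf d ∣ p ^ k := orderOf_dvd_of_pow_eq_one hk'
  have h8 : (orderOf d).Coprime (Nat.card ↥A) :=
    Nat.Coprime.coprime_dvd_left h10 (Nat.Coprime.pow_left k hS.coprime.symm)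
  have h9 : orderOf d = 1 := Nat.eq_one_of_dvd_one (by
    have h11 := Nat.dvd_gcd (dvd_refl (orderOf d)) (h5.trans h6)
    rwa [Nat.Coprime.gcd_eq_one h8] at h11)
  exact orderOf_eq_one_iff.mp h9

example (hC : Cfsg.Agent.H74.MC.StConj.{u}) : Cfsg.Agent.H74.MC.StFpf.{u} := fpf hC

end Cfsg.Agent.H53.MC
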