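import Mathlib
import Cfsg.Prelude.Def_LocalStructure
import Cfsg.Agent.H53.Min2
import Cfsg.Agent.S0012
import Cfsg.Agent.S0013

set_option autoImplicit false

namespace Cfsg.Agent.H53

open Cfsg
open scoped commutatorElement Pointwise

theorem le_normalizer_of_le_center {G : Type*} [Group G] {W : Subgroup G}
    (hW : W ≤ Subgroup.center G) (K : Subgroup G) : K ≤ Subgroup.normalizer (W : Set G) := by
  intro k _
  rw [Subgroup.mem_normalizer_iff]
  intro w
  constructor
  · intro hw
    have h1 := (Subgroup.mem_center_iff.mp (hW hw)) k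
    have e : k * w * k⁻¹ = w := by rw [h1]; group
    rw [e]; exact hw
  · intro hw
    have h1 := (Subgroup.mem_center_iff.mp (hW hw)) k⁻¹
    have e : w = k⁻¹ * (k * w * k⁻¹) * k := by group
    rw [e, h1]
    have e2 : k * w * k⁻¹ * k⁻¹ * k = k * w * k⁻¹ := by group
    rw [e2]; exact hw

/-- In a finite `p`-group `A` in which `x ^ p` is always a product of commutators, `Φ(A) = A'`
(stated inside an ambient group). -/
theorem frattini_map_eq_commutator {p : ℕ} [Fact p.Prime] {G : Type*} [Group G] [Finite G]
    {A : Subgroup G} (hA : IsPGroup p ↥A) (hpow : ∀ x : ↥A, x ^ p ∈ commutator ↥A) :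
    (frattini ↥A).map A.subtype = ⁅A, A⁆ := by
  have h1 : frattini ↥A = commutator ↥A :=
    le_antisymm (Cfsg.Agent.S0013.result p hA (commutator ↥A) le_rfl hpow)
      (Cfsg.Agent.S0012.result p hA).1
  rw [h1, commutator_def, Subgroup.map_commutator, ← MonoidHom.range_eq_map, Subgroup.range_subtype]

theorem pow_mem_commutator_of_mul {G : Type*} [Group G] {p : ℕ} {x y : G} (hx : x ^ p = 1)
    (hy : y ^ p = 1) : (x * y) ^ p ∈ commutator G := by
  rw [← Abelianization.ker_of, MonoidHom.mem_ker, map_pow, map_mul, mul_pow, ← map_pow, ← map_pow,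
    hx, hy, map_one, one_mul]

end Cfsg.Agent.H53
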