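import Mathlib
import Cfsg.Prelude.Def_LocalStructure
import Cfsg.Agent.H53.Min3

set_option autoImplicit false

namespace Cfsg.Agent.H53

open Cfsg
open scoped commutatorElement Pointwise

set_option maxHeartbeats 1000000 in
/-- The structure of `A = ⟨(O ∩ Y)^L⟩` when `L = ⟨Y, Y^g⟩`, `Y` elementary abelian normalized by the
normal `p`-subgroup `O ≥ Z(L)`. -/
theorem minimalOver_commutators_aux {L : Type*} [Group L] [Finite L] {p : ℕ} [Fact p.Prime]
    (O : Subgroup L) (hOn : O.Normal) (hOp : IsPGroup p ↥O) (hZO : Subgroup.center L ≤ O)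
    (Y : Subgroup L) (hYel : Cfsg.IsElementaryAbelian p Y)
    (hOY : O ≤ Subgroup.normalizer (Y : Set L))
    (A : Subgroup L) (hA : A = Subgroup.normalClosure (((O ⊓ Y : Subgroup L)) : Set L))
    (g : L) (hgen : Y ⊔ cj(g, Y) = ⊤) :
    (frattini ↥A).map A.subtype = ⁅A, A⁆ ∧ ⁅A, A⁆ = ⁅A ⊓ Y, A⁆ ∧
    ⁅A ⊓ Y, A⁆ = ⁅A ⊓ Y, A ⊓ cj(g, Y)⁆ ∧ ⁅A ⊓ Y, A⁆ ≤ Y ⊓ Subgroup.center L ∧
    Y ⊓ cj(g, Y) = Y ⊓ Subgroup.center L ∧
    (A ⊓ Y) ⊓ (A ⊓ cj(g, Y)) = Y ⊓ Subgroup.center L ∧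
    A ⊓ Subgroup.center L = Y ⊓ Subgroup.center L := by
  have := hOn
  have hYcomm : ∀ a ∈ Y, ∀ b ∈ Y, a * b = b * a := by
    intro a ha b hb
    have := (isMulCommutative_iff.mp hYel.1) ⟨a, ha⟩ ⟨b, hb⟩
    exact congrArg Subtype.val this
  have hYgcomm : ∀ a ∈ cj(g, Y), ∀ b ∈ cj(g, Y), a * b = b * a := by
    rintro _ ⟨a, ha, rfl⟩ _ ⟨b, hb, rfl⟩
    simp only [MulEquiv.coe_toMonoidHom, MulAut.conj_apply]
    have := hYcomm a ha b hb
    calc g * a * g⁻¹ * (g * b * g⁻¹) = g * (a * b) * g⁻¹ := by group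
      _ = g * (b * a) * g⁻¹ := by rw [this]
      _ = g * b * g⁻¹ * (g * a * g⁻¹) := by group
  have hYpow : ∀ a ∈ Y, a ^ p = 1 := hYel.2
  have hYgpow : ∀ a ∈ cj(g, Y), a ^ p = 1 := by
    rintro _ ⟨a, ha, rfl⟩
    rw [← map_pow, hYpow a ha, map_one]
  have h5 := inf_conj_eq_inf_center hYel.1 g hgen
  have hOYg : O ≤ Subgroup.normalizer ((cj(g, Y) : Subgroup L) : Set L) := by
    have := cj_mono g hOY
    rwa [cj_of_normal, cj_normalizer] at this
  have hYO : ∀ K : Subgroup L, K ≤ Subgroup.normalizer (O : Set L) := fun K => by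
    rw [Subgroup.normalizer_eq_top_iff.mpr hOn]; exact le_top
  have hc1 : ⁅O, Y⁆ ≤ O ⊓ Y := commutator_le_inf_of_le_normalizer hOY (hYO Y)
  have hc2 : ⁅O, cj(g, Y)⁆ ≤ O ⊓ cj(g, Y) := commutator_le_inf_of_le_normalizer hOYg (hYO _)
  have hBg : cj(g, (O ⊓ Y)) = O ⊓ cj(g, Y) := by rw [cj_inf, cj_of_normal]
  -- `X = B ⊔ Bg` is normal
  have hconj : ∀ x z : L, x * z * x⁻¹ = ⁅x, z⁆ * z := by
    intro x z; rw [commutatorElement_def]; group
  have hYX : Y ≤ Subgroup.normalizer (((O ⊓ Y) ⊔ (O ⊓ cj(g, Y)) : Subgroup L) : Set L) := by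
    intro y hy
    rw [mem_normalizer_iff_cj]
    apply cj_eq_self_of_le_of_card
    rw [cj_sup]
    refine sup_le ?_ ?_
    · rw [cj_inf, cj_of_normal, cj_eq_of_mem hy]; exact le_sup_left
    · rintro _ ⟨b, hb, rfl⟩
      simp only [MulEquiv.coe_toMonoidHom, MulAut.conj_apply]
      rw [hconj]
      refine Subgroup.mul_mem _ (le_sup_left (a := O ⊓ Y) (hc1 ?_)) (le_sup_right (b := O ⊓ cj(g, Y)) hb)
      rw [Subgroup.commutator_comm]
      exact Subgroup.commutator_mem_commutator hy (Subgroup.mem_inf.mp hb).1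
  have hYgX : cj(g, Y) ≤ Subgroup.normalizer (((O ⊓ Y) ⊔ (O ⊓ cj(g, Y)) : Subgroup L) : Set L) := by
    intro y hy
    rw [mem_normalizer_iff_cj]
    apply cj_eq_self_of_le_of_card
    rw [cj_sup]
    refine sup_le ?_ ?_
    · rintro _ ⟨b, hb, rfl⟩
      simp only [MulEquiv.coe_toMonoidHom, MulAut.conj_apply]
      rw [hconj]
      refine Subgroup.mul_mem _ (le_sup_right (b := O ⊓ cj(g, Y)) (hc2 ?_)) (le_sup_left (a := O ⊓ Y) hb)
      rw [Subgroup.commutator_comm]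
      exact Subgroup.commutator_mem_commutator hy (Subgroup.mem_inf.mp hb).1
    · rw [cj_inf, cj_of_normal, cj_eq_of_mem hy]; exact le_sup_right
  have hXn : ((O ⊓ Y) ⊔ (O ⊓ cj(g, Y)) : Subgroup L).Normal := by
    apply Subgroup.normalizer_eq_top_iff.mp
    rw [eq_top_iff, ← hgen]
    exact sup_le hYX hYgX
  have hAX : A = (O ⊓ Y) ⊔ (O ⊓ cj(g, Y)) := by
    apply le_antisymm
    · rw [hA]
      exact Subgroup.normalClosure_le_normal (fun x hx => le_sup_left (a := O ⊓ Y) hx)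
    · have hBA : O ⊓ Y ≤ A := by rw [hA]; exact Subgroup.subset_normalClosure
      refine sup_le hBA ?_
      rw [← hBg]
      have hAn : A.Normal := by rw [hA]; exact Subgroup.normalClosure_normal
      have := cj_mono g hBA
      rwa [cj_of_normal A g] at this
  clear hA
  subst hAX
  have hAO : (O ⊓ Y) ⊔ (O ⊓ cj(g, Y)) ≤ O := sup_le inf_le_left inf_le_left
  have hAY : ((O ⊓ Y) ⊔ (O ⊓ cj(g, Y))) ⊓ Y = O ⊓ Y :=
    le_antisymm (le_inf (inf_le_left.trans hAO) inf_le_right) (le_inf le_sup_left inf_le_right)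
  have hAYg : ((O ⊓ Y) ⊔ (O ⊓ cj(g, Y))) ⊓ cj(g, Y) = O ⊓ cj(g, Y) :=
    le_antisymm (le_inf (inf_le_left.trans hAO) inf_le_right) (le_inf le_sup_right inf_le_right)
  have hW1 : ⁅O ⊓ Y, O ⊓ cj(g, Y)⁆ ≤ O ⊓ Y := by
    refine le_trans ?_ hc1
    rw [Subgroup.commutator_comm]
    exact Subgroup.commutator_mono inf_le_left inf_le_right
  have hW2 : ⁅O ⊓ Y, O ⊓ cj(g, Y)⁆ ≤ O ⊓ cj(g, Y) :=
    le_trans (Subgroup.commutator_mono inf_le_left inf_le_right) hc2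
  have hBB : (O ⊓ Y) ⊓ (O ⊓ cj(g, Y)) = Y ⊓ Subgroup.center L := by
    apply le_antisymm
    · rw [← h5]
      exact le_inf (inf_le_left.trans inf_le_right) (inf_le_right.trans inf_le_right)
    · have h6 : Y ⊓ Subgroup.center L ≤ O := inf_le_right.trans hZO
      have h7 : Y ⊓ Subgroup.center L ≤ cj(g, Y) := by rw [← h5]; exact inf_le_right
      exact le_inf (le_inf h6 inf_le_left) (le_inf h6 h7)
  have hWZ : ⁅O ⊓ Y, O ⊓ cj(g, Y)⁆ ≤ Y ⊓ Subgroup.center L := (le_inf hW1 hW2).trans hBB.le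
  have hWc : ⁅O ⊓ Y, O ⊓ cj(g, Y)⁆ ≤ Subgroup.center L := hWZ.trans inf_le_right
  have hWn := le_normalizer_of_le_center hWc
  have hcomm1 : ∀ a ∈ Y, ∀ b ∈ Y, ⁅a, b⁆ = 1 := by
    intro a ha b hb
    rw [commutatorElement_eq_one_iff_mul_comm]; exact hYcomm a ha b hb
  have hcomm1' : ∀ a ∈ cj(g, Y), ∀ b ∈ cj(g, Y), ⁅a, b⁆ = 1 := by
    intro a ha b hb
    rw [commutatorElement_eq_one_iff_mul_comm]; exact hYgcomm a ha b hb
  -- `[A, B] ≤ W`
  have hAB : ⁅(O ⊓ Y) ⊔ (O ⊓ cj(g, Y)), O ⊓ Y⁆ ≤ ⁅O ⊓ Y, O ⊓ cj(g, Y)⁆ := by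
    have hle : (O ⊓ Y) ⊔ (O ⊓ cj(g, Y)) ≤ commSub (O ⊓ Y) ⁅O ⊓ Y, O ⊓ cj(g, Y)⁆ := by
      refine sup_le ?_ ?_
      · intro b hb
        refine mem_commSub.mpr ⟨hWn _ hb, fun z hz => ?_⟩
        rw [hcomm1 b (Subgroup.mem_inf.mp hb).2 z (Subgroup.mem_inf.mp hz).2]
        exact Subgroup.one_mem _
      · intro b hb
        refine mem_commSub.mpr ⟨hWn _ hb, fun z hz => ?_⟩
        rw [Subgroup.commutator_comm]
        exact Subgroup.commutator_mem_commutator hb hz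
    rw [Subgroup.commutator_le]
    intro a ha z hz
    exact (mem_commSub.mp (hle ha)).2 z hz
  have hABg : ⁅(O ⊓ Y) ⊔ (O ⊓ cj(g, Y)), O ⊓ cj(g, Y)⁆ ≤ ⁅O ⊓ Y, O ⊓ cj(g, Y)⁆ := by
    have hle : (O ⊓ Y) ⊔ (O ⊓ cj(g, Y)) ≤ commSub (O ⊓ cj(g, Y)) ⁅O ⊓ Y, O ⊓ cj(g, Y)⁆ := by
      refine sup_le ?_ ?_
      · intro b hb
        refine mem_commSub.mpr ⟨hWn _ hb, fun z hz => ?_⟩
        exact Subgroup.commutator_mem_commutator hb hz
      · intro b hb
        refine mem_commSub.mpr ⟨hWn _ hb, fun z hz => ?_⟩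
        rw [hcomm1' b (Subgroup.mem_inf.mp hb).2 z (Subgroup.mem_inf.mp hz).2]
        exact Subgroup.one_mem _
    rw [Subgroup.commutator_le]
    intro a ha z hz
    exact (mem_commSub.mp (hle ha)).2 z hz
  have hAA : ⁅(O ⊓ Y) ⊔ (O ⊓ cj(g, Y)), (O ⊓ Y) ⊔ (O ⊓ cj(g, Y))⁆ ≤ ⁅O ⊓ Y, O ⊓ cj(g, Y)⁆ := by
    have hle : (O ⊓ Y) ⊔ (O ⊓ cj(g, Y)) ≤
        commSub ((O ⊓ Y) ⊔ (O ⊓ cj(g, Y))) ⁅O ⊓ Y, O ⊓ cj(g, Y)⁆ := by
      refine sup_le ?_ ?_
      · intro b hb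
        refine mem_commSub.mpr ⟨hWn _ hb, fun z hz => ?_⟩
        apply hAB
        rw [Subgroup.commutator_comm]
        exact Subgroup.commutator_mem_commutator hb hz
      · intro b hb
        refine mem_commSub.mpr ⟨hWn _ hb, fun z hz => ?_⟩
        apply hABg
        rw [Subgroup.commutator_comm]
        exact Subgroup.commutator_mem_commutator hb hz
    rw [Subgroup.commutator_le]
    intro a ha z hz
    exact (mem_commSub.mp (hle ha)).2 z hz
  have hBA_eq : ⁅O ⊓ Y, (O ⊓ Y) ⊔ (O ⊓ cj(g, Y))⁆ = ⁅O ⊓ Y, O ⊓ cj(g, Y)⁆ := by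
    apply le_antisymm
    · rw [Subgroup.commutator_comm]; exact hAB
    · exact Subgroup.commutator_mono le_rfl le_sup_right
  have hAA_eq : ⁅(O ⊓ Y) ⊔ (O ⊓ cj(g, Y)), (O ⊓ Y) ⊔ (O ⊓ cj(g, Y))⁆ = ⁅O ⊓ Y, O ⊓ cj(g, Y)⁆ := by
    apply le_antisymm hAA
    exact Subgroup.commutator_mono le_sup_left le_sup_right
  have hBnBg : O ⊓ Y ≤ Subgroup.normalizer ((O ⊓ cj(g, Y) : Subgroup L) : Set L) := by
    intro x hx
    rw [mem_normalizer_iff_cj, cj_inf, cj_of_normal, cj_of_mem_normalizer (hOYg (Subgroup.mem_inf.mp hx).1)]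
  refine ⟨?_, ?_, ?_, ?_, h5, ?_, ?_⟩
  · apply frattini_map_eq_commutator (hOp.to_le hAO)
    intro x
    obtain ⟨b, hb, b', hb', hx⟩ := mem_sup_of_le_normalizer hBnBg x.2
    have e : x = (⟨b, le_sup_left (a := O ⊓ Y) hb⟩ : ↥((O ⊓ Y) ⊔ (O ⊓ cj(g, Y)))) *
        ⟨b', le_sup_right (b := O ⊓ cj(g, Y)) hb'⟩ := Subtype.ext hx
    rw [e]
    apply pow_mem_commutator_of_mul
    · exact Subtype.ext (by rw [Subgroup.coe_pow]; exact hYpow b (Subgroup.mem_inf.mp hb).2)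
    · exact Subtype.ext (by rw [Subgroup.coe_pow]; exact hYgpow b' (Subgroup.mem_inf.mp hb').2)
  · rw [hAY, hAA_eq, hBA_eq]
  · rw [hAY, hAYg, hBA_eq]
  · rw [hAY, hBA_eq]; exact hWZ
  · rw [hAY, hAYg]; exact hBB
  · apply le_antisymm
    · intro z hz
      obtain ⟨hzA, hzc⟩ := Subgroup.mem_inf.mp hz
      obtain ⟨b, hb, b', hb', hx⟩ := mem_sup_of_le_normalizer hBnBg hzA
      have hbY := (Subgroup.mem_inf.mp hb).2
      have hb'Yg := (Subgroup.mem_inf.mp hb').2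
      have hb'eq : b' = b⁻¹ * z := by rw [hx]; group
      have hzc' := Subgroup.mem_center_iff.mp hzc
      have hle : (⊤ : Subgroup L) ≤ Subgroup.centralizer ({b'} : Set L) := by
        rw [← hgen]
        refine sup_le ?_ ?_
        · intro y hy
          rw [Subgroup.mem_centralizer_iff]
          intro w hw
          rw [Set.mem_singleton_iff] at hw; subst hw
          rw [hb'eq]
          have h1 := hYcomm b⁻¹ (Y.inv_mem hbY) y hy
          calc b⁻¹ * z * y = b⁻¹ * (z * y) := by group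
            _ = b⁻¹ * (y * z) := by rw [hzc' y]
            _ = (b⁻¹ * y) * z := by group
            _ = (y * b⁻¹) * z := by rw [h1]
            _ = y * (b⁻¹ * z) := by group
        · intro y hy
          rw [Subgroup.mem_centralizer_iff]
          intro w hw
          rw [Set.mem_singleton_iff] at hw; subst hw
          exact hYgcomm _ hb'Yg y hy
      have hb'c : b' ∈ Subgroup.center L := by
        rw [Subgroup.mem_center_iff]
        intro x
        have := (Subgroup.mem_centralizer_iff.mp (hle (Subgroup.mem_top x))) b' rfl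
        exact this.symm
      have hb'Y : b' ∈ Y := by
        have h1 := mem_cj.mp hb'Yg
        have h2 : g⁻¹ * b' * g = b' := by
          rw [mul_assoc, ← (Subgroup.mem_center_iff.mp hb'c) g]; group
        rwa [h2] at h1
      refine Subgroup.mem_inf.mpr ⟨?_, hzc⟩
      rw [hx]
      exact Y.mul_mem hbY hb'Y
    · refine le_inf ?_ inf_le_right
      exact le_trans (le_inf (inf_le_right.trans hZO) inf_le_left) le_sup_left

end Cfsg.Agent.H53
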