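import Mathlib
import Cfsg.Prelude.Def_KGroupFacts
import Cfsg.Agent.H33.O2.Defs

/-!
# S2072-INDEX (helper53 for helper33)

Every automorphism of a rank 3 group of the graph `(100, 22, 0, 6)` whose subgroups of order
443520 are the vertex stabilisers permutes the vertex stabilisers like a graph automorphism.
-/

set_option autoImplicit false

namespace Cfsg.Agent.H53.O2

open Cfsg.Agent.H33.O2 Cfsg.Agent.H22.SRG

theorem indEx : Cfsg.Agent.H33.O2.StIndEx := by
  intro H V _ _ Γ ρ hR hO hF1 hKF α
  classical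
  haveI : Finite H := Nat.finite_of_card_ne_zero (by rw [hR.card]; norm_num)
  -- the map on vertices
  have hex : ∀ x : V, ∃ y : V, ∀ h : H, ρ (α h) y = y ↔ ρ h x = x := by
    intro x
    have hc : Nat.card ↥((St ρ x).map α.toMonoidHom) = 443520 := by
      rw [Subgroup.card_map_of_injective α.injective]
      exact hO.1 x
    obtain ⟨y, hy⟩ := hKF _ hc
    refine ⟨y, fun h => ?_⟩
    rw [← mem_St, ← hy, ← mem_St]
    exact Subgroup.mem_map_iff_mem α.injective
  choose π hπ using hex
  have hinj : Function.Injective π := by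
    intro x x' hxx
    have h1 : ∀ h, ρ h x' = x' → ρ h x = x := by
      intro h hh
      rw [← hπ x h, hxx, hπ x' h]
      exact hh
    exact hF1 x' x h1
  have hbij : Function.Bijective π := hinj.bijective_of_finite
  -- the intersections of two stabilisers
  have hcard : ∀ x z : V, Nat.card ↥(St ρ x ⊓ St ρ z) = Nat.card ↥(St ρ (π x) ⊓ St ρ (π z)) := by
    intro x z
    refine Nat.card_congr (Equiv.subtypeEquiv α.toEquiv (fun h => ?_))
    rw [Subgroup.mem_inf, Subgroup.mem_inf, mem_St, mem_St, mem_St, mem_St]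
    show _ ↔ ρ (α h) (π x) = π x ∧ ρ (α h) (π z) = π z
    rw [hπ x h, hπ z h]
  have hadj : ∀ x z : V, Γ.Adj (π x) (π z) ↔ Γ.Adj x z := by
    intro x z
    constructor
    · intro h
      by_contra hn
      have h1 := hO.2.1 _ _ h
      rw [← hcard] at h1
      by_cases hxz : x = z
      · subst hxz
        exact Γ.irrefl h
      · have h2 := hO.2.2 x z hxz hn
        omega
    · intro h
      by_contra hn
      have h1 := hO.2.1 _ _ h
      rw [hcard] at h1
      have hxz : π x ≠ π z := fun hh => h.ne (hinj hh)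
      have h2 := hO.2.2 _ _ hxz hn
      omega
  let f : Γ ≃g Γ := ⟨Equiv.ofBijective π hbij, fun {a b} => hadj a b⟩
  refine ⟨f, ?_⟩
  intro x h
  exact hπ x h

example : ∀ {H V : Type} [Group H] [Fintype V] {Γ : SimpleGraph V}
  (ρ : H →* (Γ ≃g Γ)), R3G ρ → OrdC ρ → FixOneC ρ → KFixC ρ →
  ∀ α : MulAut H, ∃ f : Γ ≃g Γ, Ind ρ α f := indEx

end Cfsg.Agent.H53.O2
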