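import Mathlib
import Cfsg.Prelude.Def_KGroupFacts
import Cfsg.Agent.H33.O2.Defs

/-!
# S2072-KORB (helper53 for helper33)

A subgroup of order 443520 of a rank 3 group of the graph `(100, 22, 0, 6)` is a vertex
stabiliser, or the orbit of the fixed vertex of one of its elements of order 11 has size 56.
-/

set_option autoImplicit false

namespace Cfsg.Agent.H53.O2

open Cfsg.Agent.H33.O2 Cfsg.Agent.H22.SRG

/-- the action on the vertices -/
@[reducible] def vact {H V : Type} [Group H] {Γ : SimpleGraph V} (ρ : H →* (Γ ≃g Γ)) :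
    MulAction H V where
  smul h v := ρ h v
  one_smul v := by
    show ρ 1 v = v
    rw [map_one]; rfl
  mul_smul a b v := by
    show ρ (a * b) v = ρ a (ρ b v)
    rw [map_mul]; rfl

theorem korb_arith (s f : ℕ) (hs : s ≤ 100) (hd : s ∣ 443520) (h11 : s % 11 = 1)
    (h7 : s % 7 = f % 7) (hf : f ≤ 2) : s = 1 ∨ s = 56 := by
  interval_cases s <;> first | omega | (exfalso; revert hd; decide)

theorem card_le_two_of_no_three {α : Type} [Finite α]
    (h : ∀ a b c : α, a = b ∨ a = c ∨ b = c) : Nat.card α ≤ 2 := by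
  by_contra hc
  push Not at hc
  haveI := Fintype.ofFinite α
  rw [Nat.card_eq_fintype_card] at hc
  obtain ⟨a, b, c, hab, hac, hbc⟩ := Fintype.two_lt_card_iff.mp hc
  rcases h a b c with h1 | h1 | h1
  · exact hab h1
  · exact hac h1
  · exact hbc h1

theorem korb : Cfsg.Agent.H33.O2.StKOrb := by
  intro H V _ _ Γ ρ hR hO hF K hK
  classical
  haveI : Finite H := Nat.finite_of_card_ne_zero (by rw [hR.card]; norm_num)
  letI : MulAction H V := vact ρ
  have hsm : ∀ (h : H) (v : V), h • v = ρ h v := fun _ _ => rfl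
  have hsmK : ∀ (k : K) (v : V), k • v = ρ (k : H) v := fun _ _ => rfl
  -- elements of order 11 and 7
  haveI : Fact (Nat.Prime 11) := ⟨by norm_num⟩
  haveI : Fact (Nat.Prime 7) := ⟨by norm_num⟩
  obtain ⟨gK, hgK⟩ := exists_prime_orderOf_dvd_card' (G := K) 11 (by rw [hK]; norm_num)
  obtain ⟨qK, hqK⟩ := exists_prime_orderOf_dvd_card' (G := K) 7 (by rw [hK]; norm_num)
  have hg11 : orderOf (gK : H) = 11 := by rw [Subgroup.orderOf_coe]; exact hgK
  have hq7 : orderOf (qK : H) = 7 := by rw [Subgroup.orderOf_coe]; exact hqK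
  obtain ⟨y, hy, hyu⟩ := hF.1 (gK : H) hg11
  -- the orbit
  set s := Nat.card (MulAction.orbit K y) with hs
  have hsle : s ≤ 100 := by
    have h1 : Nat.card (MulAction.orbit K y) ≤ Nat.card V :=
      Nat.card_le_card_of_injective (fun x => (x : V)) Subtype.val_injective
    have hV : Nat.card V = 100 := by rw [Nat.card_eq_fintype_card]; exact hR.hyp.card
    rw [hV] at h1
    exact h1
  have hsd : s ∣ 443520 := by
    have h1 := Nat.card_congr (MulAction.orbitProdStabilizerEquivGroup K y)
    rw [Nat.card_prod, hK] at h1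
    exact ⟨_, h1.symm⟩
  -- the 11-element
  have hP : IsPGroup 11 (Subgroup.zpowers gK) := by
    apply IsPGroup.of_card (n := 1)
    rw [Nat.card_zpowers, hgK]; rfl
  have h11 : s % 11 = 1 := by
    have h1 := hP.card_modEq_card_fixedPoints (MulAction.orbit K y)
    have h2 : Nat.card (MulAction.fixedPoints (Subgroup.zpowers gK) (MulAction.orbit K y)) = 1 := by
      rw [Nat.card_eq_one_iff_unique]
      constructor
      · constructor
        rintro ⟨⟨v, hv⟩, hvf⟩ ⟨⟨w, hw⟩, hwf⟩
        have h3 : ρ (gK : H) v = v := by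
          have := hvf ⟨gK, Subgroup.mem_zpowers gK⟩
          exact congrArg (fun x : MulAction.orbit K y => (x : V)) this
        have h4 : ρ (gK : H) w = w := by
          have := hwf ⟨gK, Subgroup.mem_zpowers gK⟩
          exact congrArg (fun x : MulAction.orbit K y => (x : V)) this
        have h5 := hyu v h3
        have h6 := hyu w h4
        subst h5; subst h6; rfl
      · refine ⟨⟨⟨y, MulAction.mem_orbit_self y⟩, ?_⟩⟩
        rintro ⟨p, hp⟩
        obtain ⟨n, rfl⟩ := Subgroup.mem_zpowers_iff.mp hp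
        apply Subtype.ext
        show ((gK ^ n : K) : H) • y = y
        have h7 : (gK : H) • y = y := hy
        have h8 : ((gK ^ n : K) : H) = (gK : H) ^ n := by simp
        rw [h8]
        exact MulAction.zpow_smul_eq_iff_minimalPeriod_dvd.mpr (by
          have : Function.minimalPeriod ((gK : H) • ·) y = 1 := by
            rw [Function.minimalPeriod_eq_one_iff_isFixedPt]
            exact h7
          rw [this]; simp)
    rw [h2] at h1
    exact h1
  -- the 7-element
  have hQ : IsPGroup 7 (Subgroup.zpowers qK) := by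
    apply IsPGroup.of_card (n := 1)
    rw [Nat.card_zpowers, hqK]; rfl
  have h7 : ∃ f, s % 7 = f % 7 ∧ f ≤ 2 := by
    have h1 := hQ.card_modEq_card_fixedPoints (MulAction.orbit K y)
    refine ⟨_, h1, ?_⟩
    apply card_le_two_of_no_three
    rintro ⟨⟨u, hu⟩, huf⟩ ⟨⟨v, hv⟩, hvf⟩ ⟨⟨w, hw⟩, hwf⟩
    have h3 : ρ (qK : H) u = u := by
      have := huf ⟨qK, Subgroup.mem_zpowers qK⟩
      exact congrArg (fun x : MulAction.orbit K y => (x : V)) this
    have h4 : ρ (qK : H) v = v := by
      have := hvf ⟨qK, Subgroup.mem_zpowers qK⟩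
      exact congrArg (fun x : MulAction.orbit K y => (x : V)) this
    have h5 : ρ (qK : H) w = w := by
      have := hwf ⟨qK, Subgroup.mem_zpowers qK⟩
      exact congrArg (fun x : MulAction.orbit K y => (x : V)) this
    rcases hF.2 (qK : H) hq7 u v w h3 h4 h5 with h | h | h
    · left; subst h; rfl
    · right; left; subst h; rfl
    · right; right; subst h; rfl
  obtain ⟨f, hf7, hf2⟩ := h7
  have hset : (MulAction.orbit K y : Set V) = {v | ∃ k ∈ K, ρ k y = v} := by
    ext v
    constructor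
    · rintro ⟨k, rfl⟩
      exact ⟨k, k.2, rfl⟩
    · rintro ⟨k, hk, rfl⟩
      exact ⟨⟨k, hk⟩, rfl⟩
  rcases korb_arith s f hsle hsd h11 hf7 hf2 with h1 | h56
  · left
    refine ⟨y, ?_⟩
    have hle : K ≤ St ρ y := by
      intro k hk
      rw [mem_St]
      have hsub : Subsingleton (MulAction.orbit K y) := (Nat.card_eq_one_iff_unique.mp h1).1
      have h2 : (⟨ρ k y, ⟨⟨k, hk⟩, rfl⟩⟩ : MulAction.orbit K y) = ⟨y, MulAction.mem_orbit_self y⟩ :=
        Subsingleton.elim _ _
      exact congrArg (fun x : MulAction.orbit K y => (x : V)) h2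
    exact Subgroup.eq_of_le_of_card_ge hle (by rw [hO.1 y, hK])
  · right
    refine ⟨y, (gK : H), gK.2, hg11, hy, ?_⟩
    rw [← hset, ← Nat.card_coe_set_eq]
    exact h56

example : ∀ {H V : Type} [Group H] [Fintype V] {Γ : SimpleGraph V}
  (ρ : H →* (Γ ≃g Γ)), R3G ρ → OrdC ρ → FixC ρ → ∀ K : Subgroup H, Nat.card ↥K = 443520 →
  (∃ y, K = St ρ y) ∨
  (∃ (y : V) (g : H), g ∈ K ∧ orderOf g = 11 ∧ ρ g y = y ∧
    {v | ∃ k ∈ K, ρ k y = v}.ncard = 56) := korb

end Cfsg.Agent.H53.O2
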