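import Mathlib
import Cfsg.Prelude.Def_KGroupFacts
import Cfsg.Agent.H33.O2.Defs

/-!
# S2072-OUT (helper53 for helper33)

A group embedded with index 2 and trivial centraliser in a group inducing all of its
automorphisms has outer automorphism group of order 2.
-/

set_option autoImplicit false

namespace Cfsg.Agent.H53.O2

theorem out : Cfsg.Agent.H33.O2.StOut := by
  intro H A _ _ _ ρ hinj hcard hcent hind
  classical
  haveI : Finite H := Finite.of_injective ρ hinj
  have hHpos : 0 < Nat.card H := Nat.card_pos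
  -- the range has index 2, hence is normal
  have hrc : Nat.card ρ.range = Nat.card H :=
    (Nat.card_congr (MonoidHom.ofInjective hinj).toEquiv).symm
  have hidx : ρ.range.index = 2 := by
    have h1 := Subgroup.card_mul_index ρ.range
    rw [hrc, hcard] at h1
    have : Nat.card H * ρ.range.index = Nat.card H * 2 := by rw [h1]; ring
    exact Nat.eq_of_mul_eq_mul_left hHpos this
  haveI hN : ρ.range.Normal := Subgroup.normal_of_index_eq_two hidx
  let e : H ≃* ρ.range := MonoidHom.ofInjective hinj
  have he : ∀ h : H, ((e h : ρ.range) : A) = ρ h := fun h => rfl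
  -- the automorphism induced by `f`
  let F : A → MulAut H := fun f => e.trans ((MulAut.conjNormal f : MulAut ρ.range).trans e.symm)
  have hF : ∀ (f : A) (h : H), ρ (F f h) = f * ρ h * f⁻¹ := by
    intro f h
    have h1 : F f h = e.symm (MulAut.conjNormal f (e h)) := rfl
    rw [h1, ← he, MulEquiv.apply_symm_apply, MulAut.conjNormal_apply, he]
  have hFinj : Function.Injective F := by
    intro f f' hff
    have h1 : ∀ h, (f'⁻¹ * f) * ρ h = ρ h * (f'⁻¹ * f) := by
      intro h
      have h2 : f * ρ h * f⁻¹ = f' * ρ h * f'⁻¹ := by rw [← hF, ← hF, hff]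
      have h3 : f * ρ h = f' * ρ h * f'⁻¹ * f := by rw [← h2]; group
      calc (f'⁻¹ * f) * ρ h = f'⁻¹ * (f * ρ h) := by group
        _ = f'⁻¹ * (f' * ρ h * f'⁻¹ * f) := by rw [h3]
        _ = ρ h * (f'⁻¹ * f) := by group
    have h4 := hcent _ h1
    calc f = f' * (f'⁻¹ * f) := by group
      _ = f' := by rw [h4, mul_one]
  have hFsurj : Function.Surjective F := by
    intro α
    obtain ⟨f, hf⟩ := hind α
    refine ⟨f, ?_⟩
    ext h
    apply hinj
    rw [hF, hf]
  have hAut : Nat.card (MulAut H) = 2 * Nat.card H := by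
    rw [← hcard]
    exact (Nat.card_congr (Equiv.ofBijective F ⟨hFinj, hFsurj⟩)).symm
  -- inner automorphisms
  have hconj : Function.Injective (MulAut.conj : H →* MulAut H) := by
    intro g g' hgg
    have h1 : ∀ h, ρ (g'⁻¹ * g) * ρ h = ρ h * ρ (g'⁻¹ * g) := by
      intro h
      have h2 : g * h * g⁻¹ = g' * h * g'⁻¹ := by
        have := congrArg (fun φ : MulAut H => φ h) hgg
        simpa [MulAut.conj_apply] using this
      rw [← map_mul, ← map_mul]
      congr 1
      have h3 : g * h = g' * h * g'⁻¹ * g := by rw [← h2]; group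
      calc (g'⁻¹ * g) * h = g'⁻¹ * (g * h) := by group
        _ = g'⁻¹ * (g' * h * g'⁻¹ * g) := by rw [h3]
        _ = h * (g'⁻¹ * g) := by group
    have h4 := hcent _ h1
    have h5 : g'⁻¹ * g = 1 := hinj (by rw [h4, map_one])
    calc g = g' * (g'⁻¹ * g) := by group
      _ = g' := by rw [h5, mul_one]
  have hInn : Nat.card (Cfsg.Inn H) = Nat.card H :=
    (Nat.card_congr (MonoidHom.ofInjective hconj).toEquiv).symm
  haveI : Finite (MulAut H) := by
    apply Nat.finite_of_card_ne_zero
    rw [hAut]; omega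
  have h6 := Subgroup.card_mul_index (Cfsg.Inn H)
  rw [hInn, hAut] at h6
  have h7 : Nat.card H * (Cfsg.Inn H).index = Nat.card H * 2 := by rw [h6]; ring
  have h8 : (Cfsg.Inn H).index = 2 := Nat.eq_of_mul_eq_mul_left hHpos h7
  exact h8

example : ∀ {H A : Type} [Group H] [Group A] [Finite A] (ρ : H →* A),
  Function.Injective ρ → Nat.card A = 2 * Nat.card H →
  (∀ z : A, (∀ h, z * ρ h = ρ h * z) → z = 1) →
  (∀ α : MulAut H, ∃ f : A, ∀ h, ρ (α h) = f * ρ h * f⁻¹) → Nat.card (Cfsg.Out H) = 2 := out

end Cfsg.Agent.H53.O2
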