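import Mathlib
import Cfsg.Agent.H83.PCDefs
import Cfsg.Agent.H53.PCStab
import Cfsg.Agent.H6.SpCenter

/-!
# PC-CENT (helper53, for helper83)

The centralizer of `c0` (the image of the transvection `t0`) in `PSp(4,3)` is the isomorphic
image of `Stab3`, and `c0` has order 3.
-/

set_option autoImplicit false
set_option linter.unusedSimpArgs false
set_option linter.unnecessarySeqFocus false
set_option linter.unreachableTactic false
set_option linter.unusedTactic false

namespace Cfsg.Agent.H53.PC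

open Matrix Cfsg.Agent.H83.PC

/-- The symplectic group `Sp(4,3)`. -/
abbrev Sp43 : Type := symplecticGroup (Fin 2) (ZMod 3)

theorem cent_center_iff (z : Sp43) :
    z ∈ Subgroup.center Sp43 ↔ z = 1 ∨ z = Cfsg.Agent.H6.spNegOne (Fin 2) (ZMod 3) := by
  have h := Set.ext_iff.mp (Cfsg.Agent.H6.center_symplectic_eq (l := Fin 2) (F := ZMod 3)) z
  simpa using h

theorem t0_coe : (t0 : Sp43).1 = fromBlocks 1 (Matrix.diagonal ![1, 0]) 0 1 := rfl

theorem t0_coe' : (t0 : Sp43).1 = fromBlocks 1 !![1, 0; 0, 0] 0 1 := by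
  rw [t0_coe]
  decide

theorem t0_cube : (t0 : Sp43) ^ 3 = 1 := by
  apply Subtype.ext
  show ((t0 : Sp43).1) ^ 3 = 1
  rw [t0_coe]
  decide

theorem t0_ne_one : (t0 : Sp43) ≠ 1 := by
  intro h
  have h1 := congrArg Subtype.val h
  have h2 : (t0 : Sp43).1 (Sum.inl 0) (Sum.inr 0) =
      (1 : Matrix (Fin 2 ⊕ Fin 2) (Fin 2 ⊕ Fin 2) (ZMod 3)) (Sum.inl 0) (Sum.inr 0) := by
    rw [h1]
    rfl
  rw [t0_coe] at h2
  revert h2
  decide

theorem t0_ne_neg : (t0 : Sp43) ≠ Cfsg.Agent.H6.spNegOne (Fin 2) (ZMod 3) := by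
  intro h
  have h1 := congrArg Subtype.val h
  have h2 : (t0 : Sp43).1 (Sum.inl 0) (Sum.inr 0) =
      (-1 : Matrix (Fin 2 ⊕ Fin 2) (Fin 2 ⊕ Fin 2) (ZMod 3)) (Sum.inl 0) (Sum.inr 0) := by
    rw [h1]
    rfl
  rw [t0_coe] at h2
  revert h2
  decide

theorem c0_order : orderOf c0 = 3 := by
  have : Fact (Nat.Prime 3) := ⟨by norm_num⟩
  apply orderOf_eq_prime
  · show (QuotientGroup.mk t0 : Cfsg.PSp 2 (ZMod 3)) ^ 3 = 1
    rw [← QuotientGroup.mk_pow, t0_cube]
    rfl
  · intro h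
    have h1 : (t0 : Sp43) ∈ Subgroup.center Sp43 := (QuotientGroup.eq_one_iff _).mp h
    rcases (cent_center_iff _).mp h1 with h2 | h2
    · exact t0_ne_one h2
    · exact t0_ne_neg h2

/-- Elements of `Stab3` commute with `t0`. -/
theorem stab_comm_t0 (g : Sp43) (hg : g ∈ Stab3) : g * t0 = t0 * g := by
  obtain ⟨x, hx⟩ := stabHom_surjective ⟨g, hg⟩
  have hgx : g = stabFun x := by
    have := congrArg Subtype.val hx
    exact this.symm
  subst hgx
  apply Subtype.ext
  show (stabFun x).1 * (t0 : Sp43).1 = (t0 : Sp43).1 * (stabFun x).1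
  rw [stabFun_coe, t0_coe', Matrix.fromBlocks_multiply, Matrix.fromBlocks_multiply]
  congr 1
  · ext i j
    fin_cases i <;> fin_cases j <;>
      simp only [Matrix.add_apply, Matrix.mul_apply, Fin.sum_univ_two] <;>
      simp [mA, mB, mC, mD, Matrix.one_apply] <;> ring
  · ext i j
    fin_cases i <;> fin_cases j <;>
      simp only [Matrix.add_apply, Matrix.mul_apply, Fin.sum_univ_two] <;>
      simp [mA, mB, mC, mD, Matrix.one_apply] <;> ring
  · ext i j
    fin_cases i <;> fin_cases j <;>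
      simp only [Matrix.add_apply, Matrix.mul_apply, Fin.sum_univ_two] <;>
      simp [mA, mB, mC, mD, Matrix.one_apply] <;> ring
  · ext i j
    fin_cases i <;> fin_cases j <;>
      simp only [Matrix.add_apply, Matrix.mul_apply, Fin.sum_univ_two] <;>
      simp [mA, mB, mC, mD, Matrix.one_apply] <;> ring

theorem neg_coe : (Cfsg.Agent.H6.spNegOne (Fin 2) (ZMod 3) : Sp43).1 = -1 := rfl

theorem neg_not_mem : Cfsg.Agent.H6.spNegOne (Fin 2) (ZMod 3) ∉ Stab3 := by
  intro h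
  rw [mem_Stab3, neg_coe] at h
  have h1 := congrFun h (Sum.inl 0)
  simp [e0] at h1
  revert h1
  decide

theorem neg_ne_one : Cfsg.Agent.H6.spNegOne (Fin 2) (ZMod 3) ≠ (1 : Sp43) := by
  intro h
  exact neg_not_mem (h ▸ Stab3.one_mem)

theorem neg_mem_center : Cfsg.Agent.H6.spNegOne (Fin 2) (ZMod 3) ∈ Subgroup.center Sp43 :=
  (cent_center_iff _).mpr (Or.inr rfl)

theorem neg_cube : (Cfsg.Agent.H6.spNegOne (Fin 2) (ZMod 3) : Sp43) ^ 3 =
    Cfsg.Agent.H6.spNegOne (Fin 2) (ZMod 3) := by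
  apply Subtype.ext
  show ((Cfsg.Agent.H6.spNegOne (Fin 2) (ZMod 3) : Sp43).1) ^ 3 = _
  rw [neg_coe]
  simp [pow_succ]

theorem zmod3_sq (x : ZMod 3) (h : x * x = 1) : x = 1 ∨ x = -1 := by
  revert x
  decide

/-- The map `Stab3 → C(c0)`. -/
def centHom : ↥Stab3 →* ↥(Subgroup.centralizer ({c0} : Set (Cfsg.PSp 2 (ZMod 3)))) :=
  MonoidHom.codRestrict ((QuotientGroup.mk' (Subgroup.center Sp43)).comp Stab3.subtype) _ (by
    intro g
    rw [Subgroup.mem_centralizer_iff]
    intro y hy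
    rw [Set.mem_singleton_iff] at hy
    rw [hy]
    show (QuotientGroup.mk (t0 : Sp43) : Cfsg.PSp 2 (ZMod 3)) * QuotientGroup.mk (g : Sp43) =
      QuotientGroup.mk (g : Sp43) * QuotientGroup.mk (t0 : Sp43)
    rw [← QuotientGroup.mk_mul, ← QuotientGroup.mk_mul, stab_comm_t0 g g.2])

theorem centHom_coe (g : ↥Stab3) :
    ((centHom g : ↥(Subgroup.centralizer ({c0} : Set (Cfsg.PSp 2 (ZMod 3))))) :
      Cfsg.PSp 2 (ZMod 3)) = QuotientGroup.mk (g : Sp43) := rfl

theorem centHom_injective : Function.Injective centHom := by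
  intro g g' h
  have h1 : (QuotientGroup.mk (g : Sp43) : Cfsg.PSp 2 (ZMod 3)) = QuotientGroup.mk (g' : Sp43) := by
    rw [← centHom_coe, ← centHom_coe, h]
  have h2 : (g : Sp43)⁻¹ * (g' : Sp43) ∈ Subgroup.center Sp43 := QuotientGroup.eq.mp h1
  have h3 : (g : Sp43)⁻¹ * (g' : Sp43) ∈ Stab3 := Stab3.mul_mem (Stab3.inv_mem g.2) g'.2
  rcases (cent_center_iff _).mp h2 with h4 | h4
  · apply Subtype.ext
    exact inv_mul_eq_one.mp h4
  · rw [h4] at h3
    exact absurd h3 neg_not_mem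

theorem centHom_surjective : Function.Surjective centHom := by
  rintro ⟨q, hq⟩
  obtain ⟨g, rfl⟩ := QuotientGroup.mk_surjective q
  rw [Subgroup.mem_centralizer_iff] at hq
  have hq' := hq c0 (Set.mem_singleton _)
  have hq2 : (QuotientGroup.mk (t0 * g : Sp43) : Cfsg.PSp 2 (ZMod 3)) =
      QuotientGroup.mk (g * t0 : Sp43) := by
    rw [QuotientGroup.mk_mul, QuotientGroup.mk_mul]
    exact hq'
  have h2 : (t0 * g : Sp43)⁻¹ * (g * t0) ∈ Subgroup.center Sp43 := QuotientGroup.eq.mp hq2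
  -- `g` commutes with `t0`
  have hcomm : g * t0 = t0 * g := by
    rcases (cent_center_iff _).mp h2 with h4 | h4
    · exact (inv_mul_eq_one.mp h4).symm
    · exfalso
      have hn := neg_mem_center
      have h5 : g * t0 = t0 * g * Cfsg.Agent.H6.spNegOne (Fin 2) (ZMod 3) := by
        rw [← h4]
        group
      have h6 : g * t0 * g⁻¹ = t0 * Cfsg.Agent.H6.spNegOne (Fin 2) (ZMod 3) := by
        rw [h5, mul_assoc t0 g, Subgroup.mem_center_iff.mp hn g]
        group
      have h7 : (g * t0 * g⁻¹) ^ 3 = 1 := by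
        rw [conj_pow, t0_cube]
        group
      have h8 : (t0 * Cfsg.Agent.H6.spNegOne (Fin 2) (ZMod 3)) ^ 3 =
          Cfsg.Agent.H6.spNegOne (Fin 2) (ZMod 3) := by
        have hc : Commute (t0 : Sp43) (Cfsg.Agent.H6.spNegOne (Fin 2) (ZMod 3)) :=
          Subgroup.mem_center_iff.mp hn t0
        rw [hc.mul_pow, t0_cube, neg_cube, one_mul]
      rw [h6, h8] at h7
      exact neg_ne_one h7
  -- the block form of `g`
  obtain ⟨M, hM⟩ := g
  obtain ⟨A, B, C, D, rfl⟩ : ∃ A B C D : Matrix (Fin 2) (Fin 2) (ZMod 3),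
      M = fromBlocks A B C D :=
    ⟨M.toBlocks₁₁, M.toBlocks₁₂, M.toBlocks₂₁, M.toBlocks₂₂, (Matrix.fromBlocks_toBlocks M).symm⟩
  have hM' := hM
  rw [SymplecticGroup.fromBlocks_mem_iff] at hM'
  obtain ⟨-, -, h3⟩ := hM'
  have hmat : fromBlocks A B C D * (t0 : Sp43).1 = (t0 : Sp43).1 * fromBlocks A B C D :=
    congrArg Subtype.val hcomm
  rw [t0_coe', Matrix.fromBlocks_multiply, Matrix.fromBlocks_multiply, Matrix.fromBlocks_inj]
    at hmat
  obtain ⟨-, e12, -, e22⟩ := hmat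
  have a10 := congrFun (congrFun e12 1) 0
  have a00 := congrFun (congrFun e12 0) 0
  have c00 := congrFun (congrFun e22 0) 0
  have c10 := congrFun (congrFun e22 1) 0
  simp only [Matrix.add_apply, Matrix.mul_apply, Fin.sum_univ_two] at a10 a00 c00 c10
  simp [Matrix.one_apply] at a10 a00 c00 c10
  have r := congrFun (congrFun h3 0) 0
  simp [Matrix.mul_apply, Fin.sum_univ_two, a10, c00, c10] at r
  have hsq : A 0 0 * A 0 0 = 1 := by
    have hAD : A 0 0 = D 0 0 := by linear_combination a00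
    rw [← hAD] at r
    exact r
  rcases zmod3_sq _ hsq with hl | hl
  · have hS : (⟨fromBlocks A B C D, hM⟩ : Sp43) ∈ Stab3 := by
      rw [mem_Stab3]
      ext i
      rcases i with i | i <;> fin_cases i <;>
        simp [e0, Matrix.mulVec, dotProduct, Fintype.sum_sum_type, Fin.sum_univ_two,
          Pi.single_apply, hl, a10, c00, c10]
    exact ⟨⟨_, hS⟩, Subtype.ext rfl⟩
  · have hS : Cfsg.Agent.H6.spNegOne (Fin 2) (ZMod 3) * (⟨fromBlocks A B C D, hM⟩ : Sp43) ∈
        Stab3 := by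
      rw [mem_Stab3]
      show ((Cfsg.Agent.H6.spNegOne (Fin 2) (ZMod 3) : Sp43).1 * fromBlocks A B C D) *ᵥ e0 = e0
      rw [neg_coe]
      ext i
      rcases i with i | i <;> fin_cases i <;>
        simp [e0, Matrix.mulVec, dotProduct, Fintype.sum_sum_type, Fin.sum_univ_two,
          Pi.single_apply, hl, a10, c00, c10]
    refine ⟨⟨_, hS⟩, Subtype.ext ?_⟩
    rw [centHom_coe]
    show (QuotientGroup.mk (Cfsg.Agent.H6.spNegOne (Fin 2) (ZMod 3) *
      (⟨fromBlocks A B C D, hM⟩ : Sp43)) : Cfsg.PSp 2 (ZMod 3)) = _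
    rw [QuotientGroup.mk_mul, (QuotientGroup.eq_one_iff _).mpr neg_mem_center, one_mul]

/-- **PC-CENT**. -/
theorem cent : StCent :=
  ⟨c0_order, ⟨MulEquiv.ofBijective centHom ⟨centHom_injective, centHom_surjective⟩⟩⟩

example : Cfsg.Agent.H83.PC.StCent := cent

end Cfsg.Agent.H53.PC
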