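import Mathlib
import Cfsg.Agent.H9.PGDefs

/-!
# S3662 piece PG-R1 (helper53 for helper9): additivity of the root elements `XG r`
-/

set_option autoImplicit false

namespace Cfsg.Agent.H53.PG

open Cfsg.Agent.H9.PG

set_option maxRecDepth 100000 in
theorem r1_fin : ∀ r : Fin 12, ∀ a b : K4, Xc r a * Xc r b = Xc r (a + b) := by decide +kernel

theorem r1 : StR1 := by
  intro r a b
  apply Units.ext
  show Xc r a * Xc r b = Xc r (a + b)
  rcases lt_or_ge r 12 with h | h
  · exact r1_fin ⟨r, h⟩ a b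
  · rw [Xc_ge r h, Xc_ge r h, Xc_ge r h, mul_one]

example : Cfsg.Agent.H9.PG.StR1 := r1

end Cfsg.Agent.H53.PG
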