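import Mathlib
import Cfsg.Agent.H9.PGDefs

/-!
# S3662 piece PG-R2 (helper53 for helper9), part A: Chevalley's commutator formula for the root elements
`Xc r`, first root `r ∈ {0, 1, 2}` (kernel evaluation over the field with four elements)
-/

set_option autoImplicit false

namespace Cfsg.Agent.H53.PG

open Cfsg Cfsg.Lie
open Cfsg.Agent.H9.PG

set_option maxRecDepth 100000 in
theorem r2_0 : ∀ s : Fin 12, (s : ℕ) ≠ 0 → (s : ℕ) ≠ chevG2.neg 0 → ∀ a b : K4,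
    Xc s b * Xc 0 a * Xc s b * Xc 0 a =
      ((chevG2.commTerms 0 s).map fun c => Xc c.1 ((c.2.1 : K4) * (-a) ^ c.2.2.1 * b ^ c.2.2.2)).prod := by
  decide +kernel

set_option maxRecDepth 100000 in
theorem r2_1 : ∀ s : Fin 12, (s : ℕ) ≠ 1 → (s : ℕ) ≠ chevG2.neg 1 → ∀ a b : K4,
    Xc s b * Xc 1 a * Xc s b * Xc 1 a =
      ((chevG2.commTerms 1 s).map fun c => Xc c.1 ((c.2.1 : K4) * (-a) ^ c.2.2.1 * b ^ c.2.2.2)).prod := by
  decide +kernel

set_option maxRecDepth 100000 in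
theorem r2_2 : ∀ s : Fin 12, (s : ℕ) ≠ 2 → (s : ℕ) ≠ chevG2.neg 2 → ∀ a b : K4,
    Xc s b * Xc 2 a * Xc s b * Xc 2 a =
      ((chevG2.commTerms 2 s).map fun c => Xc c.1 ((c.2.1 : K4) * (-a) ^ c.2.2.1 * b ^ c.2.2.2)).prod := by
  decide +kernel

end Cfsg.Agent.H53.PG
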