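import Mathlib
import Cfsg.Agent.H9.PGDefs
import Cfsg.Agent.H53.PGR2A
import Cfsg.Agent.H53.PGR2B
import Cfsg.Agent.H53.PGR2C
import Cfsg.Agent.H53.PGR2D

/-!
# S3662 piece PG-R2 (helper53 for helper9): Chevalley's commutator formula (R2) for the root elements `XG r`
with the constants of `chevG2` (assembled from the kernel evaluations in `PGR2A` … `PGR2D`)
-/

set_option autoImplicit false

namespace Cfsg.Agent.H53.PG

open Cfsg Cfsg.Lie
open Cfsg.Agent.H9.PG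

theorem XG_list_val (f : ℕ × ℤ × ℕ × ℕ → K4) (l : List (ℕ × ℤ × ℕ × ℕ)) :
    (((l.map fun c => XG c.1 (f c)).prod : GL (Fin 6) K4) : Matrix (Fin 6) (Fin 6) K4) =
      (l.map fun c => Xc c.1 (f c)).prod := by
  induction l with
  | nil => rfl
  | cons c l ih =>
    rw [List.map_cons, List.prod_cons, List.map_cons, List.prod_cons, Units.val_mul, ih]
    rfl

theorem r2 : StR2 := by
  intro r s hr hs hsr hneg a b
  apply Units.ext
  have key : Xc s b * Xc r a * Xc s b * Xc r a =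
      ((chevG2.commTerms r s).map fun c => Xc c.1 ((c.2.1 : K4) * (-a) ^ c.2.2.1 * b ^ c.2.2.2)).prod := by
    interval_cases r
    · exact r2_0 ⟨s, hs⟩ hsr hneg a b
    · exact r2_1 ⟨s, hs⟩ hsr hneg a b
    · exact r2_2 ⟨s, hs⟩ hsr hneg a b
    · exact r2_3 ⟨s, hs⟩ hsr hneg a b
    · exact r2_4 ⟨s, hs⟩ hsr hneg a b
    · exact r2_5 ⟨s, hs⟩ hsr hneg a b
    · exact r2_6 ⟨s, hs⟩ hsr hneg a b
    · exact r2_7 ⟨s, hs⟩ hsr hneg a b
    · exact r2_8 ⟨s, hs⟩ hsr hneg a b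
    · exact r2_9 ⟨s, hs⟩ hsr hneg a b
    · exact r2_10 ⟨s, hs⟩ hsr hneg a b
    · exact r2_11 ⟨s, hs⟩ hsr hneg a b
  have hL : (((XG s b)⁻¹ * (XG r a)⁻¹ * XG s b * XG r a : GL (Fin 6) K4) : Matrix (Fin 6) (Fin 6) K4) =
      Xc s b * Xc r a * Xc s b * Xc r a := rfl
  rw [hL, key]
  exact (XG_list_val (fun c => (c.2.1 : K4) * (-a) ^ c.2.2.1 * b ^ c.2.2.2) (chevG2.commTerms r s)).symm

example : Cfsg.Agent.H9.PG.StR2 := r2

end Cfsg.Agent.H53.PG
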