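import Mathlib
import Cfsg.Agent.H9.PGDefs

/-!
# S3662 piece PG-SYMP (helper53 for helper9): the root elements preserve the alternating form `Jm`
-/

set_option autoImplicit false

namespace Cfsg.Agent.H53.PG

open Cfsg.Agent.H9.PG
open scoped Matrix

set_option maxRecDepth 100000 in
theorem symp_fin : ∀ r : Fin 12, ∀ a : K4, (Xc r a)ᵀ * Jm * Xc r a = Jm := by decide +kernel

theorem symp : StSymp := by
  intro r a
  rcases lt_or_ge r 12 with h | h
  · exact symp_fin ⟨r, h⟩ a
  · rw [Xc_ge r h, Matrix.transpose_one, one_mul, mul_one]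

example : Cfsg.Agent.H9.PG.StSymp := symp

end Cfsg.Agent.H53.PG
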