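import Mathlib
import Cfsg.Prelude.Def_LocalStructure
import Cfsg.Agent.H53.PRed4
import Cfsg.Agent.H52.SubnormalQuot

set_option autoImplicit false

namespace Cfsg.Agent.H53

open Cfsg
open scoped commutatorElement Pointwise

theorem pow_conj_eq_of_commute_commutator {G : Type*} [Group G] {a x : G}
    (hcomm : Commute a (a * x * a⁻¹ * x⁻¹)) (k : ℕ) :
    a ^ k * x * (a ^ k)⁻¹ = (a * x * a⁻¹ * x⁻¹) ^ k * x := by
  induction k with
  | zero => simp
  | succ k ih =>
    have e1 : a ^ (k + 1) * x * (a ^ (k + 1))⁻¹ = a * (a ^ k * x * (a ^ k)⁻¹) * a⁻¹ := by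
      rw [pow_succ']; group
    rw [e1, ih]
    have e2 : a * ((a * x * a⁻¹ * x⁻¹) ^ k * x) * a⁻¹ =
        (a * (a * x * a⁻¹ * x⁻¹) ^ k) * (x * a⁻¹) := by group
    rw [e2, (hcomm.pow_right k).eq, pow_succ]
    group

/-- Thompson's `P × Q` lemma for an abelian `p`-group `U`, with `a` and `P` commuting modulo
`C(U)`. -/
theorem pq_mod_centralizer {p : ℕ} [Fact p.Prime] {H : Type*} [Group H] [Finite H]
    {U P : Subgroup H} {a : H} (hUab : ∀ u ∈ U, ∀ v ∈ U, u * v = v * u) (hUp : IsPGroup p ↥U)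
    (ha : a ∈ Subgroup.normalizer (U : Set H)) (hao : (orderOf a).Coprime p)
    (hP : IsPGroup p ↥P) (hPU : P ≤ Subgroup.normalizer (U : Set H))
    (hcomm : ∀ x ∈ P, a * x * a⁻¹ * x⁻¹ ∈ Subgroup.centralizer (U : Set H))
    (hfix : ∀ u ∈ U, (∀ x ∈ P, x * u = u * x) → a * u = u * a) :
    a ∈ Subgroup.centralizer (U : Set H) := by
  have hcU : ∀ u ∈ U, a * u * a⁻¹ ∈ U := fun u hu => conj_mem_of_mem_normalizer ha hu
  let W : Subgroup H :=
    { carrier := {z | ∃ u ∈ U, z = a * u * a⁻¹ * u⁻¹}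
      one_mem' := ⟨1, U.one_mem, by simp⟩
      mul_mem' := by
        rintro _ _ ⟨u, hu, rfl⟩ ⟨v, hv, rfl⟩
        refine ⟨u * v, U.mul_mem hu hv, ?_⟩
        have h1 := hUab u⁻¹ (U.inv_mem hu) (a * v * a⁻¹) (hcU v hv)
        have h2 := hUab u hu v hv
        calc a * u * a⁻¹ * u⁻¹ * (a * v * a⁻¹ * v⁻¹)
            = a * u * a⁻¹ * (u⁻¹ * (a * v * a⁻¹)) * v⁻¹ := by group
          _ = a * u * a⁻¹ * ((a * v * a⁻¹) * u⁻¹) * v⁻¹ := by rw [h1]
          _ = a * (u * v) * a⁻¹ * (v * u)⁻¹ := by group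
          _ = a * (u * v) * a⁻¹ * (u * v)⁻¹ := by rw [← h2]
      inv_mem' := by
        rintro _ ⟨u, hu, rfl⟩
        refine ⟨u⁻¹, U.inv_mem hu, ?_⟩
        have h1 := hUab u hu (a * u⁻¹ * a⁻¹) (hcU _ (U.inv_mem hu))
        calc (a * u * a⁻¹ * u⁻¹)⁻¹ = u * (a * u⁻¹ * a⁻¹) := by group
          _ = (a * u⁻¹ * a⁻¹) * u := h1
          _ = a * u⁻¹ * a⁻¹ * u⁻¹⁻¹ := by group }
  have hWU : W ≤ U := by
    rintro _ ⟨u, hu, rfl⟩
    exact U.mul_mem (hcU u hu) (U.inv_mem hu)
  have hPW : P ≤ Subgroup.normalizer (W : Set H) := by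
    intro x hx
    rw [mem_normalizer_iff_cj]
    apply cj_eq_self_of_le_of_card
    rintro _ ⟨_, ⟨u, hu, rfl⟩, rfl⟩
    simp only [MulEquiv.coe_toMonoidHom, MulAut.conj_apply]
    refine ⟨x * u * x⁻¹, conj_mem_of_mem_normalizer (hPU hx) hu, ?_⟩
    have hw : x * (a * u * a⁻¹) * x⁻¹ ∈ U := conj_mem_of_mem_normalizer (hPU hx) (hcU u hu)
    have hc := (Subgroup.mem_centralizer_iff.mp (hcomm x hx)) _ hw
    calc x * (a * u * a⁻¹ * u⁻¹) * x⁻¹
        = (x * (a * u * a⁻¹) * x⁻¹) * (a * x * a⁻¹ * x⁻¹) * (a * x * a⁻¹ * x⁻¹)⁻¹ *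
            (x * u⁻¹ * x⁻¹) := by group
      _ = (a * x * a⁻¹ * x⁻¹) * (x * (a * u * a⁻¹) * x⁻¹) * (a * x * a⁻¹ * x⁻¹)⁻¹ *
            (x * u⁻¹ * x⁻¹) := by rw [hc]
      _ = a * (x * u * x⁻¹) * a⁻¹ * (x * u * x⁻¹)⁻¹ := by group
  by_cases hW1 : W = ⊥
  · rw [Subgroup.mem_centralizer_iff]
    intro u hu
    have h1 : a * u * a⁻¹ * u⁻¹ ∈ W := ⟨u, hu, rfl⟩
    rw [hW1, Subgroup.mem_bot] at h1
    have e : u * a = (a * u * a⁻¹ * u⁻¹)⁻¹ * (a * u) := by group
    rw [e, h1]; simp
  · exfalso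
    obtain ⟨z, hzW, hz1, hzc⟩ := exists_fixed_of_le_normalizer (hUp.to_le hWU) hP hW1 hPW
    obtain ⟨u, hu, rfl⟩ := hzW
    have hzU : a * u * a⁻¹ * u⁻¹ ∈ U := hWU ⟨u, hu, rfl⟩
    have hza : Commute a (a * u * a⁻¹ * u⁻¹) :=
      hfix _ hzU (fun x hx => hzc x (Subgroup.mem_sup_left hx))
    obtain ⟨k, hk⟩ := hUp ⟨_, hzU⟩
    have hk' : (a * u * a⁻¹ * u⁻¹) ^ p ^ k = 1 := by
      have := congrArg Subtype.val hk
      rwa [Subgroup.coe_pow] at this
    have hcm := commute_of_coprime_of_commute_commutator (pow_orderOf_eq_one a) hk'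
      (Nat.Coprime.pow_right k hao) hza
    apply hz1
    have h2 : a * u = u * a := hcm
    rw [h2]; group

/-! ### Conjugation invariance of `Y_L` -/

theorem PRedIn.cj {H : Type*} [Group H] {p : ℕ} {L V : Subgroup H} (h : PRedIn p L V) (k : H) :
    PRedIn p cj(k, L) cj(k, V) := by
  intro D hDL hLD hDp
  have h1 : cj(k⁻¹, D) ≤ L := by rw [cj_le_iff, inv_inv]; exact hDL
  have h2 : L ≤ Subgroup.normalizer ((cj(k⁻¹, D) : Subgroup H) : Set H) := by
    rw [← cj_normalizer, ← cj_le_iff]; exact hLD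
  have h3 := h cj(k⁻¹, D) h1 h2 (by
    rintro _ ⟨d, hd, rfl⟩
    obtain ⟨m, hm⟩ := hDp d hd
    refine ⟨m, ?_⟩
    rw [← cj_centralizer] at hm
    have := mem_cj.mp hm
    simp only [MulEquiv.coe_toMonoidHom, MulAut.conj_apply]
    rw [conj_pow, inv_inv]
    exact this)
  have h4 := cj_le_iff.mp h3
  rw [inv_inv, cj_centralizer] at h4
  exact h4

theorem cj_largestPReducedOf_le {H : Type*} [Group H] {p : ℕ} (k : H) (L : Subgroup H) :
    cj(k, (largestPReducedOf p L)) ≤ largestPReducedOf p cj(k, L) := by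
  apply le_largestPReducedOf (cj_mono k (largestPReducedOf_le p L))
  · rw [← cj_normalizer]; exact cj_mono k (le_normalizer_largestPReducedOf p L)
  · exact isElementaryAbelian_map _ (largestPReducedOf_isElementaryAbelian p L)
  · exact (pRedIn_largestPReducedOf p L).cj k

theorem le_normalizer_largestPReducedOf_of_le_normalizer {H : Type*} [Group H] [Finite H] {p : ℕ}
    {K L : Subgroup H} (h : K ≤ Subgroup.normalizer (L : Set H)) :
    K ≤ Subgroup.normalizer ((largestPReducedOf p L : Subgroup H) : Set H) := by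
  intro k hk
  rw [mem_normalizer_iff_cj]
  apply cj_eq_self_of_le_of_card
  have := cj_largestPReducedOf_le (p := p) k L
  rwa [cj_of_mem_normalizer (h hk)] at this

/-- For `L ⊴ K`: `C_L(Y_K ∩ L) ≤ C_L(Y_L)`. -/
theorem inf_centralizer_le_centralizer_largestPReducedOf {p : ℕ} [Fact p.Prime] {H : Type*}
    [Group H] [Finite H] {K L : Subgroup H} (hLK : L ≤ K)
    (hKL : K ≤ Subgroup.normalizer (L : Set H)) :
    L ⊓ Subgroup.centralizer ((largestPReducedOf p K ⊓ L : Subgroup H) : Set H) ≤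
      Subgroup.centralizer (largestPReducedOf p L : Set H) := by
  have hUel := isElementaryAbelian_iff.mp (largestPReducedOf_isElementaryAbelian p L)
  have hUp : IsPGroup p ↥(largestPReducedOf p L) :=
    isPGroup_of_isElementaryAbelian (largestPReducedOf_isElementaryAbelian p L)
  have hUL := largestPReducedOf_le p L
  have hKU := le_normalizer_largestPReducedOf_of_le_normalizer (p := p) hKL
  have hPL := pRedIn_largestPReducedOf p L
  have hLY₀ : L ≤ Subgroup.normalizer ((largestPReducedOf p K ⊓ L : Subgroup H) : Set H) :=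
    le_normalizer_inf' (hLK.trans (le_normalizer_largestPReducedOf p K)) Subgroup.le_normalizer
  have claimA : ∀ n : ℕ, ∀ U' : Subgroup H, U' ≤ largestPReducedOf p L →
      K ≤ Subgroup.normalizer (U' : Set H) → Nat.card ↥U' ≤ n →
      (∀ a' ∈ L, (orderOf a').Coprime p → a' ∈ Subgroup.centralizer (U' : Set H) →
        a' ∈ Subgroup.centralizer (largestPReducedOf p L : Set H)) →
      ∀ a ∈ L ⊓ Subgroup.centralizer ((largestPReducedOf p K ⊓ L : Subgroup H) : Set H),
        (orderOf a).Coprime p → a ∈ Subgroup.centralizer (largestPReducedOf p L : Set H) := by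
    intro n
    induction n using Nat.strong_induction_on with
    | _ n ih =>
      intro U' hU'U hKU' hcard hgood a ha hao
      by_cases hred : PRedIn p K U'
      · have h1 : U' ≤ largestPReducedOf p K :=
          le_largestPReducedOf (hU'U.trans (hUL.trans hLK)) hKU'
            (isElementaryAbelian_of_le hU'U (largestPReducedOf_isElementaryAbelian p L)) hred
        have h2 : U' ≤ largestPReducedOf p K ⊓ L := le_inf h1 (hU'U.trans hUL)
        exact hgood a ha.1 hao (Subgroup.centralizer_le (by exact_mod_cast h2) ha.2)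
      · unfold PRedIn at hred
        push_neg at hred
        obtain ⟨D, hDK, hKD, hDp, hDn⟩ := hred
        have hJ : D ⊓ L ≤ Subgroup.centralizer (largestPReducedOf p L : Set H) := by
          apply hPL (D ⊓ L) inf_le_right
            (le_normalizer_inf' (hLK.trans hKD) Subgroup.le_normalizer)
          intro j hj
          obtain ⟨k₁, hk₁⟩ := hDp j hj.1
          obtain ⟨k₂, hk₂⟩ := Cfsg.Agent.H52.exists_pow_coprime (p := p) j
          refine ⟨k₁ + k₂, ?_⟩
          have e1 : j ^ p ^ (k₁ + k₂) = (j ^ p ^ k₁) ^ p ^ k₂ := by rw [pow_add, pow_mul]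
          have e2 : j ^ p ^ (k₁ + k₂) = (j ^ p ^ k₂) ^ p ^ k₁ := by
            rw [pow_add, mul_comm, pow_mul]
          apply hgood _ (L.pow_mem hj.2 _)
          · rw [e2]
            exact Nat.Coprime.coprime_dvd_left (orderOf_pow_dvd _) hk₂
          · rw [e1]; exact Subgroup.pow_mem _ hk₁ _
        obtain ⟨P, hPp, -, hPD, hPdec⟩ := exists_sylow_supplement (p := p) (K := D)
          (O := Subgroup.centralizer (U' : Set H)) (A := ⊥) IsPGroup.of_bot bot_le hDp
        have hU''lt : U' ⊓ Subgroup.centralizer (D : Set H) < U' := by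
          refine lt_of_le_of_ne inf_le_left (fun heq => hDn ?_)
          rw [Subgroup.le_centralizer_iff]
          exact heq.symm.le.trans inf_le_right
        have hKU'' : K ≤ Subgroup.normalizer
            ((U' ⊓ Subgroup.centralizer (D : Set H) : Subgroup H) : Set H) :=
          le_normalizer_inf' hKU' (hKD.trans (normalizer_le_normalizer_centralizer D))
        have hcard'' := card_lt_of_lt hU''lt
        refine ih (Nat.card ↥(U' ⊓ Subgroup.centralizer (D : Set H)))
          (lt_of_lt_of_le hcard'' hcard) _ (inf_le_left.trans hU'U) hKU'' le_rfl ?_ a ha hao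
        intro a' ha'L ha'o ha'c
        apply hgood a' ha'L ha'o
        have hU'ab : ∀ u ∈ U', ∀ v ∈ U', u * v = v * u :=
          fun u hu v hv => hUel.1 u (hU'U hu) v (hU'U hv)
        apply pq_mod_centralizer hU'ab (hUp.to_le hU'U) (hKU' (hLK ha'L)) ha'o hPp
          (hPD.trans (hDK.trans hKU'))
        · intro x hx
          have hxD := hPD hx
          have hxK := hDK hxD
          have h1 : a' * x * a'⁻¹ * x⁻¹ ∈ D := by
            have := conj_mem_of_mem_normalizer (hKD (hLK ha'L)) hxD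
            exact D.mul_mem this (D.inv_mem hxD)
          have h2 : a' * x * a'⁻¹ * x⁻¹ ∈ L := by
            have := conj_mem_of_mem_normalizer (hKL hxK) (L.inv_mem ha'L)
            have e : a' * x * a'⁻¹ * x⁻¹ = a' * (x * a'⁻¹ * x⁻¹) := by group
            rw [e]; exact L.mul_mem ha'L this
          exact Subgroup.centralizer_le (by exact_mod_cast hU'U) (hJ ⟨h1, h2⟩)
        · intro u hu hux
          have huD : u ∈ Subgroup.centralizer (D : Set H) := by
            rw [Subgroup.mem_centralizer_iff]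
            intro g hg
            obtain ⟨t, ht, r, hr, rfl⟩ := hPdec g hg
            have h1 := hux t ht
            have h2 := (Subgroup.mem_centralizer_iff.mp hr) u hu
            calc t * r * u = t * (r * u) := by group
              _ = t * (u * r) := by rw [h2]
              _ = (t * u) * r := by group
              _ = (u * t) * r := by rw [h1]
              _ = u * (t * r) := by group
          have := (Subgroup.mem_centralizer_iff.mp ha'c) u ⟨hu, huD⟩
          exact this.symm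
  apply hPL _ inf_le_left (le_normalizer_inf' Subgroup.le_normalizer
    (hLY₀.trans (normalizer_le_normalizer_centralizer _)))
  intro d hd
  obtain ⟨k, hk⟩ := Cfsg.Agent.H52.exists_pow_coprime (p := p) d
  exact ⟨k, claimA _ _ le_rfl hKU le_rfl (fun a' _ _ h => h) _ (Subgroup.pow_mem _ hd _) hk⟩

end Cfsg.Agent.H53
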