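import Mathlib
import Cfsg.Prelude.Def_LocalStructure
import Cfsg.Agent.H53.PRed5

set_option autoImplicit false

namespace Cfsg.Agent.H53

open Cfsg
open scoped commutatorElement Pointwise

theorem isPReducedNormal_of_pRedIn_top {p : ℕ} {H : Type*} [Group H] {V : Subgroup H}
    (hn : V.Normal) (hel : IsElementaryAbelian p V) (h : PRedIn p ⊤ V) : IsPReducedNormal p V := by
  refine ⟨hn, hel, inferInstance, ?_⟩
  rw [pCore_quotient_eq_bot_iff]
  intro D hD hDp
  exact h D le_top (by rw [Subgroup.normalizer_eq_top_iff.mpr hD]) hDp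

theorem largestPReducedOf_top_le (p : ℕ) (H : Type*) [Group H] :
    largestPReducedOf p (⊤ : Subgroup H) ≤ largestPReduced p H := by
  apply le_largestPReduced
  apply isPReducedNormal_of_pRedIn_top
  · exact Subgroup.normalizer_eq_top_iff.mp (top_le_iff.mp (le_normalizer_largestPReducedOf p ⊤))
  · exact largestPReducedOf_isElementaryAbelian p ⊤
  · exact pRedIn_largestPReducedOf p ⊤

/-- A subnormal subgroup `D ≤ L` (`L` subnormal) acting as a `p`-group on `Y_H ∩ L`
centralizes `Y_H`. -/
theorem subnormal_le_centralizer_largestPReduced {p : ℕ} [Fact p.Prime] {H : Type*} [Group H]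
    [Finite H] {L : Subgroup H} (hL : L.IsSubnormal) :
    ∀ D : Subgroup H, D.IsSubnormal → D ≤ L →
      (∀ d ∈ D, ∃ k : ℕ, d ^ p ^ k ∈
        Subgroup.centralizer ((largestPReduced p H ⊓ L : Subgroup H) : Set H)) →
      D ≤ Subgroup.centralizer (largestPReduced p H : Set H) := by
  induction hL with
  | top =>
    intro D hD _ hDp
    obtain ⟨_, _, hCn, hcore⟩ := largestPReduced_isPReducedNormal p H
    refine Cfsg.Agent.H52.subnormal_le_of_pow_mem hcore hD ?_
    intro d hd
    obtain ⟨k, hk⟩ := hDp d hd
    rw [inf_top_eq] at hk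
    exact ⟨k, hk⟩
  | step L K hLK hK hN ih =>
    intro D hD hDL hDp
    have hKL : K ≤ Subgroup.normalizer (L : Set H) :=
      (Subgroup.normal_subgroupOf_iff_le_normalizer hLK).mp hN
    have hYn := largestPReduced_normal p H
    have hYel := isElementaryAbelian_iff.mp (largestPReduced_isElementaryAbelian p H)
    apply ih D hD (hDL.trans hLK)
    intro d hd
    obtain ⟨k, hk⟩ := hDp d hd
    refine ⟨k + 1, ?_⟩
    have heL : d ^ p ^ k ∈ L := L.pow_mem (hDL hd) _
    have e : d ^ p ^ (k + 1) = (d ^ p ^ k) ^ p := by rw [pow_succ, pow_mul]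
    rw [e, Subgroup.mem_centralizer_iff]
    intro w hw
    obtain ⟨hwY, hwK⟩ := Subgroup.mem_inf.mp hw
    have hzY : d ^ p ^ k * w * (d ^ p ^ k)⁻¹ * w⁻¹ ∈ largestPReduced p H :=
      Subgroup.mul_mem _ (hYn.conj_mem w hwY _) (Subgroup.inv_mem _ hwY)
    have hzL : d ^ p ^ k * w * (d ^ p ^ k)⁻¹ * w⁻¹ ∈ L := by
      have := conj_mem_of_mem_normalizer (hKL hwK) (L.inv_mem heL)
      have e' : d ^ p ^ k * w * (d ^ p ^ k)⁻¹ * w⁻¹ =
          d ^ p ^ k * (w * (d ^ p ^ k)⁻¹ * w⁻¹) := by group
      rw [e']; exact L.mul_mem heL this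
    have hcomm : Commute (d ^ p ^ k) (d ^ p ^ k * w * (d ^ p ^ k)⁻¹ * w⁻¹) :=
      ((Subgroup.mem_centralizer_iff.mp hk) _ (Subgroup.mem_inf.mpr ⟨hzY, hzL⟩)).symm
    have h1 := pow_conj_eq_of_commute_commutator hcomm p
    rw [hYel.2 _ hzY, one_mul] at h1
    calc w * (d ^ p ^ k) ^ p = ((d ^ p ^ k) ^ p * w * ((d ^ p ^ k) ^ p)⁻¹) * (d ^ p ^ k) ^ p := by
          rw [h1]
      _ = (d ^ p ^ k) ^ p * w := by group

/-- For `L` subnormal, `C_L(Y_H) ≤ C_L(Y_L)`. -/
theorem subnormal_inf_centralizer_le {p : ℕ} [Fact p.Prime] {H : Type*} [Group H] [Finite H]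
    {L : Subgroup H} (hL : L.IsSubnormal) :
    L ⊓ Subgroup.centralizer (largestPReduced p H : Set H) ≤
      Subgroup.centralizer (largestPReducedOf p L : Set H) := by
  induction hL with
  | top =>
    exact inf_le_right.trans
      (Subgroup.centralizer_le (by exact_mod_cast largestPReducedOf_top_le p H))
  | step L K hLK hK hN ih =>
    have hKL : K ≤ Subgroup.normalizer (L : Set H) :=
      (Subgroup.normal_subgroupOf_iff_le_normalizer hLK).mp hN
    refine le_trans ?_ (inf_centralizer_le_centralizer_largestPReducedOf hLK hKL)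
    refine le_inf inf_le_left ?_
    have h1 : L ⊓ Subgroup.centralizer (largestPReduced p H : Set H) ≤
        Subgroup.centralizer (largestPReducedOf p K : Set H) :=
      le_trans (inf_le_inf_right _ hLK) ih
    exact h1.trans (Subgroup.centralizer_le
      (by exact_mod_cast (inf_le_left : largestPReducedOf p K ⊓ L ≤ largestPReducedOf p K)))

theorem pReduced_meet_subnormal {H : Type*} [Group H] [Finite H] {p : ℕ} [Fact p.Prime]
    (L : Subgroup H) (hL : L.IsSubnormal) :
    largestPReduced p H ⊓ L = largestPReduced p H ⊓ largestPReducedOf p L ∧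
    IsPReducedNormal p ((largestPReduced p H ⊓ L).subgroupOf L) ∧
    L ⊓ Subgroup.centralizer ((largestPReducedOf p L : Subgroup H) : Set H) =
      L ⊓ Subgroup.centralizer (largestPReduced p H : Set H) ∧
    L ⊓ Subgroup.centralizer (largestPReduced p H : Set H) =
      L ⊓ Subgroup.centralizer ((largestPReduced p H ⊓ L : Subgroup H) : Set H) ∧
    (pResidual p H ≤ L →
      (⁅largestPReducedOf p L, L⁆ = ⊥ ↔ ⁅largestPReduced p H, (⊤ : Subgroup H)⁆ = ⊥)) := by
  have hYn := largestPReduced_normal p H
  have I1 := subnormal_le_centralizer_largestPReduced (p := p) hL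
  have I2 := subnormal_inf_centralizer_le (p := p) hL
  have hLW : L ≤ Subgroup.normalizer ((largestPReduced p H ⊓ L : Subgroup H) : Set H) :=
    le_normalizer_inf' (by rw [Subgroup.normalizer_eq_top_iff.mpr hYn]; exact le_top)
      Subgroup.le_normalizer
  have h4 : L ⊓ Subgroup.centralizer ((largestPReduced p H ⊓ L : Subgroup H) : Set H) ≤
      Subgroup.centralizer (largestPReduced p H : Set H) := by
    have hLD : L ≤ Subgroup.normalizer ((L ⊓ Subgroup.centralizer
        ((largestPReduced p H ⊓ L : Subgroup H) : Set H) : Subgroup H) : Set H) :=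
      le_normalizer_inf' Subgroup.le_normalizer
        (hLW.trans (normalizer_le_normalizer_centralizer _))
    have hDsn : (L ⊓ Subgroup.centralizer
        ((largestPReduced p H ⊓ L : Subgroup H) : Set H)).IsSubnormal := by
      apply Subgroup.IsSubnormal.trans inf_le_left _ hL
      exact ((Subgroup.normal_subgroupOf_iff_le_normalizer inf_le_left).mpr hLD).isSubnormal
    apply I1 _ hDsn inf_le_left
    intro d hd
    exact ⟨0, by simpa using hd.2⟩
  have hWL : largestPReduced p H ⊓ L ≤ L := inf_le_right
  have hmap : ((largestPReduced p H ⊓ L).subgroupOf L).map L.subtype = largestPReduced p H ⊓ L :=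
    Subgroup.map_subgroupOf_eq_of_le hWL
  have h2 : IsPReducedNormal p ((largestPReduced p H ⊓ L).subgroupOf L) := by
    have hn : ((largestPReduced p H ⊓ L).subgroupOf L).Normal :=
      (Subgroup.normal_subgroupOf_iff_le_normalizer hWL).mpr hLW
    refine ⟨hn, isElementaryAbelian_subgroupOf L (isElementaryAbelian_of_le inf_le_left
      (largestPReduced_isElementaryAbelian p H)), inferInstance, ?_⟩
    rw [pCore_quotient_eq_bot_iff]
    intro D hD hDp
    have hDsn : (D.map L.subtype).IsSubnormal := Subgroup.IsSubnormal.trans' hD.isSubnormal hL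
    have h := I1 (D.map L.subtype) hDsn (Subgroup.map_subtype_le _) (by
      rintro _ ⟨d, hd, rfl⟩
      obtain ⟨k, hk⟩ := hDp d hd
      refine ⟨k, ?_⟩
      have := (mem_centralizer_subtype_iff _ _).mp hk
      rw [hmap, Subgroup.coe_pow] at this
      exact this)
    intro d hd
    rw [mem_centralizer_subtype_iff, hmap]
    exact Subgroup.centralizer_le
      (by exact_mod_cast (inf_le_left : largestPReduced p H ⊓ L ≤ largestPReduced p H))
      (h ⟨d, hd, rfl⟩)
  have hW : largestPReduced p H ⊓ L ≤ largestPReducedOf p L := by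
    have := Subgroup.map_mono (f := L.subtype) (le_largestPReduced h2)
    rwa [hmap] at this
  have h3 : L ⊓ Subgroup.centralizer ((largestPReducedOf p L : Subgroup H) : Set H) =
      L ⊓ Subgroup.centralizer (largestPReduced p H : Set H) := by
    apply le_antisymm
    · refine le_inf inf_le_left ?_
      refine le_trans ?_ h4
      exact inf_le_inf_left _ (Subgroup.centralizer_le (by exact_mod_cast hW))
    · exact le_inf inf_le_left I2
  have h4' : L ⊓ Subgroup.centralizer (largestPReduced p H : Set H) =
      L ⊓ Subgroup.centralizer ((largestPReduced p H ⊓ L : Subgroup H) : Set H) := by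
    apply le_antisymm
    · exact inf_le_inf_left _ (Subgroup.centralizer_le
        (by exact_mod_cast (inf_le_left : largestPReduced p H ⊓ L ≤ largestPReduced p H)))
    · exact le_inf inf_le_left h4
  refine ⟨?_, h2, h3, h4', ?_⟩
  · apply le_antisymm
    · exact le_inf inf_le_left hW
    · exact le_inf inf_le_left (inf_le_right.trans (largestPReducedOf_le p L))
  · intro hres
    constructor
    · intro h
      have h5 : L ≤ Subgroup.centralizer ((largestPReducedOf p L : Subgroup H) : Set H) := by
        rw [Subgroup.le_centralizer_iff]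
        exact Subgroup.commutator_eq_bot_iff_le_centralizer.mp h
      have h6 : L ≤ Subgroup.centralizer (largestPReduced p H : Set H) := by
        have : L ≤ L ⊓ Subgroup.centralizer ((largestPReducedOf p L : Subgroup H) : Set H) :=
          le_inf le_rfl h5
        rw [h3] at this
        exact this.trans inf_le_right
      have h7 : (⊤ : Subgroup H) ≤ Subgroup.centralizer (largestPReduced p H : Set H) := by
        obtain ⟨_, _, hCn, hcore⟩ := largestPReduced_isPReducedNormal p H
        refine (pCore_quotient_eq_bot_iff _).mp hcore ⊤ inferInstance (fun d _ => ?_)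
        obtain ⟨k, hk⟩ := exists_pow_mem_pResidual (p := p) d
        exact ⟨k, h6 (hres hk)⟩
      rw [Subgroup.commutator_eq_bot_iff_le_centralizer, Subgroup.le_centralizer_iff]
      exact h7
    · intro h
      have h7 : (⊤ : Subgroup H) ≤ Subgroup.centralizer (largestPReduced p H : Set H) := by
        rw [Subgroup.le_centralizer_iff]
        exact Subgroup.commutator_eq_bot_iff_le_centralizer.mp h
      have h5 : L ≤ L ⊓ Subgroup.centralizer (largestPReduced p H : Set H) :=
        le_inf le_rfl (le_top.trans h7)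
      rw [← h3] at h5
      rw [Subgroup.commutator_eq_bot_iff_le_centralizer, Subgroup.le_centralizer_iff]
      exact h5.trans inf_le_right

end Cfsg.Agent.H53
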