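import Cfsg.Agent.H53.Min2

set_option autoImplicit false
open Cfsg

namespace Cfsg.Agent.H53

/-- Stabilizer of a relation on pairs of subgroups under simultaneous conjugation. -/
def stabPairs {H : Type*} [Group H] (Δ : Subgroup H → Subgroup H → Prop) : Subgroup H where
  carrier := {h | ∀ A M, Δ A M ↔ Δ (cj(h, A)) (cj(h, M))}
  one_mem' := by
    intro A M
    rw [cj_one, cj_one]
  mul_mem' := by
    intro a b ha hb A M
    rw [← cj_cj, ← cj_cj]
    exact (hb A M).trans (ha _ _)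
  inv_mem' := by
    intro a ha A M
    have h1 := ha (cj(a⁻¹, A)) (cj(a⁻¹, M))
    rw [cj_cj_inv, cj_cj_inv] at h1
    exact h1.symm

theorem mem_stabPairs {H : Type*} [Group H] (Δ : Subgroup H → Subgroup H → Prop) (h : H) :
    h ∈ stabPairs Δ ↔ ∀ A M, Δ A M ↔ Δ (cj(h, A)) (cj(h, M)) := Iff.rfl

/-- A subset `S` closed under inverses all of whose elements map `Δ` into itself lies in the
stabilizer. -/
theorem mem_stabPairs_of_forall {H : Type*} [Group H] (Δ : Subgroup H → Subgroup H → Prop)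
    (S : Subgroup H) (hS : ∀ x ∈ S, ∀ A M, Δ A M → Δ (cj(x, A)) (cj(x, M))) :
    S ≤ stabPairs Δ := by
  intro x hx
  rw [mem_stabPairs]
  intro A M
  refine ⟨hS x hx A M, fun h => ?_⟩
  have h1 := hS x⁻¹ (S.inv_mem hx) _ _ h
  rwa [cj_inv_cj, cj_inv_cj] at h1

/-- Abstract uniqueness lemma: if `A` is normalized by the normal subgroup `R` with `H = R T`, `M` is
the unique maximal subgroup of `A` over `T ∩ A` and is not normal in `A`, and no proper subgroup over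
`T` contains `A`, then all proper subgroups over `T` lie in a single proper subgroup. -/
theorem exists_proper_ge {H : Type*} [Group H] [Finite H] (T R A M : Subgroup H)
    (hRn : R.Normal) (hRT : R ⊔ T = ⊤) (hRA : R ≤ Subgroup.normalizer (A : Set H))
    (hSM : T ⊓ A ≤ M) (hMA : M ≤ A) (hMne : M ≠ A)
    (hmax : ∀ Y : Subgroup H, T ⊓ A ≤ Y → Y ≤ A → Y ≠ A → Y ≤ M)
    (hAM : ¬ A ≤ Subgroup.normalizer (M : Set H))
    (hgen : ∀ P : Subgroup H, T ≤ P → A ≤ P → P = ⊤) :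
    ∃ Ms : Subgroup H, Ms ≠ ⊤ ∧ ∀ P : Subgroup H, T ≤ P → P ≠ ⊤ → P ≤ Ms := by
  have key : ∀ y : H, cj(y, A) = A → T ⊓ A ≤ cj(y, M) → cj(y, M) = M := by
    intro y hyA hle
    apply cj_eq_self_of_le_of_card
    apply hmax _ hle
    · rw [← hyA]
      exact cj_mono y hMA
    · intro h
      apply hMne
      rw [← hyA] at h
      exact Subgroup.map_injective (MulAut.conj y).injective h
  obtain ⟨Δ, hΔ⟩ : ∃ Δ : Subgroup H → Subgroup H → Prop,
      Δ = fun A' M' => ∃ t ∈ T, A' = cj(t, A) ∧ M' = cj(t, M) := ⟨_, rfl⟩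
  have hΔ0 : Δ A M := by
    rw [hΔ]
    exact ⟨1, T.one_mem, (cj_one A).symm, (cj_one M).symm⟩
  refine ⟨stabPairs Δ, ?_, ?_⟩
  · intro htop
    apply hAM
    intro e he
    rw [mem_normalizer_iff_cj]
    have hmem : e ∈ stabPairs Δ := by
      rw [htop]
      trivial
    have h0 := ((mem_stabPairs Δ e).mp hmem A M).mp hΔ0
    rw [hΔ] at h0
    obtain ⟨t, ht, h1, h2⟩ := h0
    rw [cj_eq_of_mem he] at h1
    rw [h2]
    apply key t h1.symm
    calc T ⊓ A = cj(t, T) ⊓ cj(t, A) := by rw [cj_eq_of_mem ht, ← h1]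
      _ = cj(t, (T ⊓ A)) := (cj_inf t T A).symm
      _ ≤ cj(t, M) := cj_mono t hSM
  · intro P hTP hPne
    have hPA : P ⊓ A ≤ M := by
      apply hmax _ (inf_le_inf_right A hTP) inf_le_right
      intro h
      exact hPne (hgen P hTP (inf_eq_right.mp h))
    have sub : ∀ y ∈ P ⊓ R, cj(y, A) = A ∧ cj(y, M) = M := by
      intro y hy
      have hyA : cj(y, A) = A := cj_of_mem_normalizer (hRA hy.2)
      refine ⟨hyA, key y hyA ?_⟩
      have h1 : cj(y⁻¹, (T ⊓ A)) ≤ M := by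
        refine le_trans ?_ hPA
        refine le_trans (cj_mono y⁻¹ (inf_le_inf_right A hTP)) ?_
        rw [cj_inf, cj_eq_of_mem (P.inv_mem hy.1)]
        have hyA' : cj(y⁻¹, A) = A :=
          cj_of_mem_normalizer (Subgroup.inv_mem _ (hRA hy.2))
        rw [hyA']
      have h2 := cj_le_iff.mp h1
      rwa [inv_inv] at h2
    have hTs : T ≤ stabPairs Δ := by
      apply mem_stabPairs_of_forall
      intro t₁ ht₁ A' M' hAM'
      rw [hΔ] at hAM' ⊢
      obtain ⟨t, ht, rfl, rfl⟩ := hAM'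
      exact ⟨t₁ * t, T.mul_mem ht₁ ht, cj_cj t₁ t A, cj_cj t₁ t M⟩
    have hPRs : P ⊓ R ≤ stabPairs Δ := by
      apply mem_stabPairs_of_forall
      intro x hx A' M' hAM'
      have hAM'' := hAM'
      rw [hΔ] at hAM'
      obtain ⟨t, ht, rfl, rfl⟩ := hAM'
      have hy : t⁻¹ * x * t ∈ P ⊓ R := by
        refine Subgroup.mem_inf.mpr ⟨P.mul_mem (P.mul_mem (P.inv_mem (hTP ht)) hx.1) (hTP ht), ?_⟩
        have := hRn.conj_mem x hx.2 t⁻¹
        simpa using this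
      obtain ⟨e1, e2⟩ := sub _ hy
      have e : x * t = t * (t⁻¹ * x * t) := by group
      have eA : cj(x, (cj(t, A))) = cj(t, A) := by
        rw [cj_cj, e, ← cj_cj, e1]
      have eM : cj(x, (cj(t, M))) = cj(t, M) := by
        rw [cj_cj, e, ← cj_cj, e2]
      rw [eA, eM]
      exact hAM''
    intro g hg
    have hg' : g ∈ R ⊔ T := by
      rw [hRT]
      trivial
    obtain ⟨r, hr, t, ht, rfl⟩ := Subgroup.mem_sup_of_normal_left.mp hg'
    have hrP : r ∈ P := by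
      have := P.mul_mem hg (P.inv_mem (hTP ht))
      simpa using this
    exact (stabPairs Δ).mul_mem (hPRs (Subgroup.mem_inf.mpr ⟨hrP, hr⟩)) (hTs ht)

theorem isMinimalOver_of_exists_proper {H : Type*} [Group H] [Finite H] (T : Subgroup H)
    (hT : T ≠ ⊤) (hncl : Subgroup.normalClosure (T : Set H) = ⊤)
    (h : ∃ Ms : Subgroup H, Ms ≠ ⊤ ∧ ∀ P : Subgroup H, T ≤ P → P ≠ ⊤ → P ≤ Ms) :
    IsMinimalOver T := by
  obtain ⟨Ms, hMs, hP⟩ := h
  obtain ⟨M₁, hM₁, hTM₁⟩ := exists_coatom_ge T hT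
  have heq : ∀ M₂ : Subgroup H, IsCoatom M₂ → T ≤ M₂ → M₂ = Ms := by
    intro M₂ hM₂ hTM₂
    by_contra hne
    exact hMs (hM₂.2 Ms (lt_of_le_of_ne (hP M₂ hTM₂ hM₂.1) hne))
  refine ⟨hncl, M₁, ⟨hM₁, hTM₁⟩, ?_⟩
  rintro M₂ ⟨hM₂, hTM₂⟩
  rw [heq M₂ hM₂ hTM₂, heq M₁ hM₁ hTM₁]

theorem isMinimalOver_cj {H : Type*} [Group H] (g : H) {Y : Subgroup H} (h : IsMinimalOver Y) :
    IsMinimalOver (cj(g, Y)) := by
  obtain ⟨hncl, M, ⟨hM, hYM⟩, huniq⟩ := h
  refine ⟨?_, cj(g, M), ⟨isCoatom_cj g hM, cj_mono g hYM⟩, ?_⟩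
  · rw [eq_top_iff, ← hncl]
    apply Subgroup.normalClosure_le_normal
    intro y hy
    have h1 : g * y * g⁻¹ ∈ Subgroup.normalClosure ((cj(g, Y) : Subgroup H) : Set H) :=
      Subgroup.subset_normalClosure (conj_mem_cj hy)
    have h2 := (Subgroup.normalClosure_normal (s := ((cj(g, Y) : Subgroup H) : Set H))).conj_mem _ h1 g⁻¹
    simpa [mul_assoc] using h2
  · rintro M' ⟨hM', hYM'⟩
    have h1 := huniq (cj(g⁻¹, M')) ⟨isCoatom_cj g⁻¹ hM', cj_le_iff.mp hYM'⟩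
    rw [← h1, cj_cj_inv]

/-- Passing the "unique maximal subgroup" data from `E` to `E Q`, `Q` a normal subgroup inside `T`. -/
theorem umax_sup {H : Type*} [Group H] [Finite H] (T E M Q : Subgroup H) (hQn : Q.Normal)
    (hQT : Q ≤ T) (hSM : T ⊓ E ≤ M) (hME : M ≤ E) (hMne : M ≠ E)
    (hmax : ∀ Y : Subgroup H, T ⊓ E ≤ Y → Y ≤ E → Y ≠ E → Y ≤ M)
    (hEM : ¬ E ≤ Subgroup.normalizer (M : Set H)) :
    T ⊓ (E ⊔ Q) ≤ M ⊔ Q ∧ M ⊔ Q ≤ E ⊔ Q ∧ M ⊔ Q ≠ E ⊔ Q ∧
    (∀ Y : Subgroup H, T ⊓ (E ⊔ Q) ≤ Y → Y ≤ E ⊔ Q → Y ≠ E ⊔ Q → Y ≤ M ⊔ Q) ∧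
    ¬ E ⊔ Q ≤ Subgroup.normalizer ((M ⊔ Q : Subgroup H) : Set H) := by
  have hinfE : (M ⊔ Q) ⊓ E ≤ M := by
    intro x hx
    obtain ⟨m, hm, q, hq, rfl⟩ := Subgroup.mem_sup_of_normal_right.mp hx.1
    have hqE : q ∈ E := by
      have := E.mul_mem (E.inv_mem (hME hm)) hx.2
      simpa using this
    exact M.mul_mem hm (hSM (Subgroup.mem_inf.mpr ⟨hQT hq, hqE⟩))
  have hne : M ⊔ Q ≠ E ⊔ Q := by
    intro h
    apply hMne
    apply le_antisymm hME
    intro e he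
    apply hinfE
    refine Subgroup.mem_inf.mpr ⟨?_, he⟩
    rw [h]
    exact Subgroup.mem_sup_left he
  refine ⟨?_, sup_le_sup_right hME Q, hne, ?_, ?_⟩
  · intro x hx
    obtain ⟨e, he, q, hq, rfl⟩ := Subgroup.mem_sup_of_normal_right.mp hx.2
    have heT : e ∈ T := by
      have := T.mul_mem hx.1 (T.inv_mem (hQT hq))
      simpa using this
    exact Subgroup.mul_mem _ (Subgroup.mem_sup_left (hSM (Subgroup.mem_inf.mpr ⟨heT, he⟩)))
      (Subgroup.mem_sup_right hq)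
  · intro Y hTY hYA hYne
    have hQY : Q ≤ Y := le_trans (le_inf hQT le_sup_right) hTY
    have hYE : Y ⊓ E ≤ M := by
      apply hmax
      · exact le_inf (le_trans (inf_le_inf_left T le_sup_left) hTY) inf_le_right
      · exact inf_le_right
      · intro h
        apply hYne
        exact le_antisymm hYA (sup_le (inf_eq_right.mp h) hQY)
    intro y hy
    obtain ⟨e, he, q, hq, rfl⟩ := Subgroup.mem_sup_of_normal_right.mp (hYA hy)
    have heY : e ∈ Y := by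
      have := Y.mul_mem hy (Y.inv_mem (hQY hq))
      simpa using this
    exact Subgroup.mul_mem _ (Subgroup.mem_sup_left (hYE (Subgroup.mem_inf.mpr ⟨heY, he⟩)))
      (Subgroup.mem_sup_right hq)
  · intro hn
    apply hEM
    intro e he
    rw [mem_normalizer_iff_cj]
    apply cj_eq_self_of_le_of_card
    have h1 : cj(e, (M ⊔ Q)) = M ⊔ Q := cj_of_mem_normalizer (hn (Subgroup.mem_sup_left he))
    refine le_trans ?_ hinfE
    refine le_inf ?_ ?_
    · rw [← h1]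
      exact cj_mono e le_sup_left
    · exact cj_le_of_mem he hME

end Cfsg.Agent.H53
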