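import Cfsg.Agent.H53.Prod1
import Cfsg.Agent.H53.WC

set_option autoImplicit false
open Cfsg

namespace Cfsg.Agent.H53

theorem sSup_normal_of_inv {H : Type*} [Group H] (𝒦 : Set (Subgroup H))
    (hinv : ∀ h : H, ∀ E ∈ 𝒦, E.map (MulAut.conj h).toMonoidHom ∈ 𝒦) : (sSup 𝒦).Normal := by
  constructor
  intro n hn g
  have h1 : cj(g, (sSup 𝒦)) ≤ sSup 𝒦 := by
    rw [Subgroup.map_le_iff_le_comap]
    apply sSup_le
    intro E hE
    rw [← Subgroup.map_le_iff_le_comap]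
    exact le_sSup (hinv g E hE)
  exact h1 (conj_mem_cj hn)

/-- Relative form of `IsMinimalOver` for the Sylow subgroups of a subgroup `E`. -/
theorem exists_umax_of_isMinimalOver {H : Type*} [Group H] [Finite H] {p : ℕ} [Fact p.Prime]
    (E : Subgroup H) (hE : ∀ T : Sylow p ↥E, IsMinimalOver (T : Subgroup ↥E)) :
    ∃ (T : Sylow p H) (M : Subgroup H), (T : Subgroup H) ⊓ E ≤ M ∧ M ≤ E ∧ M ≠ E ∧
      (∀ Y : Subgroup H, (T : Subgroup H) ⊓ E ≤ Y → Y ≤ E → Y ≠ E → Y ≤ M) ∧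
      ¬ E ≤ Subgroup.normalizer (M : Set H) ∧
      (∀ K : Subgroup H, E ≤ Subgroup.normalizer (K : Set H) → (T : Subgroup H) ⊓ E ≤ K → E ≤ K) := by
  obtain ⟨PE⟩ := (inferInstance : Nonempty (Sylow p ↥E))
  have hPEp : IsPGroup p ↥((PE : Subgroup ↥E).map E.subtype) := PE.isPGroup'.map _
  obtain ⟨T, hT⟩ := hPEp.exists_le_sylow
  have hTE : (T : Subgroup H) ⊓ E = (PE : Subgroup ↥E).map E.subtype := by
    apply le_antisymm
    · have h1 : ((T : Subgroup H).subgroupOf E) = (PE : Subgroup ↥E) := by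
        apply PE.is_maximal' (Q := (T : Subgroup H).subgroupOf E) (T.isPGroup'.comap_subtype)
        intro x hx
        refine Subgroup.mem_subgroupOf.mpr ?_
        exact hT ⟨x, hx, rfl⟩
      rw [← h1, Subgroup.subgroupOf_map_subtype]
    · exact le_inf hT (Subgroup.map_subtype_le _)
  obtain ⟨hncl, ME, ⟨hMEc, hPM⟩, huniq⟩ := hE PE
  have huniq' : ∀ M' : Subgroup ↥E, IsCoatom M' ∧ (PE : Subgroup ↥E) ≤ M' → M' = ME := huniq
  have hsub : (ME.map E.subtype).subgroupOf E = ME := by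
    ext x
    rw [Subgroup.mem_subgroupOf]
    constructor
    · rintro ⟨y, hy, hyx⟩
      have : y = x := Subtype.ext hyx
      rwa [← this]
    · intro hx
      exact ⟨x, hx, rfl⟩
  refine ⟨T, ME.map E.subtype, ?_, Subgroup.map_subtype_le _, ?_, ?_, ?_, ?_⟩
  · rw [hTE]
    exact Subgroup.map_mono hPM
  · intro h
    apply hMEc.1
    rw [← hsub, h]
    exact Subgroup.subgroupOf_self E
  · intro Y hTY hYE hYne
    have h1 : Y.subgroupOf E ≠ ⊤ := by
      intro h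
      exact hYne (le_antisymm hYE (Subgroup.subgroupOf_eq_top.mp h))
    have h2 : (PE : Subgroup ↥E) ≤ Y.subgroupOf E := by
      intro x hx
      rw [Subgroup.mem_subgroupOf]
      apply hTY
      rw [hTE]
      exact ⟨x, hx, rfl⟩
    have h3 := le_coatom_of_unique huniq' h1 h2
    intro y hy
    exact ⟨⟨y, hYE hy⟩, h3 (Subgroup.mem_subgroupOf.mpr hy), rfl⟩
  · intro hn
    have hnorm : ((ME.map E.subtype).subgroupOf E).Normal :=
      (Subgroup.normal_subgroupOf_iff_le_normalizer (Subgroup.map_subtype_le _)).mpr hn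
    rw [hsub] at hnorm
    exact hMEc.1 (minimalOver_eq_top_of_normal (hE PE) hnorm hPM)
  · intro K hEK hTK
    have hEK' : E ≤ Subgroup.normalizer ((K ⊓ E : Subgroup H) : Set H) := by
      intro e he
      rw [mem_normalizer_iff_cj, cj_inf, cj_of_mem_normalizer (hEK he), cj_eq_of_mem he]
    have hnorm : (K.subgroupOf E).Normal := Subgroup.normal_subgroupOf_iff_le_normalizer_inf.mpr hEK'
    have h2 : (PE : Subgroup ↥E) ≤ K.subgroupOf E := by
      intro x hx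
      rw [Subgroup.mem_subgroupOf]
      apply hTK
      rw [hTE]
      exact ⟨x, hx, rfl⟩
    have h3 := minimalOver_eq_top_of_normal (hE PE) hnorm h2
    exact Subgroup.subgroupOf_eq_top.mp h3

/-- Part (a) of the product lemma: `p`-minimality passes from the members of `𝒦` to `H`. -/
theorem prod_isMinimalOver {H : Type*} [Group H] [Finite H] {p : ℕ} [Fact p.Prime]
    (𝒦 : Set (Subgroup H)) (hne : 𝒦.Nonempty)
    (hinv : ∀ h : H, ∀ E ∈ 𝒦, E.map (MulAut.conj h).toMonoidHom ∈ 𝒦)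
    (htr : ∀ E ∈ 𝒦, ∀ K ∈ 𝒦, ∃ h : H, K = E.map (MulAut.conj h).toMonoidHom)
    (hres : pResidual p H ≤ sSup 𝒦)
    (hnorm : ∀ E ∈ 𝒦, sSup 𝒦 ⊔ pCore p H ≤
      Subgroup.normalizer ((E ⊔ pCore p H : Subgroup H) : Set H))
    (hmin : ∀ E ∈ 𝒦, ∀ T : Sylow p ↥E, IsMinimalOver (T : Subgroup ↥E)) :
    ∀ T : Sylow p H, IsMinimalOver (T : Subgroup H) := by
  obtain ⟨E₀, hE₀⟩ := hne
  obtain ⟨T₀, M, h1, h2, h3, h4, h5, h6⟩ := exists_umax_of_isMinimalOver E₀ (hmin E₀ hE₀)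
  have hQn : (pCore p H).Normal := pCore_normal p H
  have hQT : pCore p H ≤ T₀ := pCore_le_sylow T₀
  obtain ⟨g1, g2, g3, g4, g5⟩ := umax_sup (T₀ : Subgroup H) E₀ M (pCore p H) hQn hQT h1 h2 h3 h4 h5
  have hRn := sSup_normal_of_inv 𝒦 hinv
  have hRT : sSup 𝒦 ⊔ (T₀ : Subgroup H) = ⊤ := by
    rw [eq_top_iff, ← pResidual_sup_sylow T₀]
    exact sup_le_sup_right hres _
  have hgen : ∀ P : Subgroup H, (T₀ : Subgroup H) ≤ P → E₀ ⊔ pCore p H ≤ P → P = ⊤ := by
    intro P hTP hEP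
    rw [eq_top_iff, ← hRT]
    refine sup_le (sSup_le ?_) hTP
    intro K hK
    obtain ⟨h, rfl⟩ := htr E₀ hE₀ K hK
    have hh : h ∈ sSup 𝒦 ⊔ (T₀ : Subgroup H) := by
      rw [hRT]
      trivial
    obtain ⟨r, hr, t, ht, rfl⟩ := Subgroup.mem_sup_of_normal_left.mp hh
    rw [← cj_cj]
    have hK' := hinv t E₀ hE₀
    have hn := hnorm _ hK' (Subgroup.mem_sup_left hr)
    have e := cj_of_mem_normalizer hn
    calc cj(r, (cj(t, E₀))) ≤ cj(r, (cj(t, E₀) ⊔ pCore p H)) := cj_mono r le_sup_left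
      _ = cj(t, E₀) ⊔ pCore p H := e
      _ ≤ P := sup_le (cj_le_of_mem (hTP ht) (le_sup_left.trans hEP)) (le_sup_right.trans hEP)
  have hT₀ne : (T₀ : Subgroup H) ≠ ⊤ := by
    intro h
    apply h3
    apply le_antisymm h2
    refine le_trans ?_ h1
    rw [h]
    exact le_inf le_top le_rfl
  have hncl : Subgroup.normalClosure ((T₀ : Subgroup H) : Set H) = ⊤ := by
    apply hgen _ Subgroup.le_normalClosure
    refine sup_le ?_ (hQT.trans Subgroup.le_normalClosure)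
    apply h6
    · rw [Subgroup.normalizer_eq_top_iff.mpr Subgroup.normalClosure_normal]
      exact le_top
    · exact inf_le_left.trans Subgroup.le_normalClosure
  have hA := exists_proper_ge (T₀ : Subgroup H) (sSup 𝒦) (E₀ ⊔ pCore p H) (M ⊔ pCore p H) hRn hRT
    (le_sup_left.trans (hnorm E₀ hE₀)) g1 g2 g3 g4 g5 hgen
  have hmin₀ := isMinimalOver_of_exists_proper _ hT₀ne hncl hA
  intro T
  obtain ⟨g, rfl⟩ := MulAction.exists_smul_eq H T₀ T
  rw [sylow_smul_eq_cj]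
  exact isMinimalOver_cj g hmin₀

end Cfsg.Agent.H53
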