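import Cfsg.Agent.H53.Prod2

set_option autoImplicit false
open Cfsg
open scoped commutatorElement

namespace Cfsg.Agent.H53

/-- `[a, b] ∈ Q` iff the images of `a` and `b` in `H / Q` commute. -/
theorem commutator_mem_iff_commute {H : Type*} [Group H] (Q : Subgroup H) [Q.Normal] (a b : H) :
    ⁅a, b⁆ ∈ Q ↔ (QuotientGroup.mk' Q a) * (QuotientGroup.mk' Q b) =
      (QuotientGroup.mk' Q b) * (QuotientGroup.mk' Q a) := by
  rw [← QuotientGroup.eq_one_iff, ← QuotientGroup.mk'_apply, map_commutatorElement,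
    commutatorElement_eq_one_iff_commute]
  exact Iff.rfl

theorem commutator_mem_symm {H : Type*} [Group H] (Q : Subgroup H) {a b : H} (h : ⁅a, b⁆ ∈ Q) :
    ⁅b, a⁆ ∈ Q := by
  rw [← commutatorElement_inv]
  exact Q.inv_mem h

/-- The elements commuting with all of `Z` modulo `Q` form a subgroup; stated for `sSup`. -/
theorem commutator_mem_of_mem_sSup_sup {H : Type*} [Group H] (Q : Subgroup H) [Q.Normal]
    (𝒦 : Set (Subgroup H)) (Z : Subgroup H)
    (h : ∀ E ∈ 𝒦, ∀ e ∈ E, ∀ z ∈ Z, ⁅e, z⁆ ∈ Q) :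
    ∀ r ∈ sSup 𝒦 ⊔ Q, ∀ z ∈ Z, ⁅r, z⁆ ∈ Q := by
  have hle : sSup 𝒦 ⊔ Q ≤ (Subgroup.centralizer ((Z.map (QuotientGroup.mk' Q) : Subgroup (H ⧸ Q)) :
      Set (H ⧸ Q))).comap (QuotientGroup.mk' Q) := by
    refine sup_le (sSup_le ?_) ?_
    · intro E hE e he
      rw [Subgroup.mem_comap, Subgroup.mem_centralizer_iff]
      rintro _ ⟨z, hz, rfl⟩
      exact ((commutator_mem_iff_commute Q e z).mp (h E hE e he z hz)).symm
    · intro q hq
      rw [Subgroup.mem_comap, Subgroup.mem_centralizer_iff]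
      rintro _ ⟨z, hz, rfl⟩
      have hq1 : QuotientGroup.mk' Q q = 1 := (QuotientGroup.eq_one_iff q).mpr hq
      rw [hq1, one_mul, mul_one]
  intro r hr z hz
  have h1 := hle hr
  rw [Subgroup.mem_comap, Subgroup.mem_centralizer_iff] at h1
  exact (commutator_mem_iff_commute Q r z).mpr (h1 _ ⟨z, hz, rfl⟩).symm

/-- If `Z ≤ E Q` and `E` centralizes `Z` modulo `Q`, then `Z` is abelian modulo `Q`. -/
theorem commutator_mem_of_le_sup {H : Type*} [Group H] (Q : Subgroup H) [Q.Normal]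
    (E Z : Subgroup H) (hZ : Z ≤ E ⊔ Q) (hb : ∀ z ∈ Z, ∀ e ∈ E, ⁅e, z⁆ ∈ Q) :
    ∀ z₁ ∈ Z, ∀ z₂ ∈ Z, ⁅z₁, z₂⁆ ∈ Q := by
  intro z₁ hz₁ z₂ hz₂
  obtain ⟨e, he, q, hq, rfl⟩ := Subgroup.mem_sup_of_normal_right.mp (hZ hz₂)
  rw [commutator_mem_iff_commute]
  have h1 := (commutator_mem_iff_commute Q e z₁).mp (hb z₁ hz₁ e he)
  have hq1 : QuotientGroup.mk' Q q = 1 := (QuotientGroup.eq_one_iff q).mpr hq
  rw [map_mul, hq1, mul_one]
  exact h1.symm

/-- An element of `B₀ Q` centralized by `B₀` modulo `Q` and of `p`-power order modulo `Q` lies in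
`Q`, provided `O_p(B₀ Q) ≤ Q`. -/
theorem mem_of_commutator_mem_of_pow_mem {p : ℕ} [Fact p.Prime] {H : Type*} [Group H]
    (Q B₀ : Subgroup H) [hQn : Q.Normal] (hQp : IsPGroup p ↥Q)
    (hB : pCoreOf p (B₀ ⊔ Q) ≤ Q) {y : H} (hy : y ∈ B₀ ⊔ Q) (hc : ∀ b ∈ B₀, ⁅b, y⁆ ∈ Q)
    (hpow : ∃ m : ℕ, y ^ p ^ m ∈ Q) : y ∈ Q := by
  obtain ⟨m, hm⟩ := hpow
  obtain ⟨j, hj⟩ := hQp ⟨y ^ p ^ m, hm⟩
  have hj' : (y ^ p ^ m) ^ p ^ j = 1 := by
    have := congrArg Subtype.val hj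
    simpa using this
  have hy1 : y ^ p ^ (m + j) = 1 := by
    rw [pow_add, pow_mul]
    exact hj'
  have hz : IsPGroup p ↥(Subgroup.zpowers y) := by
    intro g
    obtain ⟨i, hi⟩ := Subgroup.mem_zpowers_iff.mp g.2
    refine ⟨m + j, Subtype.ext ?_⟩
    rw [Subgroup.coe_pow, Subgroup.coe_one, ← hi, ← zpow_natCast, ← zpow_mul, mul_comm, zpow_mul,
      zpow_natCast, hy1, one_zpow]
  have hYp : IsPGroup p ↥(Q ⊔ Subgroup.zpowers y) := IsPGroup.to_sup_of_normal_left hQp hz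
  have hYle : Q ⊔ Subgroup.zpowers y ≤ B₀ ⊔ Q := sup_le le_sup_right (Subgroup.zpowers_le.mpr hy)
  have key : ∀ b ∈ B₀, cj(b, (Q ⊔ Subgroup.zpowers y)) ≤ Q ⊔ Subgroup.zpowers y := by
    intro b hb
    rw [cj_sup, cj_of_normal Q b, MonoidHom.map_zpowers]
    refine sup_le le_sup_left (Subgroup.zpowers_le.mpr ?_)
    have e : (MulAut.conj b).toMonoidHom y = ⁅b, y⁆ * y := by
      simp [commutatorElement_def]
    rw [e]
    exact Subgroup.mul_mem _ (Subgroup.mem_sup_left (hc b hb))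
      (Subgroup.mem_sup_right (Subgroup.mem_zpowers y))
  have hnorm : B₀ ⊔ Q ≤ Subgroup.normalizer ((Q ⊔ Subgroup.zpowers y : Subgroup H) : Set H) := by
    refine sup_le ?_ (le_sup_left.trans Subgroup.le_normalizer)
    intro b hb
    rw [mem_normalizer_iff_cj]
    apply le_antisymm (key b hb)
    have h2 := cj_le_iff.mp (key b⁻¹ (B₀.inv_mem hb))
    rwa [inv_inv] at h2
  have h3 := (le_pCoreOf hYle hnorm hYp).trans hB
  exact h3 (Subgroup.mem_sup_right (Subgroup.mem_zpowers y))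

/-- If `x` maps `E` into `Z` by commutators, where `Z` is centralized by `E` and abelian modulo `Q`
and has no `p`-elements modulo `Q`, and `O^p(E) ≤ E'`, then `[E, x] ≤ Q`. -/
theorem commutator_mem_of_central_image {p : ℕ} [Fact p.Prime] {H : Type*} [Group H]
    (Q : Subgroup H) [hQn : Q.Normal] (E Z : Subgroup H) [Finite ↥E]
    (hres : pResidual p ↥E ≤ commutator ↥E) (x : H)
    (ha : ∀ e ∈ E, ⁅e, x⁆ ∈ Z) (hb : ∀ z ∈ Z, ∀ e ∈ E, ⁅e, z⁆ ∈ Q)
    (hc : ∀ z₁ ∈ Z, ∀ z₂ ∈ Z, ⁅z₁, z₂⁆ ∈ Q)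
    (hd : ∀ z ∈ Z, (∃ m : ℕ, z ^ p ^ m ∈ Q) → z ∈ Q) : ∀ e ∈ E, ⁅e, x⁆ ∈ Q := by
  have hmul : ∀ a b : ↥E, QuotientGroup.mk' Q ⁅((a * b : ↥E) : H), x⁆ =
      QuotientGroup.mk' Q ⁅(a : H), x⁆ * QuotientGroup.mk' Q ⁅(b : H), x⁆ := by
    intro a b
    have e1 : ⁅((a * b : ↥E) : H), x⁆ = ⁅(a : H), ⁅(b : H), x⁆⁆ * ⁅(b : H), x⁆ * ⁅(a : H), x⁆ := by
      simp only [commutatorElement_def, Subgroup.coe_mul]
      group
    have h1 : QuotientGroup.mk' Q ⁅(a : H), ⁅(b : H), x⁆⁆ = 1 :=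
      (QuotientGroup.eq_one_iff _).mpr (hb _ (ha b b.2) a a.2)
    have h2 := (commutator_mem_iff_commute Q _ _).mp (hc _ (ha a a.2) _ (ha b b.2))
    rw [e1, map_mul, map_mul, h1, one_mul]
    exact h2.symm
  obtain ⟨φ, hφ⟩ : ∃ φ : ↥E →* H ⧸ Q, ∀ a : ↥E, φ a = QuotientGroup.mk' Q ⁅(a : H), x⁆ :=
    ⟨MonoidHom.mk' (fun a : ↥E => QuotientGroup.mk' Q ⁅(a : H), x⁆) hmul, fun _ => rfl⟩
  have hker : commutator ↥E ≤ φ.ker := by
    rw [commutator_def, Subgroup.commutator_le]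
    intro a _ b _
    rw [MonoidHom.mem_ker, map_commutatorElement, commutatorElement_eq_one_iff_commute]
    show φ a * φ b = φ b * φ a
    rw [hφ, hφ]
    exact (commutator_mem_iff_commute Q _ _).mp (hc _ (ha a a.2) _ (ha b b.2))
  intro e he
  apply hd _ (ha e he)
  obtain ⟨k, hk⟩ := exists_pow_mem_pResidual (p := p) (⟨e, he⟩ : ↥E)
  refine ⟨k, ?_⟩
  have h1 := hker (hres hk)
  rw [MonoidHom.mem_ker, map_pow, hφ, ← map_pow] at h1
  exact (QuotientGroup.eq_one_iff _).mp h1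

/-- A subgroup of a `p`-closed group is `p`-closed. -/
theorem isPClosed_subgroup {p : ℕ} [Fact p.Prime] {G : Type*} [Group G] (h : IsPClosed p G)
    (E : Subgroup G) : IsPClosed p ↥E := by
  intro P
  have h1 : (P : Subgroup ↥E).map E.subtype ≤ pCore p G :=
    isPClosed_le_pCore_of_isPGroup h (P.isPGroup'.map _)
  have h2 : (pCore p G).subgroupOf E = (P : Subgroup ↥E) := by
    apply P.is_maximal' (Q := (pCore p G).subgroupOf E) ((pCore_isPGroup p G).comap_subtype)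
    intro x hx
    refine Subgroup.mem_subgroupOf.mpr ?_
    exact h1 ⟨x, hx, rfl⟩
  rw [← h2]
  exact Subgroup.Normal.subgroupOf (pCore_normal p G) E

/-- If every `p`-subgroup of `N` lies in the normal `p`-subgroup `Q`, then `N` is `p`-closed. -/
theorem isPClosed_of_forall_le {p : ℕ} [Fact p.Prime] {G : Type*} [Group G] (Q N : Subgroup G)
    [hQn : Q.Normal] (hQp : IsPGroup p ↥Q)
    (h : ∀ P : Sylow p ↥N, (P : Subgroup ↥N).map N.subtype ≤ Q) : IsPClosed p ↥N := by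
  intro P
  have h2 : Q.subgroupOf N = (P : Subgroup ↥N) := by
    apply P.is_maximal' (Q := Q.subgroupOf N) hQp.comap_subtype
    intro x hx
    refine Subgroup.mem_subgroupOf.mpr ?_
    exact h P ⟨x, hx, rfl⟩
  rw [← h2]
  exact Subgroup.Normal.subgroupOf hQn N

theorem isPIrreducible_of_strongly {H : Type*} [Group H] [Finite H] {p : ℕ} [Fact p.Prime]
    (hH : IsStronglyPIrreducible p H) : IsPIrreducible p H := by
  refine ⟨hH.1, fun N hN hNc => hH.2 N hN fun hle => hNc ?_⟩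
  intro P
  apply Subgroup.Normal.of_commutator_le
  have h1 : ((pCore p H).subgroupOf N) ≤ (P : Subgroup ↥N) := by
    have hn : ((pCore p H).subgroupOf N).Normal := Subgroup.Normal.subgroupOf (pCore_normal p H) N
    have hp : IsPGroup p ↥((pCore p H).subgroupOf N) := (pCore_isPGroup p H).comap_subtype
    exact hp.le_sylow_of_normal P
  refine le_trans ?_ h1
  rw [commutator_def, Subgroup.commutator_le]
  intro a _ b _
  rw [Subgroup.mem_subgroupOf]
  apply hle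
  have : ((⁅a, b⁆ : ↥N) : H) = ⁅(a : H), (b : H)⁆ := rfl
  rw [this]
  exact Subgroup.commutator_mem_commutator a.2 (Subgroup.mem_top _)

/-- Relative form of strong `p`-irreducibility. -/
theorem pResidual_le_of_strongly {p : ℕ} [Fact p.Prime] {H : Type*} [Group H] (Q E : Subgroup H)
    (hE : IsStronglyPIrreducible p ↥E) (hEQ : pCoreOf p E ≤ Q) (N : Subgroup H) (hNE : N ≤ E)
    (hn : E ≤ Subgroup.normalizer (N : Set H)) (hc : ¬ ∀ n ∈ N, ∀ e ∈ E, ⁅n, e⁆ ∈ Q) :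
    (pResidual p ↥E).map E.subtype ≤ N := by
  have hnorm : (N.subgroupOf E).Normal := (Subgroup.normal_subgroupOf_iff_le_normalizer hNE).mpr hn
  have h1 : pResidual p ↥E ≤ N.subgroupOf E := by
    apply hE.2 _ hnorm
    intro hle
    apply hc
    intro n hnN e he
    apply hEQ
    have h2 : (⁅(⟨n, hNE hnN⟩ : ↥E), (⟨e, he⟩ : ↥E)⁆ : ↥E) ∈ pCore p ↥E :=
      hle (Subgroup.commutator_mem_commutator (Subgroup.mem_subgroupOf.mpr hnN) (Subgroup.mem_top _))
    exact ⟨_, h2, rfl⟩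
  have h3 := Subgroup.map_mono (f := E.subtype) h1
  rwa [Subgroup.map_subgroupOf_eq_of_le hNE] at h3

/-- `O^p(A) ≤ B` implies `O^p(A) ≤ O^p(B)`. -/
theorem map_pResidual_le_of_le (p : ℕ) {G : Type*} [Group G] {A B : Subgroup G}
    (h : (pResidual p ↥A).map A.subtype ≤ B) :
    (pResidual p ↥A).map A.subtype ≤ (pResidual p ↥B).map B.subtype := by
  have h' := h
  rw [map_pResidual_subtype] at h' ⊢
  rw [map_pResidual_subtype, Subgroup.closure_le]
  rintro g ⟨hgA, hg⟩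
  exact Subgroup.subset_closure ⟨h' (Subgroup.subset_closure ⟨hgA, hg⟩), hg⟩

/-- `O^p` commutes with conjugation (one inclusion). -/
theorem map_pResidual_cj_le (p : ℕ) {G : Type*} [Group G] (g : G) (A : Subgroup G) :
    (pResidual p ↥(cj(g, A))).map (cj(g, A)).subtype ≤ cj(g, ((pResidual p ↥A).map A.subtype)) := by
  rw [map_pResidual_subtype, map_pResidual_subtype, Subgroup.closure_le]
  rintro x ⟨hxA, hx⟩
  rw [SetLike.mem_coe, mem_cj]
  apply Subgroup.subset_closure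
  refine ⟨mem_cj.mp hxA, ?_⟩
  have e : g⁻¹ * x * g = (MulAut.conj g⁻¹) x := by simp
  rw [e, MulEquiv.orderOf_eq]
  exact hx

end Cfsg.Agent.H53
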