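import Cfsg.Agent.H53.Prod3

set_option autoImplicit false
open Cfsg
open scoped commutatorElement

namespace Cfsg.Agent.H53

/-- The core facts about `O_p` used in the product lemma. -/
theorem prod_core_facts {H : Type*} [Group H] [Finite H] {p : ℕ} [Fact p.Prime]
    (𝒦 : Set (Subgroup H))
    (hinv : ∀ h : H, ∀ E ∈ 𝒦, E.map (MulAut.conj h).toMonoidHom ∈ 𝒦)
    (hnorm : ∀ E ∈ 𝒦, sSup 𝒦 ⊔ pCore p H ≤
      Subgroup.normalizer ((E ⊔ pCore p H : Subgroup H) : Set H)) :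
    pCoreOf p (sSup 𝒦 ⊔ pCore p H) ≤ pCore p H ∧
    (∀ E ∈ 𝒦, pCoreOf p (E ⊔ pCore p H) ≤ pCore p H) ∧
    (∀ E ∈ 𝒦, pCoreOf p E ≤ pCore p H) := by
  haveI hRn := sSup_normal_of_inv 𝒦 hinv
  haveI hQn : (pCore p H).Normal := pCore_normal p H
  have hRQn : (sSup 𝒦 ⊔ pCore p H).Normal := inferInstance
  have h1 : pCoreOf p (sSup 𝒦 ⊔ pCore p H) ≤ pCore p H :=
    map_pCore_subtype_le_of_normal (p := p) (sSup 𝒦 ⊔ pCore p H)
  have h2 : ∀ E ∈ 𝒦, pCoreOf p (E ⊔ pCore p H) ≤ pCore p H := by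
    intro E hE
    exact (pCoreOf_le_of_normal (sup_le_sup_right (le_sSup hE) _) (hnorm E hE)).trans h1
  refine ⟨h1, h2, ?_⟩
  intro E hE
  have hYp : IsPGroup p ↥(pCoreOf p E ⊔ pCore p H) :=
    IsPGroup.to_sup_of_normal_right (pCoreOf_isPGroup p E) (pCore_isPGroup p H)
  have hYle : pCoreOf p E ⊔ pCore p H ≤ E ⊔ pCore p H := sup_le_sup_right (pCoreOf_le p E) _
  have hnY : E ⊔ pCore p H ≤
      Subgroup.normalizer ((pCoreOf p E ⊔ pCore p H : Subgroup H) : Set H) := by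
    refine sup_le ?_ (le_sup_right.trans Subgroup.le_normalizer)
    intro e he
    rw [mem_normalizer_iff_cj, cj_sup, cj_of_normal (pCore p H) e,
      cj_of_mem_normalizer (le_normalizer_pCoreOf p E he)]
  exact le_sup_left.trans ((le_pCoreOf hYle hnY hYp).trans (h2 E hE))

/-- In a strongly `p`-irreducible finite group, `O^p ≤` the derived subgroup. -/
theorem pResidual_le_commutator_of_strongly {E : Type*} [Group E] [Finite E] {p : ℕ} [Fact p.Prime]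
    (hE : IsStronglyPIrreducible p E) : pResidual p E ≤ commutator E := by
  obtain ⟨T⟩ := (inferInstance : Nonempty (Sylow p E))
  exact (isPIrreducible_generation (isPIrreducible_of_strongly hE) T).2.2.1

/-- One half of the dichotomy: if `[E, K] ≰ Q` then `O^p(E Q) ≤ K Q`. -/
theorem prod_dichotomy_le {H : Type*} [Group H] [Finite H] {p : ℕ} [Fact p.Prime]
    (𝒦 : Set (Subgroup H)) (Q : Subgroup H) [hQn : Q.Normal] (hQp : IsPGroup p ↥Q)
    (hnorm : ∀ E ∈ 𝒦, sSup 𝒦 ⊔ Q ≤ Subgroup.normalizer ((E ⊔ Q : Subgroup H) : Set H))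
    (hcoreE : ∀ E ∈ 𝒦, pCoreOf p (E ⊔ Q) ≤ Q) (hcoreE' : ∀ E ∈ 𝒦, pCoreOf p E ≤ Q)
    (hspi : ∀ E ∈ 𝒦, IsStronglyPIrreducible p ↥E)
    (E : Subgroup H) (hE : E ∈ 𝒦) (K : Subgroup H) (hK : K ∈ 𝒦) (hEK : ¬ ⁅E, K⁆ ≤ Q) :
    (pResidual p ↥(E ⊔ Q)).map (E ⊔ Q).subtype ≤ K ⊔ Q := by
  have hER : E ≤ sSup 𝒦 := le_sSup hE
  have hKR : K ≤ sSup 𝒦 := le_sSup hK
  have hEnK : E ≤ Subgroup.normalizer ((K ⊔ Q : Subgroup H) : Set H) :=
    hER.trans (le_sup_left.trans (hnorm K hK))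
  have hKnE : K ≤ Subgroup.normalizer ((E ⊔ Q : Subgroup H) : Set H) :=
    hKR.trans (le_sup_left.trans (hnorm E hE))
  by_contra hcon
  have hb : ∀ z ∈ (E ⊔ Q) ⊓ (K ⊔ Q), ∀ e ∈ E, ⁅e, z⁆ ∈ Q := by
    by_contra hnb
    apply hcon
    push Not at hnb
    obtain ⟨z, hz, e, he, hez⟩ := hnb
    obtain ⟨e₁, he₁, q, hq, rfl⟩ := Subgroup.mem_sup_of_normal_right.mp hz.1
    have he₁N : e₁ ∈ (E ⊔ Q) ⊓ (K ⊔ Q) := by
      have hqN : q ∈ (E ⊔ Q) ⊓ (K ⊔ Q) :=
        Subgroup.mem_inf.mpr ⟨Subgroup.mem_sup_right hq, Subgroup.mem_sup_right hq⟩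
      have := Subgroup.mul_mem _ hz (Subgroup.inv_mem _ hqN)
      simpa using this
    have hee₁ : ⁅e, e₁⁆ ∉ Q := by
      intro h
      apply hez
      rw [commutator_mem_iff_commute] at h ⊢
      have hq1 : QuotientGroup.mk' Q q = 1 := (QuotientGroup.eq_one_iff q).mpr hq
      rw [map_mul, hq1, mul_one]
      exact h
    have h1 : (pResidual p ↥E).map E.subtype ≤ ((E ⊔ Q) ⊓ (K ⊔ Q)) ⊓ E := by
      apply pResidual_le_of_strongly Q E (hspi E hE) (hcoreE' E hE) _ inf_le_right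
      · intro a ha
        rw [mem_normalizer_iff_cj, cj_inf, cj_inf,
          cj_eq_of_mem (Subgroup.mem_sup_left ha : a ∈ E ⊔ Q),
          cj_of_mem_normalizer (hEnK ha), cj_eq_of_mem ha]
      · intro hall
        exact hee₁ (commutator_mem_symm Q (hall e₁ (Subgroup.mem_inf.mpr ⟨he₁N, he₁⟩) e he))
    have h2 : pResidual p ↥(E ⊔ Q) ≤ (K ⊔ Q).subgroupOf (E ⊔ Q) := by
      apply pResidual_le_of_pow_mem
      intro g
      obtain ⟨a, ha, q', hq', hg⟩ := Subgroup.mem_sup_of_normal_right.mp g.2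
      obtain ⟨k, hk⟩ := exists_pow_mem_pResidual (p := p) (⟨a, ha⟩ : ↥E)
      refine ⟨k, ?_⟩
      rw [Subgroup.mem_subgroupOf]
      have hak : a ^ p ^ k ∈ K ⊔ Q := by
        have h3 : a ^ p ^ k ∈ (pResidual p ↥E).map E.subtype := ⟨_, hk, rfl⟩
        exact (h1 h3).1.2
      have hq1' : QuotientGroup.mk' Q q' = 1 := (QuotientGroup.eq_one_iff q').mpr hq'
      have hmod : QuotientGroup.mk' Q ((g : H) ^ p ^ k) = QuotientGroup.mk' Q (a ^ p ^ k) := by
        rw [map_pow, map_pow, ← hg, map_mul, hq1', mul_one]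
      have h4 : (a ^ p ^ k)⁻¹ * (g : H) ^ p ^ k ∈ Q := QuotientGroup.eq.mp hmod.symm
      have h5 := Subgroup.mul_mem _ hak (Subgroup.mem_sup_right h4 : _ ∈ K ⊔ Q)
      simpa using h5
    have h3 := Subgroup.map_mono (f := (E ⊔ Q).subtype) h2
    rw [Subgroup.subgroupOf_map_subtype] at h3
    exact h3.trans inf_le_left
  have hc := commutator_mem_of_le_sup Q E _ inf_le_left hb
  have hd : ∀ z ∈ (E ⊔ Q) ⊓ (K ⊔ Q), (∃ m : ℕ, z ^ p ^ m ∈ Q) → z ∈ Q := by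
    intro z hz hpow
    exact mem_of_commutator_mem_of_pow_mem Q E hQp (hcoreE E hE) hz.1
      (fun b hb' => hb z hz b hb') hpow
  apply hEK
  rw [Subgroup.commutator_le]
  intro e he k hk
  refine commutator_mem_of_central_image Q E _
    (pResidual_le_commutator_of_strongly (hspi E hE)) k ?_ hb hc hd e he
  intro a ha
  refine Subgroup.mem_inf.mpr ⟨?_, ?_⟩
  · have h1 : k * a⁻¹ * k⁻¹ ∈ E ⊔ Q :=
      (Subgroup.mem_normalizer_iff.mp (hKnE hk) _).mp (Subgroup.mem_sup_left (E.inv_mem ha))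
    have e1 : ⁅a, k⁆ = a * (k * a⁻¹ * k⁻¹) := by
      simp only [commutatorElement_def]
      group
    rw [e1]
    exact Subgroup.mul_mem _ (Subgroup.mem_sup_left ha) h1
  · have h1 : a * k * a⁻¹ ∈ K ⊔ Q :=
      (Subgroup.mem_normalizer_iff.mp (hEnK ha) _).mp (Subgroup.mem_sup_left hk)
    have e1 : ⁅a, k⁆ = (a * k * a⁻¹) * k⁻¹ := by
      simp only [commutatorElement_def]
    rw [e1]
    exact Subgroup.mul_mem _ h1 (Subgroup.mem_sup_left (K.inv_mem hk))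

/-- If every `O^p(K)`, `K ∈ 𝒦`, lies in the normal subgroup `N'` (containing `Q`), then `G / N'` is a
`p`-group. -/
theorem isPGroup_quotient_of_prod {G : Type*} [Group G] [Finite G] {p : ℕ} [Fact p.Prime]
    (𝒦 : Set (Subgroup G)) (Q N' T : Subgroup G) [hN' : N'.Normal] (hQN' : Q ≤ N')
    (hRn : (sSup 𝒦).Normal)
    (hnorm : ∀ E ∈ 𝒦, sSup 𝒦 ⊔ Q ≤ Subgroup.normalizer ((E ⊔ Q : Subgroup G) : Set G))
    (hres : ∀ K ∈ 𝒦, (pResidual p ↥K).map K.subtype ≤ N')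
    (hT : IsPGroup p ↥T) (hRT : sSup 𝒦 ⊔ T = ⊤) : IsPGroup p (G ⧸ N') := by
  have hsurj : Function.Surjective (QuotientGroup.mk' N') := QuotientGroup.mk'_surjective N'
  have hQbot : Q.map (QuotientGroup.mk' N') = ⊥ := by
    rw [Subgroup.map_eq_bot_iff, QuotientGroup.ker_mk']
    exact hQN'
  have hKp : ∀ K ∈ 𝒦, IsPGroup p ↥(K.map (QuotientGroup.mk' N')) := by
    intro K hK y
    obtain ⟨g, hg, hgy⟩ := y.2
    obtain ⟨k, hk⟩ := exists_pow_mem_pResidual (p := p) (⟨g, hg⟩ : ↥K)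
    refine ⟨k, Subtype.ext ?_⟩
    have h3 : g ^ p ^ k ∈ N' := hres K hK ⟨_, hk, rfl⟩
    rw [Subgroup.coe_pow, Subgroup.coe_one, ← hgy, ← map_pow]
    exact (QuotientGroup.eq_one_iff _).mpr h3
  have hKle : ∀ K ∈ 𝒦, K.map (QuotientGroup.mk' N') ≤
      pCoreOf p ((sSup 𝒦).map (QuotientGroup.mk' N')) := by
    intro K hK
    apply le_pCoreOf (Subgroup.map_mono (le_sSup hK)) _ (hKp K hK)
    have h1 : (sSup 𝒦).map (QuotientGroup.mk' N') ≤
        (Subgroup.normalizer ((K ⊔ Q : Subgroup G) : Set G)).map (QuotientGroup.mk' N') :=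
      Subgroup.map_mono (le_sup_left.trans (hnorm K hK))
    have h2 := h1.trans (Subgroup.le_normalizer_map (QuotientGroup.mk' N'))
    rwa [Subgroup.map_sup, hQbot, sup_bot_eq] at h2
  have hBp : IsPGroup p ↥((sSup 𝒦).map (QuotientGroup.mk' N')) := by
    have h1 : (sSup 𝒦).map (QuotientGroup.mk' N') ≤
        pCoreOf p ((sSup 𝒦).map (QuotientGroup.mk' N')) := by
      rw [Subgroup.map_le_iff_le_comap]
      apply sSup_le
      intro K hK
      rw [← Subgroup.map_le_iff_le_comap]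
      exact hKle K hK
    exact (pCoreOf_isPGroup p _).to_le h1
  haveI hBn : ((sSup 𝒦).map (QuotientGroup.mk' N')).Normal := Subgroup.Normal.map hRn _ hsurj
  have hTp : IsPGroup p ↥(T.map (QuotientGroup.mk' N')) := hT.map _
  have htop : (sSup 𝒦).map (QuotientGroup.mk' N') ⊔ T.map (QuotientGroup.mk' N') = ⊤ := by
    rw [← Subgroup.map_sup, hRT, ← MonoidHom.range_eq_map, MonoidHom.range_eq_top]
    exact hsurj
  have hall := IsPGroup.to_sup_of_normal_left hBp hTp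
  intro x
  have hx : x ∈ (sSup 𝒦).map (QuotientGroup.mk' N') ⊔ T.map (QuotientGroup.mk' N') := by
    rw [htop]
    trivial
  obtain ⟨k, hk⟩ := hall ⟨x, hx⟩
  refine ⟨k, ?_⟩
  have := congrArg Subtype.val hk
  simpa using this

end Cfsg.Agent.H53
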