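import Mathlib
import Cfsg.Prelude.Def_LocalStructure
import Cfsg.Agent.H53.Asym10
import Cfsg.Agent.H27.Layer

set_option autoImplicit false

namespace Cfsg.Agent.H53

open Cfsg
open scoped commutatorElement Pointwise

/-- In a finite group `X` with `O_p(X) = 1` and `O^p(X)` quasisimple, every nontrivial
`p`-subgroup `P` has `[O^p(X), P] = O^p(X)`. -/
theorem commutator_pResidual_eq_of_quasisimple {p : ℕ} [Fact p.Prime] {X : Type*} [Group X]
    [Finite X] (hO : pCore p X = ⊥) (hqs : IsQuasisimple ↥(pResidual p X)) {P : Subgroup X}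
    (hP : IsPGroup p ↥P) (hP1 : P ≠ ⊥) : ⁅pResidual p X, P⁆ = pResidual p X := by
  obtain ⟨K, hK⟩ : ∃ K : Subgroup X, K = pResidual p X := ⟨_, rfl⟩
  rw [← hK] at hqs ⊢
  have hKn : K.Normal := by rw [hK]; exact pResidual_normal p X
  have hperf : ⁅K, K⁆ = K := Subgroup.isPerfect_iff.1 hqs.1
  have hZn : (Subgroup.centralizer (K : Set X)).Normal := inferInstance
  have hZcl : IsPClosed p ↥(Subgroup.centralizer (K : Set X)) := by
    apply isPClosed_of_coprime_commutator_mem (⊥ : Subgroup ↥(Subgroup.centralizer (K : Set X)))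
      (IsPGroup.of_bot)
    intro a ha g
    have haK : (a : X) ∈ K :=
      hK.ge (mem_pResidual_of_coprime (by rw [Subgroup.orderOf_coe]; exact ha))
    have hc := (Subgroup.mem_centralizer_iff.mp g.2) (a : X) haK
    rw [Subgroup.mem_bot]
    apply Subtype.ext
    show (a : X) * (g : X) * (a : X)⁻¹ * (g : X)⁻¹ = 1
    rw [hc]; group
  have hPZ : ¬ P ≤ Subgroup.centralizer (K : Set X) := by
    intro h
    have h1 : P ≤ pCore p X := le_pCore_of_le_normal_isPClosed hZcl h hP
    rw [hO] at h1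
    exact hP1 (le_bot_iff.mp h1)
  have hNK : ⁅K, P⁆ ≤ K := Subgroup.commutator_le_left K P
  have hn : (⁅K, P⁆.subgroupOf K).Normal :=
    Subgroup.normal_subgroupOf_of_le_normalizer (le_normalizer_commutator_left K P)
  rcases Cfsg.Agent.H27.quasisimple_normal hqs (⁅K, P⁆.subgroupOf K) with h | h
  · exfalso; apply hPZ
    have h1 : ⁅⁅P, K⁆, K⁆ = ⊥ := by
      rw [Subgroup.commutator_comm P K, eq_bot_iff, Subgroup.commutator_le]
      intro a ha b hb
      have hc := h (show (⟨a, hNK ha⟩ : ↥K) ∈ ⁅K, P⁆.subgroupOf K from Subgroup.mem_subgroupOf.mpr ha)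
      have h2 := Subgroup.mem_center_iff.mp hc ⟨b, hb⟩
      have e : b * a = a * b := congrArg Subtype.val h2
      rw [Subgroup.mem_bot, commutatorElement_def, ← e]; group
    have h2 := Cfsg.Agent.H27.comm_eq_bot_of_perfect K P hperf h1
    rw [Subgroup.commutator_comm] at h2
    exact Subgroup.commutator_eq_bot_iff_le_centralizer.mp h2
  · apply le_antisymm hNK
    intro k hk
    have h1 : (⟨k, hk⟩ : ↥K) ∈ ⁅K, P⁆.subgroupOf K := by rw [h]; exact Subgroup.mem_top _
    exact Subgroup.mem_subgroupOf.mp h1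

section im

variable {G : Type*} [Group G] {E C : Subgroup G} [hn : (C.subgroupOf E).Normal]

/-- The preimage of the image of `A ≤ E` in `E / C_E` is `A C_E`. -/
theorem comap_map_mk_subgroupOf {A : Subgroup G} (hA : A ≤ E) :
    ((A.subgroupOf E).map (QuotientGroup.mk' (C.subgroupOf E))).comap
      (QuotientGroup.mk' (C.subgroupOf E)) = (A ⊔ (E ⊓ C)).subgroupOf E := by
  rw [Subgroup.comap_map_eq, QuotientGroup.ker_mk', ← Subgroup.inf_subgroupOf_left C E,
    Subgroup.subgroupOf_sup hA inf_le_left]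

theorem map_mk_subgroupOf_eq_iff {A B : Subgroup G} (hA : A ≤ E) (hB : B ≤ E) :
    (A.subgroupOf E).map (QuotientGroup.mk' (C.subgroupOf E)) =
      (B.subgroupOf E).map (QuotientGroup.mk' (C.subgroupOf E)) ↔
      A ⊔ (E ⊓ C) = B ⊔ (E ⊓ C) := by
  constructor
  · intro h
    have h1 := congrArg (Subgroup.comap (QuotientGroup.mk' (C.subgroupOf E))) h
    rw [comap_map_mk_subgroupOf hA, comap_map_mk_subgroupOf hB] at h1
    have h2 := congrArg (Subgroup.map E.subtype) h1
    rwa [Subgroup.map_subgroupOf_eq_of_le (sup_le hA inf_le_left),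
      Subgroup.map_subgroupOf_eq_of_le (sup_le hB inf_le_left)] at h2
  · intro h
    have hs := QuotientGroup.mk'_surjective (C.subgroupOf E)
    rw [← Subgroup.map_comap_eq_self_of_surjective hs
        ((A.subgroupOf E).map (QuotientGroup.mk' (C.subgroupOf E))),
      ← Subgroup.map_comap_eq_self_of_surjective hs
        ((B.subgroupOf E).map (QuotientGroup.mk' (C.subgroupOf E))),
      comap_map_mk_subgroupOf hA, comap_map_mk_subgroupOf hB, h]

theorem map_mk_subgroupOf_commutator {A B : Subgroup G} (hA : A ≤ E) (hB : B ≤ E) :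
    ⁅(A.subgroupOf E).map (QuotientGroup.mk' (C.subgroupOf E)),
      (B.subgroupOf E).map (QuotientGroup.mk' (C.subgroupOf E))⁆ =
      (⁅A, B⁆.subgroupOf E).map (QuotientGroup.mk' (C.subgroupOf E)) := by
  rw [← Subgroup.map_commutator]
  congr 1
  have h1 : (⁅A.subgroupOf E, B.subgroupOf E⁆).map E.subtype = ⁅A, B⁆ := by
    rw [Subgroup.map_commutator, Subgroup.map_subgroupOf_eq_of_le hA,
      Subgroup.map_subgroupOf_eq_of_le hB]
  rw [← h1]
  exact (Subgroup.comap_map_eq_self_of_injective E.subtype_injective _).symm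

theorem map_mk_subgroupOf_eq_bot_iff {A : Subgroup G} (hA : A ≤ E) :
    (A.subgroupOf E).map (QuotientGroup.mk' (C.subgroupOf E)) = ⊥ ↔ A ≤ C := by
  rw [Subgroup.map_eq_bot_iff, QuotientGroup.ker_mk']
  constructor
  · intro h a ha
    exact Subgroup.mem_subgroupOf.mp (h (show (⟨a, hA ha⟩ : ↥E) ∈ A.subgroupOf E from
      Subgroup.mem_subgroupOf.mpr ha))
  · intro h a ha
    exact Subgroup.mem_subgroupOf.mpr (h (Subgroup.mem_subgroupOf.mp ha))

end im

end Cfsg.Agent.H53
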