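import Mathlib
import Cfsg.Prelude.Def_LocalStructure
import Cfsg.Agent.H53.QS1

set_option autoImplicit false

namespace Cfsg.Agent.H53

open Cfsg
open scoped commutatorElement Pointwise

section

variable {p : ℕ} [Fact p.Prime] {G : Type*} [Group G] [Finite G]

/-- Dedekind-type step: `A ≤ B (E ∩ C)` with `B ≤ A ≤ E` and `E` normalizing `C` gives
`A ≤ B (A ∩ C)`. -/
theorem le_sup_inf_of_le_sup {A B E C : Subgroup G} (hBA : B ≤ A) (hAE : A ≤ E)
    (hEC : E ≤ Subgroup.normalizer (C : Set G)) (h : A ≤ B ⊔ (E ⊓ C)) : A ≤ B ⊔ (A ⊓ C) := by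
  intro a ha
  have hBn : B ≤ Subgroup.normalizer ((E ⊓ C : Subgroup G) : Set G) :=
    (hBA.trans hAE).trans (le_normalizer_inf' Subgroup.le_normalizer hEC)
  obtain ⟨b, hb, c, hc, rfl⟩ := mem_sup_of_le_normalizer hBn (h ha)
  refine Subgroup.mul_mem _ (Subgroup.mem_sup_left hb) (Subgroup.mem_sup_right ⟨?_, hc.2⟩)
  have e : c = b⁻¹ * (b * c) := by group
  rw [e]
  exact A.mul_mem (A.inv_mem (hBA hb)) ha

/-- `O^p(O^p(L)) = O^p(L)` in the ambient group. -/
theorem oP_oP (p : ℕ) (W : Subgroup G) : oP(p, (oP(p, W))) = oP(p, W) := by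
  apply le_antisymm (Subgroup.map_subtype_le _)
  have h1 : oP(p, W) = Subgroup.closure {g : G | g ∈ W ∧ Nat.Coprime (orderOf g) p} :=
    map_pResidual_subtype p W
  rw [map_pResidual_subtype p (oP(p, W))]
  conv_lhs => rw [h1]
  apply Subgroup.closure_mono
  rintro g ⟨hg1, hg2⟩
  exact ⟨by rw [h1]; exact Subgroup.subset_closure ⟨hg1, hg2⟩, hg2⟩

/-- Ambient form of the structure of `E_∘ = O^p(E°)` when `O^p(E) C_E(U) / C_E(U)` is
quasisimple. -/
theorem quasisimple_weakClosure_ambient {Q U E C W R Er : Subgroup G} (hQp : IsPGroup p ↥Q)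
    (hQ1 : Q ≠ ⊥) (hQ : IsLarge Q) (hUp : IsPGroup p ↥U) (hU1 : U ≠ ⊥) (hQE : Q ≤ E)
    (hEU : E ≤ Subgroup.normalizer (U : Set G))
    (hQn : ¬ E ≤ Subgroup.normalizer (Q : Set G))
    (hC : C = Subgroup.centralizer (U : Set G))
    [hn : (C.subgroupOf E).Normal]
    (hred : pCore p (↥E ⧸ C.subgroupOf E) = ⊥)
    (hqs : IsQuasisimple ↥(pResidual p (↥E ⧸ C.subgroupOf E)))
    (hW : W = weakClosure Q E) (hR : R = oP(p, E)) (hEr : Er = oP(p, W)) :
    R ⊔ (E ⊓ C) = Er ⊔ (E ⊓ C) ∧ ⁅Er, Er⁆ = Er ∧ oP(p, Er) = Er ∧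
      ⁅Er, Er ⊓ C⁆ ≤ pCoreOf p Er ∧ pCoreOf p Er ≤ C ∧
      ∀ Y : Subgroup G, Y ≤ E → IsPGroup p ↥Y → ¬ Y ≤ C → ⁅Er, Y⁆ = Er := by
  have huc : UniqConj p Q := isLarge_uniqConj hQ hQ1
  have hWE : W ≤ E := by rw [hW]; exact weakClosure_le Q E
  have hQW : Q ≤ W := by rw [hW]; exact self_le_weakClosure hQE
  have hEW : E ≤ Subgroup.normalizer (W : Set G) := by
    rw [hW]; exact Subgroup.le_normalizer.trans (normalizer_le_normalizer_weakClosure Q E)
  have hErW : Er ≤ W := by rw [hEr]; exact Subgroup.map_subtype_le _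
  have hErE : Er ≤ E := hErW.trans hWE
  have hEEr : E ≤ Subgroup.normalizer (Er : Set G) := by
    rw [hEr]; exact hEW.trans (normalizer_le_normalizer_map_pResidual p W)
  have hRE : R ≤ E := by rw [hR]; exact Subgroup.map_subtype_le _
  have hErR : Er ≤ R := by rw [hEr, hR]; exact map_pResidual_subtype_mono p hWE
  have hEC : E ≤ Subgroup.normalizer (C : Set G) := by
    rw [hC]; exact hEU.trans (normalizer_le_normalizer_centralizer U)
  have hECE : E ≤ Subgroup.normalizer ((E ⊓ C : Subgroup G) : Set G) :=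
    le_normalizer_inf' Subgroup.le_normalizer hEC
  obtain ⟨-, hF4, -⟩ := isLarge_weakClosure_centralizer hQp hQ1 hQ hQE hUp hU1 hEU
  rw [← hW, ← hC] at hF4
  obtain ⟨O, hO⟩ : ∃ O : Subgroup G, O = pCoreOf p W := ⟨_, rfl⟩
  rw [← hO] at hF4
  have hOp : IsPGroup p ↥O := by rw [hO]; exact pCoreOf_isPGroup p W
  have hWO : W ≤ Subgroup.normalizer (O : Set G) := by rw [hO]; exact le_normalizer_pCoreOf p W
  have hEO : E ≤ Subgroup.normalizer (O : Set G) := by
    intro e he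
    rw [hO, mem_normalizer_iff_cj, cj_pCoreOf, cj_of_mem_normalizer (hEW he)]
  have hQC : ¬ Q ≤ C := by
    intro h
    apply hQn
    have hUQ : U ≤ Subgroup.centralizer (Q : Set G) := by
      rw [Subgroup.le_centralizer_iff, ← hC]; exact h
    exact hEU.trans (hQ.2 U hUQ hU1)
  have hOEr : O ⊓ Er ≤ pCoreOf p Er :=
    le_pCoreOf inf_le_right (le_normalizer_inf' (hErW.trans hWO) Subgroup.le_normalizer)
      (hOp.to_le inf_le_left)
  have hD : ⁅Er, Er ⊓ C⁆ ≤ O ⊓ Er := by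
    refine le_inf ((Subgroup.commutator_mono hErW inf_le_right).trans hF4) ?_
    exact (Subgroup.commutator_mono le_rfl inf_le_left).trans (H27.commutator_self_le Er)
  have him : ∀ {A : Subgroup G}, A ≤ E → A ⊔ (E ⊓ C) = R ⊔ (E ⊓ C) →
      (A.subgroupOf E).map (QuotientGroup.mk' (C.subgroupOf E)) =
        pResidual p (↥E ⧸ C.subgroupOf E) := by
    intro A hA h
    rw [(map_mk_subgroupOf_eq_iff hA hRE).mpr h, hR]
    have h1 : (oP(p, E)).subgroupOf E = pResidual p ↥E :=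
      Subgroup.comap_map_eq_self_of_injective E.subtype_injective _
    rw [h1]
    exact map_pResidual_of_surjective _ (QuotientGroup.mk'_surjective _)
  have star : ∀ {A : Subgroup G}, A ≤ E → A ⊔ (E ⊓ C) = R ⊔ (E ⊓ C) →
      ∀ Y : Subgroup G, Y ≤ E → IsPGroup p ↥Y → ¬ Y ≤ C →
        A ⊔ (E ⊓ C) = ⁅A, Y⁆ ⊔ (E ⊓ C) := by
    intro A hA h Y hYE hYp hYC
    have hAY : ⁅A, Y⁆ ≤ E := (Subgroup.commutator_mono hA hYE).trans (H27.commutator_self_le E)
    rw [← map_mk_subgroupOf_eq_iff hA hAY, ← map_mk_subgroupOf_commutator hA hYE, him hA h]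
    symm
    have hP1 : (Y.subgroupOf E).map (QuotientGroup.mk' (C.subgroupOf E)) ≠ ⊥ := by
      rw [Ne, map_mk_subgroupOf_eq_bot_iff hYE]; exact hYC
    exact commutator_pResidual_eq_of_quasisimple hred hqs (hYp.comap_subtype.map _) hP1
  have perf : ∀ {A : Subgroup G}, A ≤ E → A ⊔ (E ⊓ C) = R ⊔ (E ⊓ C) →
      A ⊔ (E ⊓ C) = ⁅A, A⁆ ⊔ (E ⊓ C) := by
    intro A hA h
    have hAA : ⁅A, A⁆ ≤ E := (H27.commutator_self_le A).trans hA
    rw [← map_mk_subgroupOf_eq_iff hA hAA, ← map_mk_subgroupOf_commutator hA hA, him hA h]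
    exact (Subgroup.isPerfect_iff.1 hqs.1).symm
  -- (a)
  have ha : R ⊔ (E ⊓ C) = Er ⊔ (E ⊓ C) := by
    apply le_antisymm _ (sup_le_sup_right hErR _)
    refine sup_le ?_ le_sup_right
    have h1 : R ≤ ⁅R, Q⁆ ⊔ (E ⊓ C) := le_sup_left.trans (star hRE rfl Q hQE hQp hQC).le
    have h2 : ⁅R, Q⁆ ≤ W := (Subgroup.commutator_mono hRE hQW).trans
      (Subgroup.le_normalizer_iff_commutator_le_right.mp hEW)
    have h3 : W ≤ Er ⊔ Q := by
      rw [hEr, hW]; exact huc.weakClosure_le_pResidual_sup hQp hQE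
    have hQB : Q ≤ Subgroup.normalizer ((Er ⊔ (E ⊓ C) : Subgroup G) : Set G) :=
      hQE.trans (le_normalizer_sup hEEr hECE)
    have h4 : oP(p, E) ≤ (Er ⊔ (E ⊓ C)) ⊔ Q := by
      rw [← hR]
      refine h1.trans (sup_le (h2.trans (h3.trans ?_)) (le_sup_right.trans le_sup_left))
      exact sup_le (le_sup_left.trans le_sup_left) le_sup_right
    rw [hR]
    exact map_pResidual_le_of_le_sup hQB hQp h4
  -- (c)
  have hc : oP(p, Er) = Er := by rw [hEr]; exact oP_oP p W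
  have hErn : Er ≤ Subgroup.normalizer ((⁅Er, Er⁆ : Subgroup G) : Set G) :=
    H27.le_normalizer_commutator_self Er
  have hEErr : E ≤ Subgroup.normalizer ((⁅Er, Er⁆ : Subgroup G) : Set G) := by
    intro e he
    rw [mem_normalizer_iff_cj, cj_commutator, cj_of_mem_normalizer (hEEr he)]
  -- (b)
  have hb : ⁅Er, Er⁆ = Er := by
    apply le_antisymm (H27.commutator_self_le Er)
    have h1 : Er ≤ ⁅Er, Er⁆ ⊔ (Er ⊓ C) :=
      le_sup_inf_of_le_sup (H27.commutator_self_le Er) hErE hEC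
        (le_sup_left.trans (perf hErE ha.symm).le)
    obtain ⟨N₁, hN₁⟩ : ∃ N₁ : Subgroup G, N₁ = ⁅Er, Er⁆ ⊔ (O ⊓ Er) := ⟨_, rfl⟩
    have hEN₁ : E ≤ Subgroup.normalizer (N₁ : Set G) := by
      rw [hN₁]; exact le_normalizer_sup hEErr (le_normalizer_inf' hEO hEEr)
    have h2 : Er ≤ commSub Q N₁ := by
      refine h1.trans (sup_le ?_ ?_)
      · intro a ha'
        refine ⟨hEN₁ (hErE (H27.commutator_self_le Er ha')), fun z hz => ?_⟩
        have hz' := hEErr (hQE hz)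
        have h3 : z * a⁻¹ * z⁻¹ ∈ ⁅Er, Er⁆ :=
          (Subgroup.mem_normalizer_iff.mp hz' a⁻¹).mp (Subgroup.inv_mem _ ha')
        rw [hN₁, commutatorElement_def]
        have e : a * z * a⁻¹ * z⁻¹ = a * (z * a⁻¹ * z⁻¹) := by group
        rw [e]
        exact Subgroup.mem_sup_left (Subgroup.mul_mem _ ha' h3)
      · intro d hd
        refine ⟨hEN₁ (hErE hd.1), fun z hz => ?_⟩
        rw [hN₁]
        apply Subgroup.mem_sup_right
        refine ⟨?_, ?_⟩
        · have h3 : ⁅z, d⁆ ∈ ⁅W, C⁆ := Subgroup.commutator_mem_commutator (hQW hz) hd.2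
          have h4 := hF4 h3
          rw [← commutatorElement_inv]
          exact Subgroup.inv_mem _ h4
        · have hz' := hEEr (hQE hz)
          have h3 : z * d⁻¹ * z⁻¹ ∈ Er :=
            (Subgroup.mem_normalizer_iff.mp hz' d⁻¹).mp (Subgroup.inv_mem _ hd.1)
          rw [commutatorElement_def]
          have e : d * z * d⁻¹ * z⁻¹ = d * (z * d⁻¹ * z⁻¹) := by group
          rw [e]
          exact Subgroup.mul_mem _ hd.1 h3
    have h3 : ⁅Er, Q⁆ ≤ N₁ := by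
      rw [Subgroup.commutator_le]
      intro a ha' z hz
      exact (h2 ha').2 z hz
    have h4 : ⁅Er, Q⁆ = Er := by
      rw [hEr, hW]; exact huc.commutator_pResidual_weakClosure hQp hQE
    have h5 : oP(p, Er) ≤ ⁅Er, Er⁆ ⊔ (O ⊓ Er) := by
      rw [hc, ← hN₁]; exact h4.ge.trans h3
    have h6 := map_pResidual_le_of_le_sup (B := ⁅Er, Er⁆) (R := O ⊓ Er)
      (inf_le_right.trans hErn) (hOp.to_le inf_le_left) h5
    rwa [hc] at h6
  -- (f)
  have hf : ∀ Y : Subgroup G, Y ≤ E → IsPGroup p ↥Y → ¬ Y ≤ C → ⁅Er, Y⁆ = Er := by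
    intro Y hYE hYp hYC
    have hN₃E : ⁅Er, Y⁆ ≤ Er :=
      Subgroup.le_normalizer_iff_commutator_le_left.mp (hYE.trans hEEr)
    apply le_antisymm hN₃E
    have hErN₃ : Er ≤ Subgroup.normalizer ((⁅Er, Y⁆ : Subgroup G) : Set G) :=
      le_normalizer_commutator_left Er Y
    have h1 : Er ≤ ⁅Er, Y⁆ ⊔ (Er ⊓ C) :=
      le_sup_inf_of_le_sup hN₃E hErE hEC
        (le_sup_left.trans (star hErE ha.symm Y hYE hYp hYC).le)
    obtain ⟨N₄, hN₄⟩ : ∃ N₄ : Subgroup G, N₄ = ⁅Er, Y⁆ ⊔ (O ⊓ Er) := ⟨_, rfl⟩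
    have hErN₄ : Er ≤ Subgroup.normalizer (N₄ : Set G) := by
      rw [hN₄]
      exact le_normalizer_sup hErN₃ (le_normalizer_inf' (hErW.trans hWO) Subgroup.le_normalizer)
    have h2 : Er ≤ commSub Er N₄ := by
      refine h1.trans (sup_le ?_ ?_)
      · intro a ha'
        refine ⟨hErN₄ (hN₃E ha'), fun z hz => ?_⟩
        have hz' := hErN₃ hz
        have h3 : z * a⁻¹ * z⁻¹ ∈ ⁅Er, Y⁆ :=
          (Subgroup.mem_normalizer_iff.mp hz' a⁻¹).mp (Subgroup.inv_mem _ ha')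
        rw [hN₄, commutatorElement_def]
        have e : a * z * a⁻¹ * z⁻¹ = a * (z * a⁻¹ * z⁻¹) := by group
        rw [e]
        exact Subgroup.mem_sup_left (Subgroup.mul_mem _ ha' h3)
      · intro d hd
        refine ⟨hErN₄ hd.1, fun z hz => ?_⟩
        rw [hN₄]
        apply Subgroup.mem_sup_right
        have h3 : ⁅z, d⁆ ∈ ⁅Er, Er ⊓ C⁆ := Subgroup.commutator_mem_commutator hz hd
        have h4 := hD h3
        rw [← commutatorElement_inv]
        exact Subgroup.inv_mem _ h4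
    have h3 : ⁅Er, Er⁆ ≤ N₄ := by
      rw [Subgroup.commutator_le]
      intro a ha' z hz
      exact (h2 ha').2 z hz
    have h5 : oP(p, Er) ≤ ⁅Er, Y⁆ ⊔ (O ⊓ Er) := by
      rw [hc, ← hN₄]; exact hb.ge.trans h3
    have h6 := map_pResidual_le_of_le_sup (B := ⁅Er, Y⁆) (R := O ⊓ Er)
      (inf_le_right.trans hErN₃) (hOp.to_le inf_le_left) h5
    rwa [hc] at h6
  -- (e)
  have he : pCoreOf p Er ≤ C := by
    have hcrit := (pCore_quotient_eq_bot_iff (C.subgroupOf E)).mp hred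
    have hEP : E ≤ Subgroup.normalizer ((pCoreOf p Er : Subgroup G) : Set G) := by
      intro e he'
      rw [mem_normalizer_iff_cj, cj_pCoreOf, cj_of_mem_normalizer (hEEr he')]
    have hPE : pCoreOf p Er ≤ E := (pCoreOf_le p Er).trans hErE
    have h1 := hcrit ((pCoreOf p Er).subgroupOf E)
      (Subgroup.normal_subgroupOf_of_le_normalizer hEP) (by
        intro d hd
        obtain ⟨k, hk⟩ := (pCoreOf_isPGroup p Er) ⟨d.1, Subgroup.mem_subgroupOf.mp hd⟩
        refine ⟨k, ?_⟩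
        have h2 := congrArg Subtype.val hk
        rw [Subgroup.coe_pow] at h2
        have h3 : d ^ p ^ k = 1 := Subtype.ext (by rw [Subgroup.coe_pow]; exact h2)
        rw [h3]; exact Subgroup.one_mem _)
    intro x hx
    exact Subgroup.mem_subgroupOf.mp (h1 (show (⟨x, hPE hx⟩ : ↥E) ∈ (pCoreOf p Er).subgroupOf E
      from Subgroup.mem_subgroupOf.mpr hx))
  exact ⟨ha, hb, hc, hD.trans hOEr, he, hf⟩

end

end Cfsg.Agent.H53
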