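import Mathlib
import Cfsg.Prelude.Def_LocalStructure
import Cfsg.Agent.H53.QS2

set_option autoImplicit false

namespace Cfsg.Agent.H53

open Cfsg
open scoped commutatorElement Pointwise

section

variable {p : ℕ} [Fact p.Prime] {G : Type*} [Group G] [Finite G]

/-- The structure of `E_∘ = O^p(E°)` when `O^p(E) C_E(U) / C_E(U)` is quasisimple. -/
theorem quasisimple_weakClosure {Q U E C Er : Subgroup G} (hQp : IsPGroup p ↥Q)
    (hQ1 : Q ≠ ⊥) (hQ : IsLarge Q) (hUp : IsPGroup p ↥U) (hU1 : U ≠ ⊥) (hQE : Q ≤ E)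
    (hEU : E ≤ Subgroup.normalizer (U : Set G))
    (hQn : ¬ E ≤ Subgroup.normalizer (Q : Set G))
    (hC : C = Subgroup.centralizer (U : Set G))
    [hn : (C.subgroupOf E).Normal]
    (hred : pCore p (↥E ⧸ C.subgroupOf E) = ⊥)
    (hqs : IsQuasisimple ↥((pResidual p ↥E ⊔ C.subgroupOf E).map
      (QuotientGroup.mk' (C.subgroupOf E))))
    (hEr : Er = oP(p, (weakClosure Q E)))
    [hn2 : (C.subgroupOf Er).Normal] :
    oP(p, E) ⊔ (E ⊓ C) = Er ⊔ (E ⊓ C) ∧ ⁅Er, Er⁆ = Er ∧ oP(p, Er) = Er ∧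
      IsQuasisimple (↥Er ⧸ C.subgroupOf Er) ∧ IsQuasisimple (↥Er ⧸ pCore p ↥Er) ∧
      ∀ Y : Subgroup G, Y ≤ E → IsPGroup p ↥Y → ¬ Y ≤ C → ⁅Er, Y⁆ = Er := by
  have hK : (pResidual p ↥E ⊔ C.subgroupOf E).map (QuotientGroup.mk' (C.subgroupOf E)) =
      pResidual p (↥E ⧸ C.subgroupOf E) := by
    rw [Subgroup.map_sup,
      (Subgroup.map_eq_bot_iff _).mpr (le_of_eq (QuotientGroup.ker_mk' _).symm), sup_bot_eq]
    exact map_pResidual_of_surjective _ (QuotientGroup.mk'_surjective _)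
  have hqs' : IsQuasisimple ↥(pResidual p (↥E ⧸ C.subgroupOf E)) := by rw [← hK]; exact hqs
  obtain ⟨ha, hb, hc, hd, he, hf⟩ := quasisimple_weakClosure_ambient hQp hQ1 hQ hUp hU1 hQE hEU
    hQn hC hred hqs' rfl rfl hEr
  have hErE : Er ≤ E := by
    rw [hEr]; exact (Subgroup.map_subtype_le _).trans (weakClosure_le Q E)
  have h4 : IsQuasisimple (↥Er ⧸ C.subgroupOf Er) := by
    let f : ↥Er →* ↥E ⧸ C.subgroupOf E :=
      (QuotientGroup.mk' (C.subgroupOf E)).comp (Subgroup.inclusion hErE)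
    have hker : C.subgroupOf Er = f.ker := by
      ext x
      rw [MonoidHom.mem_ker, Subgroup.mem_subgroupOf]
      show (x : G) ∈ C ↔ QuotientGroup.mk' (C.subgroupOf E) (Subgroup.inclusion hErE x) = 1
      rw [QuotientGroup.mk'_apply, QuotientGroup.eq_one_iff, Subgroup.mem_subgroupOf]
      rfl
    have hrange : f.range = pResidual p (↥E ⧸ C.subgroupOf E) := by
      rw [MonoidHom.range_comp, Subgroup.inclusion_range,
        (map_mk_subgroupOf_eq_iff hErE (Subgroup.map_subtype_le _)).mpr ha.symm]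
      have h1 : (oP(p, E)).subgroupOf E = pResidual p ↥E :=
        Subgroup.comap_map_eq_self_of_injective E.subtype_injective _
      rw [h1]
      exact map_pResidual_of_surjective _ (QuotientGroup.mk'_surjective _)
    have e₁ : ↥Er ⧸ C.subgroupOf Er ≃* ↥Er ⧸ f.ker := QuotientGroup.quotientMulEquivOfEq hker
    have e₂ : ↥Er ⧸ f.ker ≃* f.range := QuotientGroup.quotientKerEquivRange f
    have e₃ : f.range ≃* ↥(pResidual p (↥E ⧸ C.subgroupOf E)) := MulEquiv.subgroupCongr hrange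
    exact H27.quasisimple_of_mulEquiv ((e₁.trans e₂).trans e₃).symm hqs'
  have h5 : IsQuasisimple (↥Er ⧸ pCore p ↥Er) := by
    have hle : pCore p ↥Er ≤ (C.subgroupOf Er).comap (MonoidHom.id ↥Er) := by
      intro x hx
      rw [Subgroup.mem_comap, MonoidHom.id_apply, Subgroup.mem_subgroupOf]
      exact he ⟨x, hx, rfl⟩
    let g : ↥Er ⧸ pCore p ↥Er →* ↥Er ⧸ C.subgroupOf Er :=
      QuotientGroup.map _ _ (MonoidHom.id ↥Er) hle
    have hg : Function.Surjective g := by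
      intro y
      obtain ⟨x, rfl⟩ := QuotientGroup.mk'_surjective _ y
      exact ⟨QuotientGroup.mk' _ x, rfl⟩
    have hperf : Group.IsPerfect (↥Er ⧸ pCore p ↥Er) := by
      haveI : Group.IsPerfect ↥Er := Subgroup.isPerfect_iff.2 hb
      infer_instance
    refine H27.quasisimple_of_central_ker g hg ?_ hperf h4
    intro y hy
    obtain ⟨x, rfl⟩ := QuotientGroup.mk'_surjective _ y
    have hx : x ∈ C.subgroupOf Er := by
      have h1 : (QuotientGroup.mk' (C.subgroupOf Er)) x = 1 := hy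
      exact (QuotientGroup.eq_one_iff x).mp h1
    rw [Subgroup.mem_center_iff]
    intro z
    obtain ⟨w, rfl⟩ := QuotientGroup.mk'_surjective _ z
    symm
    show ((x * w : ↥Er) : ↥Er ⧸ pCore p ↥Er) = ((w * x : ↥Er) : ↥Er ⧸ pCore p ↥Er)
    rw [QuotientGroup.eq]
    have hcomm : ⁅(w : G)⁻¹, (x : G)⁻¹⁆ ∈ pCoreOf p Er :=
      hd (Subgroup.commutator_mem_commutator (Er.inv_mem w.2)
        ⟨Er.inv_mem x.2, C.inv_mem (Subgroup.mem_subgroupOf.mp hx)⟩)
    obtain ⟨h1, h2⟩ := mem_pCoreOf.mp hcomm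
    have e : (x * w)⁻¹ * (w * x) = ⟨⁅(w : G)⁻¹, (x : G)⁻¹⁆, h1⟩ := by
      apply Subtype.ext
      simp only [Subgroup.coe_mul, Subgroup.coe_inv, commutatorElement_def]
      group
    rw [e]
    exact h2
  exact ⟨ha, hb, hc, h4, h5, hf⟩

end

end Cfsg.Agent.H53
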