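import Mathlib

/-!
# S3361, piece P-C (helper53 for helper13): semilinear + transitive + `q` odd gives a normal
subgroup of index 2
-/

set_option autoImplicit false

namespace Cfsg.Agent.H53.Reg

theorem index_two_of_semilinear (q : ℕ) [Fact q.Prime] (hq : q ≠ 2) {V : Type*} [AddCommGroup V]
    [Module (ZMod q) V] [Finite V] [Nontrivial V] {G : Type*} [Group G] [Finite G]
    (ρ : G →* (V ≃ₗ[ZMod q] V))
    (htrans : ∀ v w : V, v ≠ 0 → w ≠ 0 → ∃ g : G, ρ g v = w)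
    (F : Type) [Field F] [Fintype F] (e : V ≃+ F)
    (hsl : ∀ g : G, ∃ (a : F) (σ : F ≃+* F), ∀ v : V, e (ρ g v) = a * σ (e v)) :
    ∃ N : Subgroup G, N.Normal ∧ N.index = 2 := by
  have hqF : (q : F) = 0 := by
    have h1 : (q : ℕ) • (e.symm 1) = 0 := by
      rw [← Nat.cast_smul_eq_nsmul (ZMod q), ZMod.natCast_self, zero_smul]
    have h2 : e ((q : ℕ) • (e.symm 1)) = (q : ℕ) • (1 : F) := by
      rw [map_nsmul, AddEquiv.apply_symm_apply]
    rw [h1, map_zero, nsmul_eq_mul, mul_one] at h2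
    exact h2.symm
  have hF : ringChar F ≠ 2 := by
    intro h
    have h1 : ringChar F ∣ q := ringChar.dvd hqF
    rw [h] at h1
    exact hq ((Nat.prime_dvd_prime_iff_eq Nat.prime_two (Fact.out : q.Prime)).mp h1).symm
  have hneg : (-1 : F) ≠ 1 := Ring.neg_one_ne_one_of_char_ne_two hF
  obtain ⟨v₁, hv₁⟩ : ∃ v₁ : V, v₁ = e.symm 1 := ⟨_, rfl⟩
  have hev₁ : e v₁ = 1 := by rw [hv₁, AddEquiv.apply_symm_apply]
  have hv₁0 : v₁ ≠ 0 := by
    intro h
    rw [h, map_zero] at hev₁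
    exact zero_ne_one hev₁
  have ha0 : ∀ g : G, e (ρ g v₁) ≠ 0 := by
    intro g h
    have h1 : ρ g v₁ = 0 := e.injective (h.trans (map_zero e).symm)
    have h2 : v₁ = 0 := (ρ g).injective (h1.trans (map_zero (ρ g)).symm)
    exact hv₁0 h2
  have hsl' : ∀ g : G, ∃ σ : F ≃+* F, ∀ v : V, e (ρ g v) = e (ρ g v₁) * σ (e v) := by
    intro g
    obtain ⟨a, σ, h⟩ := hsl g
    refine ⟨σ, ?_⟩
    have h1 := h v₁
    rw [hev₁, map_one, mul_one] at h1
    rw [h1]
    exact h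
  obtain ⟨m, hm⟩ : ∃ m : ℕ, m = Fintype.card F / 2 := ⟨_, rfl⟩
  have hdich : ∀ g : G, e (ρ g v₁) ^ m = 1 ∨ e (ρ g v₁) ^ m = -1 := by
    intro g
    rw [hm]
    exact FiniteField.pow_dichotomy hF (ha0 g)
  have hmul : ∀ g h : G, e (ρ (g * h) v₁) ^ m = e (ρ g v₁) ^ m * e (ρ h v₁) ^ m := by
    intro g h
    obtain ⟨σ, hσ⟩ := hsl' g
    have h1 : e (ρ (g * h) v₁) = e (ρ g v₁) * σ (e (ρ h v₁)) := by
      rw [map_mul]
      exact hσ (ρ h v₁)
    rw [h1, mul_pow, ← map_pow σ]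
    rcases hdich h with h2 | h2
    · rw [h2, map_one]
    · rw [h2, map_neg, map_one]
  let ψ : G →* F :=
    { toFun := fun g => e (ρ g v₁) ^ m
      map_one' := by
        show e (ρ 1 v₁) ^ m = 1
        rw [map_one]
        show e v₁ ^ m = 1
        rw [hev₁, one_pow]
      map_mul' := hmul }
  have hψ : ∀ g, ψ g = e (ρ g v₁) ^ m := fun g => rfl
  obtain ⟨x, hx⟩ := FiniteField.exists_nonsquare hF
  have hx0 : x ≠ 0 := by
    rintro rfl
    exact hx IsSquare.zero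
  have hxm : x ^ m = -1 := by
    have h1 : x ^ m = 1 ∨ x ^ m = -1 := by
      rw [hm]
      exact FiniteField.pow_dichotomy hF hx0
    rcases h1 with h | h
    · rw [hm] at h
      exact absurd ((FiniteField.isSquare_iff hF hx0).mpr h) hx
    · exact h
  have hex0 : e.symm x ≠ 0 := by
    intro h
    apply hx0
    have h1 := congrArg e h
    rwa [AddEquiv.apply_symm_apply, map_zero] at h1
  obtain ⟨g₀, hg₀⟩ := htrans v₁ (e.symm x) hv₁0 hex0
  have hψg₀ : ψ g₀ = -1 := by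
    rw [hψ, hg₀, AddEquiv.apply_symm_apply, hxm]
  refine ⟨ψ.ker, inferInstance, ?_⟩
  rw [Subgroup.index_eq_two_iff]
  refine ⟨g₀, fun b => ?_⟩
  rw [MonoidHom.mem_ker, MonoidHom.mem_ker, map_mul, hψg₀]
  rcases hdich b with h | h
  · have hb : ψ b = 1 := h
    rw [hb, one_mul]
    exact Or.inr ⟨rfl, hneg⟩
  · have hb : ψ b = -1 := h
    rw [hb]
    exact Or.inl ⟨by ring, hneg⟩

/-- verbatim check of the posted statement -/
example (q : ℕ) [Fact q.Prime] (hq : q ≠ 2) {V : Type*} [AddCommGroup V]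
    [Module (ZMod q) V] [Finite V] [Nontrivial V] {G : Type*} [Group G] [Finite G]
    (ρ : G →* (V ≃ₗ[ZMod q] V))
    (htrans : ∀ v w : V, v ≠ 0 → w ≠ 0 → ∃ g : G, ρ g v = w)
    (F : Type) [Field F] [Fintype F] (e : V ≃+ F)
    (hsl : ∀ g : G, ∃ (a : F) (σ : F ≃+* F), ∀ v : V, e (ρ g v) = a * σ (e v)) :
    ∃ N : Subgroup G, N.Normal ∧ N.index = 2 :=
  index_two_of_semilinear q hq ρ htrans F e hsl

end Cfsg.Agent.H53.Reg
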