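import Mathlib

/-!
# S3361, piece P-E1 (helper53 for helper13): the unique involution survives an odd-order quotient
-/

set_option autoImplicit false

namespace Cfsg.Agent.H53.Reg

theorem invol_quot {G : Type*} [Group G] [Finite G] (N : Subgroup G) [N.Normal]
    (hodd : Odd (Nat.card N)) (z : G) (hz1 : z ≠ 1) (hz2 : z ^ 2 = 1)
    (huniq : ∀ t : G, t ^ 2 = 1 → t = 1 ∨ t = z) :
    (QuotientGroup.mk z : G ⧸ N) ≠ 1 ∧
      ∀ t : G ⧸ N, t ^ 2 = 1 → t = 1 ∨ t = (QuotientGroup.mk z : G ⧸ N) := by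
  constructor
  · intro h
    have hzN : z ∈ N := (QuotientGroup.eq_one_iff z).mp h
    have h2 : orderOf z = 2 := orderOf_eq_prime hz2 hz1
    have h3 : orderOf z ∣ Nat.card N := Subgroup.orderOf_dvd_natCard N hzN
    rw [h2] at h3
    exact (Nat.not_even_iff_odd.mpr hodd) (even_iff_two_dvd.mpr h3)
  · intro t ht
    obtain ⟨x, rfl⟩ := QuotientGroup.mk_surjective t
    obtain ⟨k, hk⟩ := hodd
    have hx2 : x ^ 2 ∈ N := by
      rw [← QuotientGroup.eq_one_iff, QuotientGroup.mk_pow]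
      exact ht
    have hy2 : (x ^ Nat.card N) ^ 2 = 1 := by
      rw [← pow_mul, mul_comm, pow_mul]
      have h1 : (⟨x ^ 2, hx2⟩ : N) ^ Nat.card N = 1 := pow_card_eq_one'
      exact congrArg Subtype.val h1
    have hmk : (QuotientGroup.mk (x ^ Nat.card N) : G ⧸ N) = QuotientGroup.mk x := by
      rw [hk, pow_succ, pow_mul, QuotientGroup.mk_mul, QuotientGroup.mk_pow,
        QuotientGroup.mk_pow, ht, one_pow, one_mul]
    rcases huniq _ hy2 with h | h
    · left
      rw [← hmk, h]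
      rfl
    · right
      rw [← hmk, h]

/-- verbatim check of the posted statement -/
example {G : Type*} [Group G] [Finite G] (N : Subgroup G) [N.Normal]
    (hodd : Odd (Nat.card N)) (z : G) (hz1 : z ≠ 1) (hz2 : z ^ 2 = 1)
    (huniq : ∀ t : G, t ^ 2 = 1 → t = 1 ∨ t = z) :
    (QuotientGroup.mk z : G ⧸ N) ≠ 1 ∧
      ∀ t : G ⧸ N, t ^ 2 = 1 → t = 1 ∨ t = (QuotientGroup.mk z : G ⧸ N) :=
  invol_quot N hodd z hz1 hz2 huniq

end Cfsg.Agent.H53.Reg
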