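import Mathlib

/-!
# S3361, piece P-F (helper53 for helper13): an extension of `SL(2, 3)` by a normal subgroup of
order `5` is the direct product
-/

set_option autoImplicit false

namespace Cfsg.Agent.H53.Reg

open Matrix

/-- an upper unitriangular element of `SL(2, 3)` -/
def pfT : Matrix.SpecialLinearGroup (Fin 2) (ZMod 3) := ⟨!![1, 1; 0, 1], by decide⟩

/-- a lower unitriangular element of `SL(2, 3)` -/
def pfU : Matrix.SpecialLinearGroup (Fin 2) (ZMod 3) := ⟨!![1, 0; 1, 1], by decide⟩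

/-- the powers of `pfT` -/
def pfTp : Fin 3 → Matrix.SpecialLinearGroup (Fin 2) (ZMod 3) := ![1, pfT, pfT * pfT]

/-- the powers of `pfU` -/
def pfUp : Fin 3 → Matrix.SpecialLinearGroup (Fin 2) (ZMod 3) := ![1, pfU, pfU * pfU]

set_option maxRecDepth 1000000 in
theorem pf_card : Nat.card (Matrix.SpecialLinearGroup (Fin 2) (ZMod 3)) = 24 := by
  rw [Nat.card_eq_fintype_card]
  decide

set_option maxRecDepth 1000000 in
theorem pf_words : ∀ g : Matrix.SpecialLinearGroup (Fin 2) (ZMod 3), ∃ i j k l : Fin 3,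
    g = pfTp i * pfUp j * pfTp k * pfUp l := by
  decide

set_option maxRecDepth 1000000 in
theorem pf_cube : ∀ i : Fin 3, pfTp i * pfTp i * pfTp i = 1 ∧ pfUp i * pfUp i * pfUp i = 1 := by
  decide

/-- every homomorphism from `SL(2, 3)` to a group of exponent dividing `4` is trivial -/
theorem pf_hom_trivial {A : Type*} [Group A] (h4 : ∀ a : A, a ^ 4 = 1)
    (φ : Matrix.SpecialLinearGroup (Fin 2) (ZMod 3) →* A)
    (g : Matrix.SpecialLinearGroup (Fin 2) (ZMod 3)) : φ g = 1 := by
  have h3 : ∀ x : Matrix.SpecialLinearGroup (Fin 2) (ZMod 3), x * x * x = 1 → φ x = 1 := by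
    intro x hx
    have h1 : φ x ^ 3 = 1 := by
      rw [← map_pow, pow_succ, pow_two, hx, map_one]
    have h2 := h4 (φ x)
    rw [pow_succ, h1, one_mul] at h2
    exact h2
  obtain ⟨i, j, k, l, h⟩ := pf_words g
  rw [h, map_mul, map_mul, map_mul, h3 _ (pf_cube i).1, h3 _ (pf_cube j).2, h3 _ (pf_cube k).1,
    h3 _ (pf_cube l).2, one_mul, one_mul, one_mul]

theorem sl23_times_c5 {G : Type*} [Group G] [Finite G] (N : Subgroup G) [N.Normal]
    (hN : Nat.card N = 5)
    (hQ : Nonempty (G ⧸ N ≃* Matrix.SpecialLinearGroup (Fin 2) (ZMod 3))) :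
    Nonempty (G ≃* Matrix.SpecialLinearGroup (Fin 2) (ZMod 3) × Multiplicative (ZMod 5)) := by
  obtain ⟨e⟩ := hQ
  have : Fact (Nat.Prime 5) := ⟨by norm_num⟩
  have hcyc : IsCyclic N := isCyclic_of_prime_card (p := 5) hN
  have hNcomm : ∀ x y : N, x * y = y * x := by
    intro x y
    let _ := IsCyclic.commGroup (α := N)
    exact mul_comm x y
  have hunits : ∀ (m : ℕ), m = 5 → ∀ a : (ZMod m)ˣ, a ^ 4 = 1 := by
    intro m hm
    subst hm
    decide
  -- the conjugation action on `N`, read in `(ZMod 5)ˣ`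
  obtain ⟨ψ, hψ⟩ : ∃ ψ : G →* (ZMod (Nat.card N))ˣ,
      ψ = (IsCyclic.mulAutMulEquiv N).toMonoidHom.comp (MulAut.conjNormal (H := N)) := ⟨_, rfl⟩
  have hψa : ∀ g : G, ψ g = (IsCyclic.mulAutMulEquiv N) (MulAut.conjNormal g) := by
    intro g
    rw [hψ]
    rfl
  have hker : N ≤ ψ.ker := by
    intro n hn
    rw [MonoidHom.mem_ker, hψa]
    have h1 : (MulAut.conjNormal n : MulAut N) = 1 := by
      ext x
      rw [MulAut.conjNormal_apply]
      have h2 : n * (x : G) = x * n := congrArg Subtype.val (hNcomm ⟨n, hn⟩ x)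
      rw [h2]
      simp
    rw [h1, map_one]
  have hψ1 : ∀ g : G, ψ g = 1 := by
    intro g
    have h1 := pf_hom_trivial (hunits _ hN)
      ((QuotientGroup.lift N ψ hker).comp e.symm.toMonoidHom) (e (QuotientGroup.mk g))
    rw [MonoidHom.comp_apply] at h1
    have h2 : e.symm.toMonoidHom (e (QuotientGroup.mk g)) = (QuotientGroup.mk g : G ⧸ N) :=
      e.symm_apply_apply _
    rw [h2] at h1
    exact h1
  have hcentral : ∀ g : G, ∀ n ∈ N, g * n = n * g := by
    intro g n hn
    have h1 : (MulAut.conjNormal g : MulAut N) = 1 := by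
      have h2 := hψ1 g
      rw [hψa] at h2
      exact (MulEquiv.map_eq_one_iff (IsCyclic.mulAutMulEquiv N)).mp h2
    have h3 : ((MulAut.conjNormal g : MulAut N) ⟨n, hn⟩ : G) = g * n * g⁻¹ :=
      MulAut.conjNormal_apply _ _
    rw [h1] at h3
    have h4 : n = g * n * g⁻¹ := h3
    calc g * n = (g * n * g⁻¹) * g := by group
      _ = n * g := by rw [← h4]
  -- a complement
  have hidx : N.index = 24 := by
    rw [Subgroup.index, Nat.card_congr e.toEquiv, pf_card]
  obtain ⟨K, hK⟩ := Subgroup.exists_right_complement'_of_coprime (N := N)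
    (by rw [hN, hidx]; norm_num)
  have hbij : Function.Bijective (fun x : N × K => (x.1 : G) * (x.2 : G)) := hK
  let F : N × K →* G :=
    { toFun := fun x => (x.1 : G) * (x.2 : G)
      map_one' := by simp
      map_mul' := by
        rintro ⟨n₁, k₁⟩ ⟨n₂, k₂⟩
        show ((n₁ * n₂ : N) : G) * ((k₁ * k₂ : K) : G) = (n₁ : G) * k₁ * ((n₂ : G) * k₂)
        have h1 := hcentral (k₁ : G) (n₂ : G) n₂.2
        rw [Subgroup.coe_mul, Subgroup.coe_mul]
        calc (n₁ : G) * n₂ * (k₁ * k₂) = n₁ * (n₂ * k₁) * k₂ := by group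
          _ = n₁ * (k₁ * n₂) * k₂ := by rw [h1]
          _ = n₁ * k₁ * (n₂ * k₂) := by group }
  have eG : N × K ≃* G := MulEquiv.ofBijective F hbij
  have hKq : Function.Bijective ((QuotientGroup.mk' N).comp K.subtype) := by
    rw [Nat.bijective_iff_injective_and_card]
    constructor
    · rw [injective_iff_map_eq_one]
      intro k hk
      have h1 : (k : G) ∈ N := (QuotientGroup.eq_one_iff _).mp hk
      have h2 : (k : G) ∈ N ⊓ K := ⟨h1, k.2⟩
      rw [disjoint_iff.mp hK.disjoint, Subgroup.mem_bot] at h2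
      exact Subtype.ext h2
    · have h1 : N.index = Nat.card K := hK.symm.index_eq_card
      rw [← h1]
      rfl
  have eK : K ≃* G ⧸ N := MulEquiv.ofBijective _ hKq
  have eN : N ≃* Multiplicative (ZMod 5) :=
    mulEquivOfPrimeCardEq (p := 5) hN (Nat.card_zmod 5)
  exact ⟨eG.symm.trans ((MulEquiv.prodCongr eN (eK.trans e)).trans MulEquiv.prodComm)⟩

/-- verbatim check of the posted statement -/
example {G : Type*} [Group G] [Finite G] (N : Subgroup G) [N.Normal]
    (hN : Nat.card N = 5)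
    (hQ : Nonempty (G ⧸ N ≃* Matrix.SpecialLinearGroup (Fin 2) (ZMod 3))) :
    Nonempty (G ≃* Matrix.SpecialLinearGroup (Fin 2) (ZMod 3) × Multiplicative (ZMod 5)) :=
  sl23_times_c5 N hN hQ

end Cfsg.Agent.H53.Reg
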