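import Mathlib
import Cfsg.Prelude
import Cfsg.Agent.H5.BaerSuzuki
import Cfsg.Agent.H14.Cores

/-!
# S5048, piece CORE (helper53 for helper85): Baer–Suzuki in `N⟨a⟩`
-/

set_option autoImplicit false

namespace Cfsg.Agent.H53.RootInv

/-- every element of a group generated by two involutions whose product has order dividing 4
has order dividing 4. -/
theorem rc_dih {Γ : Type*} [Group Γ] {a b : Γ} (ha : a * a = 1) (hb : b * b = 1)
    (h4 : (a * b) ^ 4 = 1) : ∀ x ∈ Subgroup.closure ({a, b} : Set Γ), x ^ 4 = 1 := by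
  have hrinv : b * a = (a * b)⁻¹ := by
    rw [eq_inv_iff_mul_eq_one]
    calc b * a * (a * b) = b * (a * a) * b := by group
      _ = 1 := by rw [ha, mul_one, hb]
  have hainv : a⁻¹ = a := inv_eq_of_mul_eq_one_left ha
  have hbinv : b⁻¹ = b := inv_eq_of_mul_eq_one_left hb
  have hall : ∀ x ∈ Subgroup.closure ({a, b} : Set Γ),
      x ∈ Subgroup.zpowers (a * b) ∨ a * x ∈ Subgroup.zpowers (a * b) := by
    intro x hx
    have hstep : ∀ s ∈ ({a, b} : Set Γ), ∀ y : Γ,
        (y ∈ Subgroup.zpowers (a * b) ∨ a * y ∈ Subgroup.zpowers (a * b)) →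
        (s * y ∈ Subgroup.zpowers (a * b) ∨ a * (s * y) ∈ Subgroup.zpowers (a * b)) := by
      intro s hs y hy
      rcases hs with hs | hs
      · rw [hs]
        rcases hy with hy | hy
        · right
          rw [← mul_assoc, ha, one_mul]
          exact hy
        · left
          exact hy
      · rw [Set.mem_singleton_iff] at hs
        rw [hs]
        rcases hy with hy | hy
        · right
          rw [← mul_assoc]
          exact (Subgroup.zpowers (a * b)).mul_mem (Subgroup.mem_zpowers _) hy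
        · left
          have e : b * y = (b * a) * (a * y) := by
            rw [mul_assoc, ← mul_assoc a a y, ha, one_mul]
          rw [e, hrinv]
          exact (Subgroup.zpowers (a * b)).mul_mem
            ((Subgroup.zpowers (a * b)).inv_mem (Subgroup.mem_zpowers _)) hy
    have hinv : ∀ s ∈ ({a, b} : Set Γ), s⁻¹ = s := by
      intro s hs
      rcases hs with hs | hs
      · rw [hs]
        exact hainv
      · rw [Set.mem_singleton_iff] at hs
        rw [hs]
        exact hbinv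
    refine Subgroup.closure_induction_left
      (p := fun y _ => y ∈ Subgroup.zpowers (a * b) ∨ a * y ∈ Subgroup.zpowers (a * b))
      ?_ ?_ ?_ hx
    · left
      exact (Subgroup.zpowers (a * b)).one_mem
    · intro s hs y _ hy
      exact hstep s hs y hy
    · intro s hs y _ hy
      rw [hinv s hs]
      exact hstep s hs y hy
  intro x hx
  rcases hall x hx with h | h
  · obtain ⟨k, rfl⟩ := Subgroup.mem_zpowers_iff.mp h
    calc ((a * b) ^ k) ^ 4 = ((a * b) ^ 4) ^ k := by
          rw [← zpow_natCast ((a * b) ^ k) 4, ← zpow_mul, mul_comm, zpow_mul, zpow_natCast]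
      _ = 1 := by rw [h4, one_zpow]
  · obtain ⟨k, hk⟩ := Subgroup.mem_zpowers_iff.mp h
    have hx' : x = a * (a * b) ^ k := by
      calc x = a * (a * x) := by rw [← mul_assoc, ha, one_mul]
        _ = a * (a * b) ^ k := by rw [hk]
    have hconj : a * (a * b) * a⁻¹ = (a * b)⁻¹ := by
      rw [hainv, ← hrinv]
      calc a * (a * b) * a = (a * a) * b * a := by group
        _ = b * a := by rw [ha, one_mul]
    have hconjk : a * (a * b) ^ k * a⁻¹ = ((a * b) ^ k)⁻¹ := by
      rw [← conj_zpow, hconj, inv_zpow]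
    have hsq : x * x = 1 := by
      rw [hx']
      calc a * (a * b) ^ k * (a * (a * b) ^ k)
          = (a * (a * b) ^ k * a⁻¹) * (a * a) * (a * b) ^ k := by group
        _ = 1 := by rw [hconjk, ha, mul_one, inv_mul_cancel]
    have h44 : x ^ 4 = (x * x) * (x * x) := by
      rw [show (4 : ℕ) = 2 + 2 from rfl, pow_add, pow_two]
    rw [h44, hsq, one_mul]

theorem comm_mem_core {G : Type*} [Group G] [Finite G] {a : G} (ha : orderOf a = 2)
    (N : Subgroup G) [N.Normal] (h4 : ∀ n ∈ N, orderOf (a * (n * a * n⁻¹)) ∣ 4) :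
    ∀ n ∈ N, a * n * a⁻¹ * n⁻¹ ∈ Cfsg.pCore 2 G := by
  have hN : N.Normal := inferInstance
  have haa : a * a = 1 := by
    have h1 := pow_orderOf_eq_one a
    rw [ha, pow_two] at h1
    exact h1
  obtain ⟨X, hX⟩ : ∃ X : Subgroup G, X = N ⊔ Subgroup.zpowers a := ⟨_, rfl⟩
  have hNX : N ≤ X := hX ▸ le_sup_left
  have haX : a ∈ X :=
    hX ▸ (le_sup_right : Subgroup.zpowers a ≤ N ⊔ Subgroup.zpowers a) (Subgroup.mem_zpowers a)
  have hconj : ∀ g ∈ X, ∃ n ∈ N, g * a * g⁻¹ = n * a * n⁻¹ := by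
    intro g hg
    rw [hX] at hg
    have hg' : g ∈ ((N ⊔ Subgroup.zpowers a : Subgroup G) : Set G) := hg
    rw [Subgroup.normal_mul] at hg'
    obtain ⟨n, hn, z, hz, rfl⟩ := Set.mem_mul.mp hg'
    obtain ⟨k, rfl⟩ := Subgroup.mem_zpowers_iff.mp hz
    refine ⟨n, hn, ?_⟩
    have h1 : a ^ k * a * (a ^ k)⁻¹ = a := by
      have h2 : Commute (a ^ k) a := Commute.zpow_left (Commute.refl a) k
      rw [h2.eq]
      group
    calc n * a ^ k * a * (n * a ^ k)⁻¹ = n * (a ^ k * a * (a ^ k)⁻¹) * n⁻¹ := by group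
      _ = n * a * n⁻¹ := by rw [h1]
  -- Baer–Suzuki in `↥X`
  obtain ⟨a', ha'⟩ : ∃ a' : X, (a' : G) = a := ⟨⟨a, haX⟩, rfl⟩
  have ha'2 : a' * a' = 1 := Subtype.ext (by rw [Subgroup.coe_mul, ha', haa]; rfl)
  have hoa' : orderOf a' = 2 := by rw [← Subgroup.orderOf_coe, ha', ha]
  have hpX0 : IsPGroup 2 (Subgroup.zpowers a') :=
    IsPGroup.of_card (n := 1) (by rw [Nat.card_zpowers, hoa', pow_one])
  have hBS : ∀ g : X, IsPGroup 2 ↥(Subgroup.zpowers a' ⊔
      (Subgroup.zpowers a').map (MulAut.conj g).toMonoidHom) := by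
    intro g
    obtain ⟨n, hn, hgn⟩ := hconj g g.2
    have hb'2 : (g * a' * g⁻¹) * (g * a' * g⁻¹) = 1 := by
      calc (g * a' * g⁻¹) * (g * a' * g⁻¹) = g * (a' * a') * g⁻¹ := by group
        _ = 1 := by rw [ha'2]; group
    have h4' : (a' * (g * a' * g⁻¹)) ^ 4 = 1 := by
      apply Subtype.ext
      have h5 := orderOf_dvd_iff_pow_eq_one.mp (h4 n hn)
      rw [← hgn, ← ha'] at h5
      exact h5
    have hle : Subgroup.zpowers a' ⊔ (Subgroup.zpowers a').map (MulAut.conj g).toMonoidHom ≤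
        Subgroup.closure ({a', g * a' * g⁻¹} : Set X) := by
      apply sup_le
      · rw [Subgroup.zpowers_le]
        exact Subgroup.subset_closure (by simp)
      · rw [MonoidHom.map_zpowers, Subgroup.zpowers_le]
        exact Subgroup.subset_closure (by simp [MulAut.conj_apply])
    have hcl : IsPGroup 2 (Subgroup.closure ({a', g * a' * g⁻¹} : Set X)) := by
      rintro ⟨x, hx⟩
      refine ⟨2, ?_⟩
      apply Subtype.ext
      exact rc_dih ha'2 hb'2 h4' x hx
    exact hcl.to_le hle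
  obtain ⟨P, hPn, hP2, hXP⟩ := Cfsg.Agent.H5.baer_suzuki (Subgroup.zpowers a') hpX0 hBS
  have ha'P : a' ∈ P := hXP (Subgroup.mem_zpowers a')
  -- the elements of `N` lying in `P` form a normal 2-subgroup of `N`
  have hP0n : (P.comap (Subgroup.inclusion hNX)).Normal := hPn.comap _
  have hP0p : IsPGroup 2 (P.comap (Subgroup.inclusion hNX)) :=
    hP2.comap_of_injective _ (Subgroup.inclusion_injective hNX)
  have hP0le : P.comap (Subgroup.inclusion hNX) ≤ Cfsg.pCore 2 ↥N :=
    Cfsg.Agent.H14.le_pCore hP0n hP0p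
  have hmap : (Cfsg.pCore 2 ↥N).map N.subtype ≤ Cfsg.pCore 2 G := by
    apply Cfsg.Agent.H14.le_pCore
    · constructor
      rintro _ ⟨r, hr, rfl⟩ g
      have h := Cfsg.Agent.H14.pCore_map_equiv 2 (MulAut.conjNormal g : N ≃* N)
      have h2 : (MulAut.conjNormal g : N ≃* N) r ∈ Cfsg.pCore 2 ↥N := by
        rw [← h]
        exact Subgroup.mem_map_of_mem _ hr
      exact ⟨_, h2, by simp [MulAut.conjNormal_apply]⟩
    · exact (Cfsg.Agent.H14.pCore_isPGroup 2 ↥N).map _
  intro n hn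
  apply hmap
  have hcN : a * n * a⁻¹ * n⁻¹ ∈ N := mul_mem (hN.conj_mem n hn a) (inv_mem hn)
  refine ⟨⟨_, hcN⟩, hP0le ?_, rfl⟩
  rw [Subgroup.mem_comap]
  have h1 : Subgroup.inclusion hNX ⟨a * n * a⁻¹ * n⁻¹, hcN⟩ =
      a' * ((⟨n, hNX hn⟩ : X) * a'⁻¹ * (⟨n, hNX hn⟩ : X)⁻¹) := by
    apply Subtype.ext
    simp only [Subgroup.coe_inclusion, Subgroup.coe_mul, Subgroup.coe_inv, ha']
    group
  rw [h1]
  exact P.mul_mem ha'P (hPn.conj_mem _ (P.inv_mem ha'P) _)

/-- verbatim check of the posted statement -/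
example {G : Type*} [Group G] [Finite G] {a : G} (ha : orderOf a = 2)
    (N : Subgroup G) [N.Normal] (h4 : ∀ n ∈ N, orderOf (a * (n * a * n⁻¹)) ∣ 4) :
    ∀ n ∈ N, a * n * a⁻¹ * n⁻¹ ∈ Cfsg.pCore 2 G :=
  comm_mem_core ha N h4

end Cfsg.Agent.H53.RootInv
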