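import Mathlib
import Cfsg.Agent.H52.SoDefs

/-!
# S2943 piece SO-UNIQ (helper53 for helper52)

Two subgroups `K₁, K₂` whose images in `X / C_X(V)` are commuting subgroups of order 3, with
commutators on the elementary abelian 2-group `V` of order 4 meeting nontrivially, have the same
image.  The core is a statement on two commuting automorphisms of order 3 of an elementary abelian
2-group (`core`).
-/

set_option autoImplicit false
set_option linter.style.haveILetI false
set_option linter.unusedSimpArgs false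

namespace Cfsg.Agent.H53.Sn

open Cfsg Cfsg.Agent.H52.Sn

universe u

section Core

variable {A : Type*} [CommGroup A]

/-- the commutator subgroup `[A, ⟨α⟩]` for an elementary abelian 2-group `A` -/
def Wof (α : MulAut A) : Subgroup A :=
  Subgroup.closure {x | ∃ v : A, ∃ ρ ∈ Subgroup.zpowers α, x = v * ρ v}

theorem Wof_inv {α γ : MulAut A} (hc : Commute γ α) : ∀ w ∈ Wof α, γ w ∈ Wof α := by
  have hle : Wof α ≤ (Wof α).comap γ.toMonoidHom := by
    unfold Wof
    rw [Subgroup.closure_le]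
    rintro x ⟨v, ρ, hρ, rfl⟩
    show γ (v * ρ v) ∈ Subgroup.closure _
    have hcρ : Commute γ ρ := by
      obtain ⟨n, rfl⟩ := Subgroup.mem_zpowers_iff.mp hρ
      exact hc.zpow_right n
    have h1 : γ (ρ v) = ρ (γ v) := by
      have := congrArg (fun f : MulAut A => f v) hcρ.eq
      simpa [MulAut.mul_apply] using this
    rw [map_mul, h1]
    exact Subgroup.subset_closure ⟨γ v, ρ, hρ, rfl⟩
  intro w hw
  exact hle hw

theorem Wof_gen (α : MulAut A) (v : A) : v * α v ∈ Wof α :=
  Subgroup.subset_closure ⟨v, α, Subgroup.mem_zpowers α, rfl⟩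

theorem Wof_norm (hA2 : ∀ v : A, v * v = 1) (α : MulAut A) (hα3 : α ^ 3 = 1) :
    ∀ w ∈ Wof α, w * α w * α (α w) = 1 := by
  have hα3' : ∀ v, α (α (α v)) = v := fun v => by
    have := congrArg (fun f : MulAut A => f v) hα3
    simpa [pow_succ, MulAut.mul_apply] using this
  let N : A →* A :=
    { toFun := fun v => v * α v * α (α v)
      map_one' := by simp
      map_mul' := by
        intro x y
        simp only [map_mul]
        simp only [mul_assoc, mul_comm, mul_left_comm] }
  have hle : Wof α ≤ N.ker := by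
    unfold Wof
    rw [Subgroup.closure_le]
    rintro x ⟨v, ρ, hρ, rfl⟩
    show N (v * ρ v) = 1
    have hcρ : Commute α ρ := by
      obtain ⟨n, rfl⟩ := Subgroup.mem_zpowers_iff.mp hρ
      exact (Commute.refl α).zpow_right n
    have h1 : ∀ u, α (ρ u) = ρ (α u) := by
      intro u
      have := congrArg (fun f : MulAut A => f u) hcρ.eq
      simpa [MulAut.mul_apply] using this
    have hfix : ρ (N v) = N v := by
      have hst : Subgroup.zpowers α ≤ MulAction.stabilizer (MulAut A) (N v) := by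
        rw [Subgroup.zpowers_le, MulAction.mem_stabilizer_iff]
        show α (v * α v * α (α v)) = v * α v * α (α v)
        rw [map_mul, map_mul, hα3']
        simp only [mul_assoc, mul_comm, mul_left_comm]
      exact MulAction.mem_stabilizer_iff.mp (hst hρ)
    have h2 : N (ρ v) = N v := by
      rw [← hfix]
      show ρ v * α (ρ v) * α (α (ρ v)) = ρ (v * α v * α (α v))
      rw [h1, h1, map_mul, map_mul]
    rw [map_mul, h2]
    exact hA2 _
  intro w hw
  exact hle hw

theorem core (hA2 : ∀ v : A, v * v = 1) (α β : MulAut A) (hα3 : α ^ 3 = 1) (hβ3 : β ^ 3 = 1)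
    (hαβ : Commute α β) (h1 : Nat.card (Wof α) = 4) (h2 : Nat.card (Wof β) = 4)
    (hz : Wof α ⊓ Wof β ≠ ⊥) : β ∈ Subgroup.zpowers α := by
  classical
  obtain ⟨z, hzmem, hz1⟩ : ∃ z ∈ Wof α ⊓ Wof β, z ≠ 1 := by
    by_contra h
    push Not at h
    exact hz ((Subgroup.eq_bot_iff_forall _).mpr h)
  have hzα : z ∈ Wof α := hzmem.1
  have hzβ : z ∈ Wof β := hzmem.2
  have hinv : ∀ v : A, v⁻¹ = v := fun v => inv_eq_of_mul_eq_one_left (hA2 v)
  have hα3' : ∀ v, α (α (α v)) = v := fun v => by
    have := congrArg (fun f : MulAut A => f v) hα3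
    simpa [pow_succ, MulAut.mul_apply] using this
  have hαα : ∀ w ∈ Wof α, α w ∈ Wof α := Wof_inv (Commute.refl α)
  have hαβ' : ∀ w ∈ Wof β, α w ∈ Wof β := Wof_inv hαβ
  have hββ : ∀ w ∈ Wof β, β w ∈ Wof β := Wof_inv (Commute.refl β)
  have hβα : ∀ w ∈ Wof α, β w ∈ Wof α := Wof_inv hαβ.symm
  have hNα := Wof_norm hA2 α hα3
  have hNβ := Wof_norm hA2 β hβ3
  have hfixα : ∀ w ∈ Wof α, α w = w → w = 1 := by
    intro w hw h
    have h3 := hNα w hw
    rw [h, h, hA2 w, one_mul] at h3
    exact h3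
  have hfixβ : ∀ w ∈ Wof β, β w = w → w = 1 := by
    intro w hw h
    have h3 := hNβ w hw
    rw [h, h, hA2 w, one_mul] at h3
    exact h3
  have hN := hNα z hzα
  have hz2 : α (α z) = z * α z := by
    calc α (α z) = (z * α z)⁻¹ := eq_inv_of_mul_eq_one_right hN
      _ = z * α z := hinv _
  have h_z1_ne_z : α z ≠ z := fun h => hz1 (hfixα z hzα h)
  have h_z1_ne_1 : α z ≠ 1 := fun h => hz1 ((MulEquiv.map_eq_one_iff α).mp h)
  have h_z2_ne_1 : α (α z) ≠ 1 := fun h =>
    h_z1_ne_1 ((MulEquiv.map_eq_one_iff α).mp h)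
  have h_z2_ne_z : α (α z) ≠ z := by
    rw [hz2]
    intro h
    exact h_z1_ne_1 (by simpa using h)
  have h_z2_ne_z1 : α (α z) ≠ α z := by
    rw [hz2]
    intro h
    exact hz1 (by simpa using h)
  have hScard : ({1, z, α z, α (α z)} : Finset A).card = 4 := by
    rw [Finset.card_insert_of_notMem, Finset.card_insert_of_notMem,
      Finset.card_pair h_z2_ne_z1.symm]
    · simp [h_z1_ne_z.symm, h_z2_ne_z.symm]
    · simp [hz1.symm, h_z1_ne_1.symm, h_z2_ne_1.symm]
  have key : ∀ W : Subgroup A, Nat.card W = 4 → z ∈ W → α z ∈ W → α (α z) ∈ W →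
      ∀ w ∈ W, w = 1 ∨ w = z ∨ w = α z ∨ w = α (α z) := by
    intro W hW hzW hz1W hz2W w hw
    have hfin : (W : Set A).Finite := by
      have : Finite ↥W := Nat.finite_of_card_ne_zero (by rw [hW]; norm_num)
      exact Set.toFinite _
    have hsub : ((({1, z, α z, α (α z)} : Finset A)) : Set A) ⊆ (W : Set A) := by
      intro x hx
      simp only [Finset.coe_insert, Finset.coe_singleton, Set.mem_insert_iff,
        Set.mem_singleton_iff] at hx
      rcases hx with rfl | rfl | rfl | rfl
      exacts [W.one_mem, hzW, hz1W, hz2W]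
    have heq : ((({1, z, α z, α (α z)} : Finset A)) : Set A) = (W : Set A) := by
      apply Set.eq_of_subset_of_ncard_le hsub _ hfin
      rw [Set.ncard_coe_finset, hScard, ← hW]
      exact (Nat.card_coe_set_eq _).symm.le
    have hw' : w ∈ ((({1, z, α z, α (α z)} : Finset A)) : Set A) := heq ▸ hw
    simpa using hw'
  have hz1α : α z ∈ Wof α := hαα z hzα
  have hz2α : α (α z) ∈ Wof α := hαα _ hz1α
  have hz1β : α z ∈ Wof β := hαβ' z hzβ
  have hz2β : α (α z) ∈ Wof β := hαβ' _ hz1β
  have eα := key (Wof α) h1 hzα hz1α hz2α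
  have eβ := key (Wof β) h2 hzβ hz1β hz2β
  have hβle : ∀ w ∈ Wof β, w ∈ Wof α := by
    intro w hw
    rcases eβ w hw with rfl | rfl | rfl | rfl
    exacts [Subgroup.one_mem _, hzα, hz1α, hz2α]
  -- closing lemma
  have close : ∀ d : MulAut A, Commute d α → (∀ w ∈ Wof α, d w ∈ Wof α) →
      (∀ v, v * d v ∈ Wof α) → d ^ 3 = 1 → d z = z → d = 1 := by
    intro d hdα _ hdV hd3 hdz
    have hcomm : ∀ v, d (α v) = α (d v) := by
      intro v
      have := congrArg (fun f : MulAut A => f v) hdα.eq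
      simpa [MulAut.mul_apply] using this
    have hdz1 : d (α z) = α z := by rw [hcomm, hdz]
    have hdz2 : d (α (α z)) = α (α z) := by rw [hcomm, hdz1]
    have hdW : ∀ w ∈ Wof α, d w = w := by
      intro w hw
      rcases eα w hw with rfl | rfl | rfl | rfl
      exacts [map_one d, hdz, hdz1, hdz2]
    have hd2 : d ^ 2 = 1 := by
      ext v
      show (d ^ 2) v = v
      have hw := hdV v
      have hdv : d v = v * (v * d v) := by rw [← mul_assoc, hA2, one_mul]
      have : d (d v) = v := by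
        conv_lhs => rw [hdv]
        rw [map_mul, hdW _ hw, mul_left_comm, hA2, mul_one]
      simpa [pow_two, MulAut.mul_apply] using this
    calc d = d ^ 3 * (d ^ 2)⁻¹ := by group
      _ = 1 := by rw [hd3, hd2]; simp
  have hβz : β z ∈ Wof β := hββ z hzβ
  have hβz1 : β z ≠ 1 := fun h => hz1 ((MulEquiv.map_eq_one_iff β).mp h)
  have hβzz : β z ≠ z := fun h => hz1 (hfixβ z hzβ h)
  have hQβ : ∀ v, v * β v ∈ Wof α := fun v => hβle _ (Wof_gen β v)
  have hQα : ∀ v, v * α v ∈ Wof α := Wof_gen α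
  have hQmul : ∀ u u' : MulAut A, (∀ w ∈ Wof α, u w ∈ Wof α) → (∀ v, v * u v ∈ Wof α) →
      (∀ v, v * u' v ∈ Wof α) → ∀ v, v * (u * u') v ∈ Wof α := by
    intro u u' huW hu hu' v
    have : v * (u * u') v = (v * u v) * u (v * u' v) := by
      rw [MulAut.mul_apply, map_mul, mul_assoc, ← mul_assoc (u v), hA2, one_mul]
    rw [this]
    exact Subgroup.mul_mem _ (hu v) (huW _ (hu' v))
  rcases eβ (β z) hβz with h | h | h | h
  · exact absurd h hβz1
  · exact absurd h hβzz
  · have hd : α * (α * β) = 1 := by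
      apply close
      · exact (Commute.refl α).mul_left ((Commute.refl α).mul_left hαβ.symm)
      · intro w hw
        rw [MulAut.mul_apply, MulAut.mul_apply]
        exact hαα _ (hαα _ (hβα w hw))
      · exact hQmul α (α * β) hαα hQα (hQmul α β hαα hQα hQβ)
      · have hc : Commute (α * α) β := hαβ.mul_left hαβ
        rw [← mul_assoc, hc.mul_pow, ← pow_two, ← pow_mul, hβ3, mul_one,
          show 2 * 3 = 3 * 2 from rfl, pow_mul, hα3, one_pow]
      · show α (α (β z)) = z
        rw [h, hα3']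
    have hβe : β = (α * α)⁻¹ := by
      rw [← mul_assoc] at hd
      exact eq_inv_of_mul_eq_one_right hd
    rw [hβe]
    exact Subgroup.inv_mem _ (Subgroup.mul_mem _ (Subgroup.mem_zpowers α) (Subgroup.mem_zpowers α))
  · have hd : α * β = 1 := by
      apply close
      · exact (Commute.refl α).mul_left hαβ.symm
      · intro w hw
        rw [MulAut.mul_apply]
        exact hαα _ (hβα w hw)
      · exact hQmul α β hαα hQα hQβ
      · rw [hαβ.mul_pow, hα3, hβ3, one_mul]
      · show α (β z) = z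
        rw [h, hα3']
    have hβe : β = α⁻¹ := eq_inv_of_mul_eq_one_right hd
    rw [hβe]
    exact Subgroup.inv_mem _ (Subgroup.mem_zpowers α)

end Core

section Wrapper

open scoped commutatorElement

variable {X : Type u} [Group X]

theorem conjNormal_eq_one_iff (V : Subgroup X) [V.Normal] (g : X) :
    (MulAut.conjNormal (H := V) g = 1) ↔ g ∈ Subgroup.centralizer (V : Set X) := by
  constructor
  · intro h
    rw [Subgroup.mem_centralizer_iff]
    intro v hv
    have h1 : ((MulAut.conjNormal (H := V) g ⟨v, hv⟩ : V) : X) = v := by rw [h]; rfl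
    rw [MulAut.conjNormal_apply] at h1
    calc v * g = (g * v * g⁻¹) * g := by rw [h1]
      _ = g * v := by group
  · intro h
    apply MulEquiv.ext
    intro w
    apply Subtype.ext
    rw [MulAut.conjNormal_apply]
    have := (Subgroup.mem_centralizer_iff.mp h) (w : X) w.2
    show g * (w : X) * g⁻¹ = (w : X)
    rw [← this, mul_inv_cancel_right]

theorem uniq : StUniq.{u} := by
  intro X _ _ V K₁ K₂ O₁ O₂ _ hVe hO₁K hO₁C h31 hO₂K hO₂C h32 hcomm hc1 hc2 hne
  classical
  obtain ⟨hVcomm, hV2⟩ := hVe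
  letI : CommGroup ↥V :=
    { (inferInstance : Group ↥V) with mul_comm := fun a b => mul_comm' a b }
  haveI : Fact (Nat.Prime 3) := ⟨Nat.prime_three⟩
  set φ := (MulAut.conjNormal (H := V)) with hφ
  have hker : ∀ g, φ g = 1 ↔ g ∈ Subgroup.centralizer (V : Set X) := conjNormal_eq_one_iff V
  have hV2' : ∀ v : ↥V, v * v = 1 := by
    intro v
    apply Subtype.ext
    have := hV2 v v.2
    rw [pow_two] at this
    exact this
  have hR : ∀ (K O : Subgroup X), O ≤ K → O ≤ Subgroup.centralizer (V : Set X) →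
      O.relIndex K = 3 → Nat.card ↥⁅V, K⁆ = 4 →
      ∃ α : MulAut ↥V, α ^ 3 = 1 ∧ K.map φ = Subgroup.zpowers α ∧
        Nat.card (Subgroup.zpowers α) = 3 := by
    intro K O hOK hOC h3 hc
    have hdvd : Nat.card (K.map φ) ∣ 3 := by
      have h1 : (φ.domRestrict K).ker.index = Nat.card (φ.domRestrict K).range :=
        Subgroup.index_ker _
      have h2 : O.subgroupOf K ≤ (φ.domRestrict K).ker := by
        intro k hk
        rw [MonoidHom.mem_ker]
        show φ (k : X) = 1
        exact (hker _).mpr (hOC (Subgroup.mem_subgroupOf.mp hk))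
      have h4 := Subgroup.index_dvd_of_le h2
      rw [h1, MonoidHom.domRestrict_range] at h4
      exact h3 ▸ h4
    have hne1 : Nat.card (K.map φ) ≠ 1 := by
      intro h1
      have hbot : K.map φ = ⊥ := Subgroup.card_eq_one.mp h1
      have hKC : K ≤ Subgroup.centralizer (V : Set X) := by
        intro k hk
        rw [← hker]
        have : φ k ∈ K.map φ := Subgroup.mem_map_of_mem φ hk
        rw [hbot] at this
        exact Subgroup.mem_bot.mp this
      have hb : ⁅V, K⁆ = ⊥ := by
        rw [Subgroup.commutator_comm, Subgroup.commutator_eq_bot_iff_le_centralizer]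
        exact hKC
      rw [hb] at hc
      simp at hc
    have hcard3 : Nat.card (K.map φ) = 3 := by
      rcases (Nat.dvd_prime Nat.prime_three).mp hdvd with h | h
      · exact absurd h hne1
      · exact h
    obtain ⟨α, hαR, hα1⟩ : ∃ α ∈ K.map φ, α ≠ 1 := by
      by_contra h
      push Not at h
      exact hne1 (Subgroup.card_eq_one.mpr ((Subgroup.eq_bot_iff_forall _).mpr h))
    have hα3 : α ^ 3 = 1 := by
      have := Subgroup.orderOf_dvd_natCard (K.map φ) hαR
      rw [hcard3] at this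
      exact orderOf_dvd_iff_pow_eq_one.mp this
    have hord : orderOf α = 3 := orderOf_eq_prime hα3 hα1
    have hz3 : Nat.card (Subgroup.zpowers α) = 3 := by rw [Nat.card_zpowers, hord]
    refine ⟨α, hα3, ?_, hz3⟩
    symm
    haveI : Finite ↥(K.map φ) := Nat.finite_of_card_ne_zero (by rw [hcard3]; norm_num)
    exact Subgroup.eq_of_le_of_card_ge ((Subgroup.zpowers_le).mpr hαR) (by rw [hcard3, hz3])
  obtain ⟨α, hα3, hR₁, hcα⟩ := hR K₁ O₁ hO₁K hO₁C h31 hc1
  obtain ⟨β, hβ3, hR₂, hcβ⟩ := hR K₂ O₂ hO₂K hO₂C h32 hc2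
  have hαβ : Commute α β := by
    obtain ⟨k₁, hk₁, hk₁α⟩ : ∃ k ∈ K₁, φ k = α := by
      have : α ∈ K₁.map φ := hR₁ ▸ Subgroup.mem_zpowers α
      exact Subgroup.mem_map.mp this
    obtain ⟨k₂, hk₂, hk₂β⟩ : ∃ k ∈ K₂, φ k = β := by
      have : β ∈ K₂.map φ := hR₂ ▸ Subgroup.mem_zpowers β
      exact Subgroup.mem_map.mp this
    have hc : ⁅k₁, k₂⁆ ∈ Subgroup.centralizer (V : Set X) :=
      hcomm (Subgroup.commutator_mem_commutator hk₁ hk₂)
    have h1 : φ ⁅k₁, k₂⁆ = 1 := (hker _).mpr hc
    rw [commutatorElement_def, map_mul, map_mul, map_mul, map_inv, map_inv, hk₁α, hk₂β] at h1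
    show α * β = β * α
    rw [mul_inv_eq_one, mul_inv_eq_iff_eq_mul] at h1
    exact h1
  have hW : ∀ (K : Subgroup X) (γ : MulAut ↥V), K.map φ = Subgroup.zpowers γ →
      (Wof γ).map V.subtype = ⁅V, K⁆ := by
    intro K γ hK
    apply le_antisymm
    · unfold Wof
      rw [MonoidHom.map_closure, Subgroup.closure_le]
      rintro x ⟨w, ⟨v, ρ, hρ, rfl⟩, rfl⟩
      rw [← hK] at hρ
      obtain ⟨k, hk, rfl⟩ := Subgroup.mem_map.mp hρ
      have hvi : (v : X)⁻¹ = v :=
        inv_eq_of_mul_eq_one_left (by have := hV2 v v.2; rwa [pow_two] at this)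
      have hx : (V.subtype (v * φ k v) : X) = ⁅(v : X), k⁆ := by
        show (v : X) * ((φ k v : V) : X) = _
        rw [hφ, MulAut.conjNormal_apply, commutatorElement_def, hvi]
        group
      rw [SetLike.mem_coe, hx]
      exact Subgroup.commutator_mem_commutator v.2 hk
    · rw [Subgroup.commutator_le]
      intro v hv k hk
      have hvi : v⁻¹ = v :=
        inv_eq_of_mul_eq_one_left (by have := hV2 v hv; rwa [pow_two] at this)
      refine Subgroup.mem_map.mpr ⟨⟨v, hv⟩ * φ k ⟨v, hv⟩, ?_, ?_⟩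
      · exact Subgroup.subset_closure
          ⟨⟨v, hv⟩, φ k, by rw [← hK]; exact Subgroup.mem_map_of_mem φ hk, rfl⟩
      · show v * ((φ k ⟨v, hv⟩ : V) : X) = ⁅v, k⁆
        rw [hφ, MulAut.conjNormal_apply, commutatorElement_def, hvi]
        group
  have hcardW : ∀ (K : Subgroup X) (γ : MulAut ↥V), K.map φ = Subgroup.zpowers γ →
      Nat.card ↥⁅V, K⁆ = 4 → Nat.card (Wof γ) = 4 := by
    intro K γ hK hc
    rw [← hW K γ hK] at hc
    rw [← hc]
    exact (Subgroup.card_map_of_injective V.subtype_injective).symm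
  have hzW : Wof α ⊓ Wof β ≠ ⊥ := by
    intro hbot
    apply hne
    rw [Subgroup.eq_bot_iff_forall]
    rintro x ⟨hx1, hx2⟩
    rw [← hW K₁ α hR₁] at hx1
    rw [← hW K₂ β hR₂] at hx2
    obtain ⟨w₁, hw₁, rfl⟩ := Subgroup.mem_map.mp hx1
    obtain ⟨w₂, hw₂, h⟩ := Subgroup.mem_map.mp hx2
    have hw : w₂ = w₁ := V.subtype_injective h
    subst hw
    have hmem : w₂ ∈ Wof α ⊓ Wof β := ⟨hw₁, hw₂⟩
    rw [hbot, Subgroup.mem_bot] at hmem
    rw [hmem, map_one]
  have hβmem : β ∈ Subgroup.zpowers α :=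
    core hV2' α β hα3 hβ3 hαβ (hcardW K₁ α hR₁ hc1) (hcardW K₂ β hR₂ hc2) hzW
  have hRR : K₁.map φ = K₂.map φ := by
    rw [hR₁, hR₂]
    symm
    haveI : Finite ↥(Subgroup.zpowers α) :=
      Nat.finite_of_card_ne_zero (by rw [hcα]; norm_num)
    exact Subgroup.eq_of_le_of_card_ge ((Subgroup.zpowers_le).mpr hβmem) (by rw [hcα, hcβ])
  have hkerC : φ.ker = Subgroup.centralizer (V : Set X) := by
    ext g
    rw [MonoidHom.mem_ker]
    exact hker g
  rw [← hkerC, ← Subgroup.comap_map_eq, ← Subgroup.comap_map_eq, hRR]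

end Wrapper

example : Cfsg.Agent.H52.Sn.StUniq.{u} := uniq

end Cfsg.Agent.H53.Sn
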