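import Mathlib
import Cfsg.Agent.H4.TnDefs
import Cfsg.Agent.H82.Irr

/-!
# S3805 piece TN-F0 (helper53 for helper4): no fusion among `u, v, uv` forces `N_G(T) = G`
-/

set_option autoImplicit false
set_option linter.style.haveILetI false

namespace Cfsg.Agent.H53.Tn

open Cfsg Cfsg.Agent.H4.Tn Subgroup

universe u

/-- One half of F0: if `u` is conjugate neither to `v` nor to `uv`, then `χ₁` is linear, trivial on
`a, b, u`, and nontrivial at `v`. -/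
theorem f0_half (hI : StInv.{u}) (hA : StInvA.{u}) (hL : StL1.{u})
    {G : Type u} [Group G] [Finite G] (T : Subgroup G) (a b u v : G) (cfg : Cfg G T a b u v)
    (χ₁ χ₂ : IrrCharacter G) (dec : IsDec a b u χ₁ χ₂)
    (h1 : ¬ IsConj u v) (h2 : ¬ IsConj (u * v) u) :
    χ₁.1 u = χ₁.1 1 ∧ χ₁.1 1 = 1 ∧ χ₁.1 a = 1 ∧ χ₁.1 b = 1 ∧ χ₁.1 v ≠ 1 := by
  classical
  have hemp : Nat.card {y : G // IsConj u y ∧ y * a * y⁻¹ = a⁻¹} = 0 := by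
    haveI : IsEmpty {y : G // IsConj u y ∧ y * a * y⁻¹ = a⁻¹} := by
      constructor
      rintro ⟨y, hy, hya⟩
      have hyy : y * y = 1 := by
        obtain ⟨c, hc⟩ := isConj_iff.mp hy
        rw [← hc]
        calc c * u * c⁻¹ * (c * u * c⁻¹) = c * (u * u) * c⁻¹ := by group
          _ = 1 := by rw [cfg.u2]; group
      rcases hA G T a b u v cfg y hyy hya with h | h
      · exact h1 (hy.trans h.symm)
      · exact h2 (h.trans hy.symm)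
    exact Nat.card_of_isEmpty
  have hku : (Nat.card {y : G // IsConj u y} : ℂ) ≠ 0 := by
    haveI : Nonempty {y : G // IsConj u y} := ⟨⟨u, IsConj.refl u⟩⟩
    exact Nat.cast_ne_zero.mpr Nat.card_pos.ne'
  have hinvu := hI G T a b u v cfg χ₁ χ₂ dec u cfg.u2
  rw [hemp] at hinvu
  have hu : χ₁.1 u = χ₁.1 1 := by
    have h0 : 18 * (Nat.card {y : G // IsConj u y} : ℂ) ^ 2 * (χ₁.1 1 - χ₁.1 u) ^ 2 = 0 := by
      rw [hinvu]; simp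
    have h18 : (18 : ℂ) * (Nat.card {y : G // IsConj u y} : ℂ) ^ 2 ≠ 0 :=
      mul_ne_zero (by norm_num) (pow_ne_zero 2 hku)
    have h3 := (mul_eq_zero.mp h0).resolve_left h18
    have h4 := (pow_eq_zero_iff (two_ne_zero)).mp h3
    exact (sub_eq_zero.mp h4).symm
  obtain ⟨h11, ha1, hb1⟩ := hL G T a b u v cfg χ₁ χ₂ dec hu
  refine ⟨hu, h11, ha1, hb1, ?_⟩
  intro hv1
  have hinvv := hI G T a b u v cfg χ₁ χ₂ dec v cfg.v2
  rw [h11, hv1, sub_self] at hinvv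
  have hi : (Nat.card {y : G // IsConj v y ∧ y * a * y⁻¹ = a⁻¹} : ℂ) ≠ 0 := by
    haveI : Nonempty {y : G // IsConj v y ∧ y * a * y⁻¹ = a⁻¹} :=
      ⟨⟨v, IsConj.refl v, by rw [cfg.va]; group⟩⟩
    exact Nat.cast_ne_zero.mpr Nat.card_pos.ne'
  have hG : (Nat.card G : ℂ) ≠ 0 := Nat.cast_ne_zero.mpr Nat.card_pos.ne'
  have h5 : (1 : ℂ) * (1 + 1) * (Nat.card G : ℂ) *
      (Nat.card {y : G // IsConj v y ∧ y * a * y⁻¹ = a⁻¹} : ℂ) ^ 2 = 0 := by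
    rw [← hinvv]; simp
  have h6 : (1 : ℂ) * (1 + 1) * (Nat.card G : ℂ) *
      (Nat.card {y : G // IsConj v y ∧ y * a * y⁻¹ = a⁻¹} : ℂ) ^ 2 ≠ 0 :=
    mul_ne_zero (mul_ne_zero (by norm_num) hG) (pow_ne_zero 2 hi)
  exact h6 h5

theorem f0 (hD : StDecomp.{u}) (hS : StSwap.{u}) (hI : StInv.{u}) (hA : StInvA.{u})
    (hL : StL1.{u}) (hF : StFin.{u}) : StF0.{u} := by
  intro G _ _ T a b u v cfg h1 h2 h3
  obtain ⟨χ₁, χ₂, dec⟩ := hD G T a b u v cfg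
  obtain ⟨hu, h11, ha1, hb1, hv⟩ := f0_half hI hA hL T a b u v cfg χ₁ χ₂ dec h1 h2
  have cfg' := hS G T a b u v cfg
  obtain ⟨θ₁, θ₂, dec'⟩ := hD G T b a v u cfg'
  have h1' : ¬ IsConj v u := fun h => h1 h.symm
  have h2' : ¬ IsConj (v * u) v := by rw [← cfg.uv]; exact h3
  obtain ⟨hv', h11', hb1', ha1', hu'⟩ := f0_half hI hA hL T b a v u cfg' θ₁ θ₂ dec' h1' h2'
  have hKn : (Cfsg.Agent.H82.irrKer χ₁ ⊓ Cfsg.Agent.H82.irrKer θ₁).Normal := inferInstance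
  have haK : a ∈ Cfsg.Agent.H82.irrKer χ₁ ⊓ Cfsg.Agent.H82.irrKer θ₁ := by
    rw [Subgroup.mem_inf, Cfsg.Agent.H82.mem_irrKer, Cfsg.Agent.H82.mem_irrKer]
    exact ⟨ha1.trans h11.symm, ha1'.trans h11'.symm⟩
  have hbK : b ∈ Cfsg.Agent.H82.irrKer χ₁ ⊓ Cfsg.Agent.H82.irrKer θ₁ := by
    rw [Subgroup.mem_inf, Cfsg.Agent.H82.mem_irrKer, Cfsg.Agent.H82.mem_irrKer]
    exact ⟨hb1.trans h11.symm, hb1'.trans h11'.symm⟩
  have hTK : T ≤ Cfsg.Agent.H82.irrKer χ₁ ⊓ Cfsg.Agent.H82.irrKer θ₁ := by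
    intro t ht
    obtain ⟨i, j, rfl⟩ := cfg.Telts t ht
    exact Subgroup.mul_mem _ (Subgroup.pow_mem _ haK i) (Subgroup.pow_mem _ hbK j)
  have huK : u ∉ Cfsg.Agent.H82.irrKer χ₁ ⊓ Cfsg.Agent.H82.irrKer θ₁ := by
    intro h
    rw [Subgroup.mem_inf, Cfsg.Agent.H82.mem_irrKer, Cfsg.Agent.H82.mem_irrKer] at h
    exact hu' (h.2.trans h11')
  have hvK : v ∉ Cfsg.Agent.H82.irrKer χ₁ ⊓ Cfsg.Agent.H82.irrKer θ₁ := by
    intro h
    rw [Subgroup.mem_inf, Cfsg.Agent.H82.mem_irrKer, Cfsg.Agent.H82.mem_irrKer] at h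
    exact hv (h.1.trans h11)
  have huvK : u * v ∉ Cfsg.Agent.H82.irrKer χ₁ ⊓ Cfsg.Agent.H82.irrKer θ₁ := by
    intro h
    have h' : u * v ∈ Cfsg.Agent.H82.irrKer χ₁ := (Subgroup.mem_inf.mp h).1
    have huk : u ∈ Cfsg.Agent.H82.irrKer χ₁ := hu
    have hvk : v ∈ Cfsg.Agent.H82.irrKer χ₁ := by
      have := Subgroup.mul_mem _ (Subgroup.inv_mem _ huk) h'
      simpa using this
    exact hv (((Cfsg.Agent.H82.mem_irrKer χ₁ v).mp hvk).trans h11)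
  exact hF G T a b u v cfg _ hKn hTK huK hvK huvK

end Cfsg.Agent.H53.Tn

universe u in
example (hD : Cfsg.Agent.H4.Tn.StDecomp.{u}) (hS : Cfsg.Agent.H4.Tn.StSwap.{u})
    (hI : Cfsg.Agent.H4.Tn.StInv.{u}) (hA : Cfsg.Agent.H4.Tn.StInvA.{u})
    (hL : Cfsg.Agent.H4.Tn.StL1.{u}) (hF : Cfsg.Agent.H4.Tn.StFin.{u}) :
    Cfsg.Agent.H4.Tn.StF0.{u} := Cfsg.Agent.H53.Tn.f0 hD hS hI hA hL hF
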