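import Mathlib
import Cfsg.Agent.H58.UqDefs
import Cfsg.Agent.H14.Thompson

/-!
# S2950 piece UQ-KEYB (helper53 for helper58)

`K ∈ 𝒦₀(T)`; `K₁`, `K₂` are `J(T)`-components inside `N := N_G(W_K)`, `K₁ ∈ 𝒦₀(T^g)`.  Then
`K₂ ≤ N_G(W_{K₁})`: by NSET, `N` is in the family of some `S` with `J(S) = J(T)`; by S in `N`, every
`N`-conjugate of `J(T)` normalizes `W_{K₁}`; and `K₂ = [K₂, J(T)]` is generated by elements
`(k j k⁻¹) j⁻¹` with `k ∈ K₂ ≤ N`, `j ∈ J(T)`.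
-/

set_option autoImplicit false

namespace Cfsg.Agent.H53.Uq

open Cfsg Cfsg.Agent.H58.Uq
open scoped commutatorElement

universe u

theorem keyB (hS : StS.{u}) (hN : StNSet.{u}) : StKeyB.{u} := by
  intro G _ _ hZN T hT2 hT1 K hK0 K₁ K₂ hK₁ hK₁g hK₁N hK₂ hK₂N
  obtain ⟨S, hS2, hS1, hJS, hNS⟩ := hN hZN.1 T K hT2 hK0
  obtain ⟨g, hg⟩ := hK₁g
  -- `K₁` is a `J(S)`-component lying in `𝒦₀(S^g)`
  have hK₁S : IsJComponent S K₁ := ((k0_congr T S hJS).2 K₁).mpr hK₁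
  have hJg : thompsonSubgroupOf 2 (S.map (MulAut.conj g).toMonoidHom) =
      thompsonSubgroupOf 2 (T.map (MulAut.conj g).toMonoidHom) := by
    rw [← Cfsg.Agent.H14.thompsonSubgroupOf_conj, ← Cfsg.Agent.H14.thompsonSubgroupOf_conj, hJS]
  have hK₁Sg : K₁ ∈ jComponentsZero (S.map (MulAut.conj g).toMonoidHom) := by
    rw [(k0_congr (T.map (MulAut.conj g).toMonoidHom) (S.map (MulAut.conj g).toMonoidHom) hJg).1]
    exact hg
  have hall := hS hZN S hS2 hS1 _ hNS K₁ hK₁S hK₁N ⟨g, hK₁Sg⟩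
  rw [hJS] at hall
  -- `J(T)` itself normalizes `W_{K₁}`
  have hJ : thompsonSubgroupOf 2 T ≤ Subgroup.normalizer (wOf K₁ : Set G) := by
    intro j hj
    exact hall 1 (Subgroup.one_mem _) ⟨j, hj, by simp⟩
  have hcomm : ⁅K₂, thompsonSubgroupOf 2 T⁆ ≤ Subgroup.normalizer (wOf K₁ : Set G) := by
    rw [Subgroup.commutator_le]
    intro k hk j hj
    rw [commutatorElement_def]
    have h1 : k * j * k⁻¹ ∈ Subgroup.normalizer (wOf K₁ : Set G) :=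
      hall k (hK₂N hk) ⟨j, hj, rfl⟩
    exact Subgroup.mul_mem _ h1 (Subgroup.inv_mem _ (hJ hj))
  rw [hK₂.2.1] at hcomm
  exact hcomm

end Cfsg.Agent.H53.Uq

universe u in
example (hS : Cfsg.Agent.H58.Uq.StS.{u}) (hN : Cfsg.Agent.H58.Uq.StNSet.{u}) :
    Cfsg.Agent.H58.Uq.StKeyB.{u} := Cfsg.Agent.H53.Uq.keyB hS hN
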