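import Cfsg.Agent.H53.WCP1

set_option autoImplicit false
open Cfsg
open scoped commutatorElement

namespace Cfsg.Agent.H53

/-- The hypotheses of the factorization lemma for the weak closure `C` of `Q`. -/
structure WCPHyp (p : ℕ) {G : Type*} [Group G] (Q C H₁ H₂ : Subgroup G) : Prop where
  hQp : IsPGroup p ↥Q
  hU : UniqConj p Q
  hC : C = weakClosure Q ⊤
  hH₁C : H₁ ≤ C
  hCH₁ : C ≤ Subgroup.normalizer (H₁ : Set G)
  hH₂C : H₂ ≤ C
  hCH₂ : C ≤ Subgroup.normalizer (H₂ : Set G)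
  hprod : H₁ ⊔ H₂ = C
  hcomm : ⁅H₁, H₂⁆ ≤ Subgroup.normalizer (Q : Set G)

section

variable {p : ℕ} [Fact p.Prime] {G : Type*} [Group G] [Finite G] {Q C H₁ H₂ : Subgroup G}

omit [Fact p.Prime] [Finite G] in
theorem WCPHyp.symm (h : WCPHyp p Q C H₁ H₂) : WCPHyp p Q C H₂ H₁ :=
  ⟨h.hQp, h.hU, h.hC, h.hH₂C, h.hCH₂, h.hH₁C, h.hCH₁, by rw [sup_comm]; exact h.hprod,
    by rw [Subgroup.commutator_comm]; exact h.hcomm⟩

omit [Fact p.Prime] [Finite G] in
theorem WCPHyp.hQC (h : WCPHyp p Q C H₁ H₂) : Q ≤ C := by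
  rw [h.hC]; exact self_le_weakClosure le_top

omit [Fact p.Prime] [Finite G] in
theorem WCPHyp.cj_le (h : WCPHyp p Q C H₁ H₂) (g : G) : cj(g, Q) ≤ C := by
  rw [h.hC]; exact cj_le_weakClosure le_top

omit [Fact p.Prime] in
theorem WCPHyp.normal (h : WCPHyp p Q C H₁ H₂) : C.Normal := by
  rw [← Subgroup.normalizer_eq_top_iff, eq_top_iff, h.hC]
  exact le_normalizer_weakClosure Q ⊤

/-- `C` is generated by the `C`-conjugates of `Q`. -/
theorem WCPHyp.le_iSup (h : WCPHyp p Q C H₁ H₂) : C ≤ ⨆ c : ↥C, cj((c : G), Q) := by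
  rw [← h.hU.weakClosure_eq_iSup h.hQp h.hQC]
  conv_lhs => rw [h.hC]
  rw [weakClosure_le_iff]
  intro g _
  exact cj_le_weakClosure (h.cj_le g)

omit [Fact p.Prime] [Finite G] in
theorem WCPHyp.le_normalizer_commutator (h : WCPHyp p Q C H₁ H₂) :
    C ≤ Subgroup.normalizer ((⁅H₁, H₂⁆ : Subgroup G) : Set G) := by
  intro c hc
  rw [mem_normalizer_iff_cj, cj_commutator, cj_of_mem_normalizer (h.hCH₁ hc),
    cj_of_mem_normalizer (h.hCH₂ hc)]

omit [Fact p.Prime] [Finite G] in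
theorem WCPHyp.le_normalizer_derived (h : WCPHyp p Q C H₁ H₂) :
    C ≤ Subgroup.normalizer ((⁅H₁, H₁⁆ : Subgroup G) : Set G) := by
  intro c hc
  rw [mem_normalizer_iff_cj, cj_commutator, cj_of_mem_normalizer (h.hCH₁ hc)]

omit [Fact p.Prime] [Finite G] in
theorem WCPHyp.commutator_le_left (h : WCPHyp p Q C H₁ H₂) : ⁅H₁, H₂⁆ ≤ H₁ :=
  Subgroup.le_normalizer_iff_commutator_le_left.mp (h.hH₂C.trans h.hCH₁)

omit [Fact p.Prime] [Finite G] in
theorem WCPHyp.commutator_le (h : WCPHyp p Q C H₁ H₂) : ⁅H₁, H₂⁆ ≤ C :=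
  h.commutator_le_left.trans h.hH₁C

omit [Fact p.Prime] [Finite G] in
theorem WCPHyp.le_normalizer_pCoreOf_commutator (h : WCPHyp p Q C H₁ H₂) :
    C ≤ Subgroup.normalizer ((pCoreOf p ⁅H₁, H₂⁆ : Subgroup G) : Set G) := by
  intro c hc
  rw [mem_normalizer_iff_cj, cj_pCoreOf, cj_of_mem_normalizer (h.le_normalizer_commutator hc)]

omit [Fact p.Prime] in
theorem WCPHyp.pCoreOf_normal (h : WCPHyp p Q C H₁ H₂) : (pCoreOf p C).Normal := by
  have hn := h.normal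
  rw [← Subgroup.normalizer_eq_top_iff, eq_top_iff]
  intro g _
  rw [mem_normalizer_iff_cj, cj_pCoreOf, cj_of_normal C g]

/-- `N = [H₁, H₂]` is central in `C` modulo `O_p(N)`. -/
theorem WCPHyp.commutator_commutator_le (h : WCPHyp p Q C H₁ H₂) :
    ⁅⁅H₁, H₂⁆, C⁆ ≤ pCoreOf p ⁅H₁, H₂⁆ := by
  obtain ⟨N, hN⟩ : ∃ N : Subgroup G, N = ⁅H₁, H₂⁆ := ⟨_, rfl⟩
  have hCN : C ≤ Subgroup.normalizer (N : Set G) := by rw [hN]; exact h.le_normalizer_commutator
  have hNC : N ≤ C := by rw [hN]; exact h.commutator_le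
  have hNQ : N ≤ Subgroup.normalizer (Q : Set G) := by rw [hN]; exact h.hcomm
  rw [← hN]
  have hPn := h.pCoreOf_normal
  have hP₀P : pCoreOf p N ≤ pCoreOf p C := pCoreOf_le_of_normal hNC hCN
  -- `N` normalizes every `C`-conjugate of `Q`
  have h1 : ∀ c ∈ C, N ≤ Subgroup.normalizer ((cj(c, Q) : Subgroup G) : Set G) := by
    intro c hc
    have h2 := cj_mono c hNQ
    rwa [cj_of_mem_normalizer (hCN hc), cj_normalizer] at h2
  have h2 : ∀ c ∈ C, ⁅N, cj(c, Q)⁆ ≤ pCoreOf p C := by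
    intro c hc
    refine (commutator_le_inf_of_le_normalizer (h1 c hc) ((h.cj_le c).trans hCN)).trans
      (le_trans ?_ hP₀P)
    apply le_pCoreOf inf_le_left _ ((isPGroup_cj c h.hQp).to_le inf_le_right)
    intro n hn
    rw [mem_normalizer_iff_cj, cj_inf, cj_eq_of_mem hn, cj_of_mem_normalizer (h1 c hc hn)]
  have h3 : C ≤ (Subgroup.centralizer ((N.map (QuotientGroup.mk' (pCoreOf p C)) :
      Subgroup (G ⧸ pCoreOf p C)) : Set (G ⧸ pCoreOf p C))).comap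
        (QuotientGroup.mk' (pCoreOf p C)) := by
    refine h.le_iSup.trans (iSup_le ?_)
    intro c e he
    rw [Subgroup.mem_comap, Subgroup.mem_centralizer_iff]
    rintro _ ⟨n, hn, rfl⟩
    exact (commutator_mem_iff_commute (pCoreOf p C) n e).mp
      (h2 c c.2 (Subgroup.commutator_mem_commutator hn he))
  have h4 : ⁅N, C⁆ ≤ pCoreOf p C := by
    rw [Subgroup.commutator_le]
    intro n hn c hc
    have h5 := h3 hc
    rw [Subgroup.mem_comap, Subgroup.mem_centralizer_iff] at h5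
    exact (commutator_mem_iff_commute (pCoreOf p C) n c).mpr (h5 _ ⟨n, hn, rfl⟩)
  have h5 : ⁅N, C⁆ ≤ N := Subgroup.le_normalizer_iff_commutator_le_left.mp hCN
  refine (le_inf h5 h4).trans ?_
  apply le_pCoreOf inf_le_left _ ((pCoreOf_isPGroup p C).to_le inf_le_right)
  intro n hn
  rw [mem_normalizer_iff_cj, cj_inf, cj_eq_of_mem hn, cj_of_normal (pCoreOf p C) n]

/-- Three subgroups lemma: `[H₁', H₂] ≤ O_p([H₁, H₂])`. -/
theorem WCPHyp.derived_commutator_le (h : WCPHyp p Q C H₁ H₂) :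
    ⁅⁅H₁, H₁⁆, H₂⁆ ≤ pCoreOf p ⁅H₁, H₂⁆ := by
  have hPn := h.pCoreOf_normal
  have hP₀P : pCoreOf p ⁅H₁, H₂⁆ ≤ pCoreOf p C :=
    pCoreOf_le_of_normal h.commutator_le h.le_normalizer_commutator
  have h1 : ⁅⁅H₁, H₂⁆, H₁⁆ ≤ pCoreOf p C :=
    (Subgroup.commutator_mono le_rfl h.hH₁C).trans (h.commutator_commutator_le.trans hP₀P)
  have h2 : ⁅⁅H₁.map (QuotientGroup.mk' (pCoreOf p C)), H₂.map (QuotientGroup.mk' (pCoreOf p C))⁆,
      H₁.map (QuotientGroup.mk' (pCoreOf p C))⁆ = ⊥ := by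
    rw [← Subgroup.map_commutator, ← Subgroup.map_commutator, eq_bot_iff,
      Subgroup.map_le_iff_le_comap, MonoidHom.comap_bot, QuotientGroup.ker_mk']
    exact h1
  have h3 : ⁅⁅H₂.map (QuotientGroup.mk' (pCoreOf p C)), H₁.map (QuotientGroup.mk' (pCoreOf p C))⁆,
      H₁.map (QuotientGroup.mk' (pCoreOf p C))⁆ = ⊥ := by
    rw [Subgroup.commutator_comm (H₂.map _)]; exact h2
  have h4 := Subgroup.commutator_commutator_eq_bot_of_rotate h2 h3
  rw [← Subgroup.map_commutator, ← Subgroup.map_commutator, eq_bot_iff,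
      Subgroup.map_le_iff_le_comap, MonoidHom.comap_bot, QuotientGroup.ker_mk'] at h4
  have h5 : ⁅⁅H₁, H₁⁆, H₂⁆ ≤ ⁅H₁, H₂⁆ :=
    Subgroup.commutator_mono
      (Subgroup.le_normalizer_iff_commutator_le_left.mp Subgroup.le_normalizer) le_rfl
  refine (le_inf h5 h4).trans ?_
  apply le_pCoreOf inf_le_left _ ((pCoreOf_isPGroup p C).to_le inf_le_right)
  intro n hn
  rw [mem_normalizer_iff_cj, cj_inf, cj_eq_of_mem hn, cj_of_normal (pCoreOf p C) n]

end

end Cfsg.Agent.H53
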