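import Cfsg.Agent.H53.WCP2

set_option autoImplicit false
open Cfsg
open scoped commutatorElement

namespace Cfsg.Agent.H53

section

variable {p : ℕ} [Fact p.Prime] {G : Type*} [Group G] [Finite G] {Q C H₁ H₂ : Subgroup G}

-- the subgroup `K₁ = O^p(weak closure of Q in H₁ Q)`
set_option quotPrecheck false in
notation:max "wK(" p ", " Q ", " H ")" => oP(p, (weakClosure Q (H ⊔ Q)))

omit [Fact p.Prime] [Finite G] in
theorem WCPHyp.exists_mul (h : WCPHyp p Q C H₁ H₂) {c : G} (hc : c ∈ C) :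
    ∃ a ∈ H₁, ∃ b ∈ H₂, c = a * b := by
  rw [← h.hprod] at hc
  exact mem_sup_of_le_normalizer (h.hH₁C.trans h.hCH₂) hc

theorem WCPHyp.K_commutator_Q (h : WCPHyp p Q C H₁ H₂) : ⁅wK(p, Q, H₁), Q⁆ = wK(p, Q, H₁) :=
  h.hU.commutator_pResidual_weakClosure h.hQp le_sup_right

theorem WCPHyp.K_le_commutator (h : WCPHyp p Q C H₁ H₂) : wK(p, Q, H₁) ≤ ⁅H₁, Q⁆ :=
  h.hU.pResidual_weakClosure_le_commutator h.hQp (h.hQC.trans h.hCH₁)

theorem WCPHyp.K_le (h : WCPHyp p Q C H₁ H₂) : wK(p, Q, H₁) ≤ H₁ :=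
  h.K_le_commutator.trans (Subgroup.le_normalizer_iff_commutator_le_left.mp (h.hQC.trans h.hCH₁))

omit [Fact p.Prime] in
theorem WCPHyp.le_normalizer_K (h : WCPHyp p Q C H₁ H₂) :
    H₁ ≤ Subgroup.normalizer ((wK(p, Q, H₁) : Subgroup G) : Set G) :=
  (le_sup_left.trans (le_normalizer_weakClosure Q (H₁ ⊔ Q))).trans
    (normalizer_le_normalizer_map_pResidual p _)

/-- `K₁ ≤ H₁'`. -/
theorem WCPHyp.K_le_derived (h : WCPHyp p Q C H₁ H₂) : wK(p, Q, H₁) ≤ ⁅H₁, H₁⁆ := by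
  obtain ⟨N, hN⟩ : ∃ N : Subgroup G, N = ⁅H₁, H₂⁆ := ⟨_, rfl⟩
  obtain ⟨D, hD⟩ : ∃ D : Subgroup G, D = ⁅H₁, H₁⁆ := ⟨_, rfl⟩
  have hCN : C ≤ Subgroup.normalizer (N : Set G) := by rw [hN]; exact h.le_normalizer_commutator
  have hCD : C ≤ Subgroup.normalizer (D : Set G) := by rw [hD]; exact h.le_normalizer_derived
  have hNC : N ≤ C := by rw [hN]; exact h.commutator_le
  have hNQ : N ≤ Subgroup.normalizer (Q : Set G) := by rw [hN]; exact h.hcomm
  rw [← hD]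
  have h1 : ⁅H₁, Q⁆ ≤ N ⊔ D := by
    rw [Subgroup.commutator_le]
    intro x hx q hq
    obtain ⟨a, ha, b, hb, rfl⟩ := h.exists_mul (h.hQC hq)
    have e : ⁅x, a * b⁆ = ⁅x, a⁆ * (a * ⁅x, b⁆ * a⁻¹) := by
      simp only [commutatorElement_def]; group
    rw [e]
    refine Subgroup.mul_mem _ (Subgroup.mem_sup_right ?_) (Subgroup.mem_sup_left ?_)
    · rw [hD]; exact Subgroup.commutator_mem_commutator hx ha
    · refine (Subgroup.mem_normalizer_iff.mp (hCN (h.hH₁C ha)) _).mp ?_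
      rw [hN]; exact Subgroup.commutator_mem_commutator hx hb
  have h2 : ⁅N ⊔ D, Q⁆ ≤ D ⊔ (N ⊓ Q) := by
    rw [Subgroup.commutator_le]
    intro g hg q hq
    obtain ⟨n, hn, d, hd, rfl⟩ := mem_sup_of_le_normalizer (hNC.trans hCD) hg
    have e : ⁅n * d, q⁆ = (n * ⁅d, q⁆ * n⁻¹) * ⁅n, q⁆ := by
      simp only [commutatorElement_def]; group
    rw [e]
    refine Subgroup.mul_mem _ (Subgroup.mem_sup_left ?_) (Subgroup.mem_sup_right ?_)
    · refine (Subgroup.mem_normalizer_iff.mp (hCD (hNC hn)) _).mp ?_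
      exact (Subgroup.le_normalizer_iff_commutator_le_left.mp hCD)
        (Subgroup.commutator_mem_commutator hd (h.hQC hq))
    · exact commutator_le_inf_of_le_normalizer hNQ (h.hQC.trans hCN)
        (Subgroup.commutator_mem_commutator hn hq)
  have h3 : wK(p, Q, H₁) ≤ D ⊔ (N ⊓ Q) := by
    conv_lhs => rw [← h.K_commutator_Q]
    exact (Subgroup.commutator_mono (h.K_le_commutator.trans h1) le_rfl).trans h2
  exact map_pResidual_le_of_le_sup ((inf_le_right.trans h.hQC).trans hCD)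
    (h.hQp.to_le inf_le_right) h3

/-- `[K₁, H₁] = K₁`. -/
theorem WCPHyp.K_commutator_H (h : WCPHyp p Q C H₁ H₂) : ⁅wK(p, Q, H₁), H₁⁆ = wK(p, Q, H₁) := by
  have hn := h.le_normalizer_K
  apply le_antisymm (Subgroup.le_normalizer_iff_commutator_le_left.mp hn)
  have hP₀n := h.le_normalizer_pCoreOf_commutator (p := p)
  have h1 : ⁅wK(p, Q, H₁), Q⁆ ≤ ⁅wK(p, Q, H₁), H₁⁆ ⊔ pCoreOf p ⁅H₁, H₂⁆ := by
    rw [Subgroup.commutator_le]
    intro k hk q hq
    obtain ⟨a, ha, b, hb, rfl⟩ := h.exists_mul (h.hQC hq)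
    have e : ⁅k, a * b⁆ = ⁅k, a⁆ * (a * ⁅k, b⁆ * a⁻¹) := by
      simp only [commutatorElement_def]; group
    rw [e]
    refine Subgroup.mul_mem _ (Subgroup.mem_sup_left (Subgroup.commutator_mem_commutator hk ha))
      (Subgroup.mem_sup_right ?_)
    refine (Subgroup.mem_normalizer_iff.mp (hP₀n (h.hH₁C ha)) _).mp ?_
    exact h.derived_commutator_le (Subgroup.commutator_mem_commutator (h.K_le_derived hk) hb)
  rw [h.K_commutator_Q] at h1
  apply map_pResidual_le_of_le_sup _ (pCoreOf_isPGroup p _) h1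
  intro x hx
  have hx₁ : x ∈ H₁ := h.commutator_le_left (pCoreOf_le p _ hx)
  rw [mem_normalizer_iff_cj, cj_commutator, cj_of_mem_normalizer (hn hx₁), cj_eq_of_mem hx₁]

/-- `K₂` normalizes `K₁`. -/
theorem WCPHyp.K_le_normalizer_K (h : WCPHyp p Q C H₁ H₂) :
    wK(p, Q, H₂) ≤ Subgroup.normalizer ((wK(p, Q, H₁) : Subgroup G) : Set G) := by
  intro k hk
  rw [mem_normalizer_iff_cj]
  apply cj_eq_self_of_le_of_card
  have h1 : cj(k, wK(p, Q, H₁)) ≤ wK(p, Q, H₁) ⊔ pCoreOf p ⁅H₁, H₂⁆ := by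
    intro x hx
    rw [mem_cj] at hx
    have e : x = ⁅k, k⁻¹ * x * k⁆ * (k⁻¹ * x * k) := by
      rw [commutatorElement_def]; group
    rw [e]
    refine Subgroup.mul_mem _ (Subgroup.mem_sup_right ?_) (Subgroup.mem_sup_left hx)
    have := h.symm.derived_commutator_le
      (Subgroup.commutator_mem_commutator (h.symm.K_le_derived hk) (h.K_le hx))
    rwa [Subgroup.commutator_comm H₂ H₁] at this
  rw [cj_map_pResidual] at h1 ⊢
  apply map_pResidual_le_of_le_sup _ (pCoreOf_isPGroup p _) h1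
  exact ((pCoreOf_le p _).trans h.commutator_le_left).trans h.le_normalizer_K

/-- `K₁` is normal in `C`. -/
theorem WCPHyp.C_le_normalizer_K (h : WCPHyp p Q C H₁ H₂) :
    C ≤ Subgroup.normalizer ((wK(p, Q, H₁) : Subgroup G) : Set G) := by
  rw [← h.hprod]
  refine sup_le h.le_normalizer_K ?_
  intro x hx
  have hxQ : cj(x, Q) ≤ weakClosure Q (H₂ ⊔ Q) :=
    cj_le_weakClosure (cj_le_of_mem (Subgroup.mem_sup_left hx) le_sup_right)
  obtain ⟨k, hk, hxk⟩ := h.hU.exists_conj_mem_pResidual h.hQp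
    (self_le_weakClosure (le_sup_right : Q ≤ H₂ ⊔ Q)) hxQ
  have hn : k⁻¹ * x ∈ Subgroup.normalizer (Q : Set G) := by
    rw [mem_normalizer_iff_cj, ← cj_cj, hxk, cj_inv_cj]
  have hn₂ : k⁻¹ * x ∈ H₂ := H₂.mul_mem (H₂.inv_mem (h.symm.K_le hk)) hx
  have hn₁ : k⁻¹ * x ∈ Subgroup.normalizer (H₁ : Set G) := h.hCH₁ (h.hH₂C hn₂)
  have hn₃ : k⁻¹ * x ∈ Subgroup.normalizer ((H₁ ⊔ Q : Subgroup G) : Set G) := by
    rw [mem_normalizer_iff_cj, cj_sup, cj_of_mem_normalizer hn, cj_of_mem_normalizer hn₁]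
  have hn₄ := normalizer_le_normalizer_map_pResidual p _
    (normalizer_le_normalizer_weakClosure Q (H₁ ⊔ Q) hn₃)
  have e : x = k * (k⁻¹ * x) := by group
  rw [e]
  exact Subgroup.mul_mem _ (h.K_le_normalizer_K hk) hn₄

/-- `O^p(C) = K₁ K₂`. -/
theorem WCPHyp.K_sup_K (h : WCPHyp p Q C H₁ H₂) : wK(p, Q, H₁) ⊔ wK(p, Q, H₂) = oP(p, C) := by
  have hL₁ : weakClosure Q (H₁ ⊔ Q) ≤ C := (weakClosure_le _ _).trans (sup_le h.hH₁C h.hQC)
  have hL₂ : weakClosure Q (H₂ ⊔ Q) ≤ C := (weakClosure_le _ _).trans (sup_le h.hH₂C h.hQC)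
  apply le_antisymm
    (sup_le (map_pResidual_subtype_mono p hL₁) (map_pResidual_subtype_mono p hL₂))
  have hle : C ≤ (wK(p, Q, H₁) ⊔ wK(p, Q, H₂)) ⊔ Q := by
    refine h.le_iSup.trans (iSup_le ?_)
    intro c
    obtain ⟨a, ha, b, hb, hcab⟩ := h.exists_mul c.2
    have hbQ : cj(b, Q) ≤ wK(p, Q, H₂) ⊔ Q :=
      (cj_le_weakClosure (cj_le_of_mem (Subgroup.mem_sup_left hb) le_sup_right)).trans
        (h.hU.weakClosure_le_pResidual_sup h.hQp le_sup_right)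
    have haQ : cj(a, Q) ≤ wK(p, Q, H₁) ⊔ Q :=
      (cj_le_weakClosure (cj_le_of_mem (Subgroup.mem_sup_left ha) le_sup_right)).trans
        (h.hU.weakClosure_le_pResidual_sup h.hQp le_sup_right)
    rw [hcab, ← cj_cj]
    refine (cj_mono a hbQ).trans ?_
    rw [cj_sup, cj_of_mem_normalizer (h.symm.C_le_normalizer_K (h.hH₁C ha))]
    refine sup_le (le_sup_right.trans le_sup_left) (haQ.trans ?_)
    exact sup_le (le_sup_left.trans le_sup_left) le_sup_right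
  apply map_pResidual_le_of_le_sup _ h.hQp ((Subgroup.map_subtype_le _).trans hle)
  intro q hq
  rw [mem_normalizer_iff_cj, cj_sup, cj_of_mem_normalizer (h.C_le_normalizer_K (h.hQC hq)),
    cj_of_mem_normalizer (h.symm.C_le_normalizer_K (h.hQC hq))]

/-- `[K₁, K₂] ≤ O_p(C)`. -/
theorem WCPHyp.K_commutator_K (h : WCPHyp p Q C H₁ H₂) :
    ⁅wK(p, Q, H₁), wK(p, Q, H₂)⁆ ≤ pCoreOf p C :=
  ((Subgroup.commutator_mono h.K_le_derived h.symm.K_le).trans h.derived_commutator_le).trans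
    (pCoreOf_le_of_normal h.commutator_le h.le_normalizer_commutator)

end

end Cfsg.Agent.H53
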