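import Mathlib
import Cfsg.Prelude.Def_LocalStructure

set_option autoImplicit false

namespace Cfsg.Agent.H53

open Subgroup

/-- The configuration in `X = L / O_p(L)`: `Yb ≤ Nb < ⊤`, `Nb` contains every proper subgroup over `Yb`,
and `V` is a nontrivial `p`-subgroup of exponent `p` normalized by `Nb`. -/
structure YCfg (p : ℕ) {X : Type*} [Group X] (Yb Nb V : Subgroup X) : Prop where
  yp : IsPGroup p Yb
  yexp : ∀ y ∈ Yb, y ^ p = 1
  yle : Yb ≤ Nb
  ntop : Nb ≠ ⊤
  nmax : ∀ X1 : Subgroup X, Yb ≤ X1 → X1 ≠ ⊤ → X1 ≤ Nb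
  ynorm : Nb ≤ normalizer (Yb : Set X)
  ycl : normalClosure (Yb : Set X) = ⊤
  vle : V ≤ Nb
  vnorm : Nb ≤ normalizer (V : Set X)
  vp : IsPGroup p V
  vexp : ∀ v ∈ V, v ^ p = 1
  vne : V ≠ ⊥

theorem YCfg.map {p : ℕ} {X X' : Type*} [Group X] [Group X'] {Yb Nb V : Subgroup X}
    (h : YCfg p Yb Nb V) (e : X ≃* X') :
    YCfg p (Yb.map e.toMonoidHom) (Nb.map e.toMonoidHom) (V.map e.toMonoidHom) := by
  have hinj : Function.Injective e.toMonoidHom := e.injective
  have hsurj : Function.Surjective e.toMonoidHom := e.surjective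
  refine ⟨h.yp.map _, ?_, Subgroup.map_mono h.yle, ?_, ?_, ?_, ?_, Subgroup.map_mono h.vle, ?_,
    h.vp.map _, ?_, ?_⟩
  · rintro _ ⟨y, hy, rfl⟩
    rw [← map_pow, h.yexp y hy, map_one]
  · intro ht
    apply h.ntop
    rw [← Subgroup.comap_map_eq_self_of_injective hinj Nb, ht, Subgroup.comap_top]
  · intro X1 hY hX1
    have h1 := h.nmax (X1.comap e.toMonoidHom) (Subgroup.map_le_iff_le_comap.1 hY) (by
      intro ht
      apply hX1
      rw [← Subgroup.map_comap_eq_self_of_surjective hsurj X1, ht,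
        Subgroup.map_top_of_surjective _ hsurj])
    rw [← Subgroup.map_comap_eq_self_of_surjective hsurj X1]
    exact Subgroup.map_mono h1
  · rw [← Subgroup.map_equiv_normalizer_eq]
    exact Subgroup.map_mono h.ynorm
  · have := Subgroup.map_normalClosure (Yb : Set X) e.toMonoidHom hsurj
    rw [h.ycl, Subgroup.map_top_of_surjective _ hsurj] at this
    rw [Subgroup.coe_map]
    exact this.symm
  · rw [← Subgroup.map_equiv_normalizer_eq]
    exact Subgroup.map_mono h.vnorm
  · rintro _ ⟨y, hy, rfl⟩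
    rw [← map_pow, h.vexp y hy, map_one]
  · intro hV
    apply h.vne
    rw [← Subgroup.comap_map_eq_self_of_injective hinj V, hV]
    ext x
    simp

theorem YCfg.eq_of_map {X X' : Type*} [Group X] [Group X'] {Yb V : Subgroup X}
    (e : X ≃* X') (h : V.map e.toMonoidHom = Yb.map e.toMonoidHom) : V = Yb :=
  Subgroup.map_injective e.injective h

theorem card_map_equiv {X X' : Type*} [Group X] [Group X'] (Yb : Subgroup X) (e : X ≃* X') :
    Nat.card (Yb.map e.toMonoidHom) = Nat.card Yb :=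
  Subgroup.card_map_of_injective e.injective

/-- `Yb` is nontrivial as soon as the ambient group is. -/
theorem YCfg.yne {p : ℕ} {X : Type*} [Group X] [Nontrivial X] {Yb Nb V : Subgroup X}
    (h : YCfg p Yb Nb V) : Yb ≠ ⊥ := by
  intro hY
  have h1 := h.ycl
  rw [hY] at h1
  have h2 : normalClosure ((⊥ : Subgroup X) : Set X) = ⊥ := by
    rw [Subgroup.coe_bot]
    exact Subgroup.normalClosure_eq_bot_iff.2 (by simp) 
  rw [h2] at h1
  exact bot_ne_top h1

end Cfsg.Agent.H53
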