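import Mathlib
import Cfsg.Agent.H53.YL1

set_option autoImplicit false

namespace Cfsg.Agent.H53

open Subgroup Matrix MulAction

section SL2

variable {F : Type*} [Field F]

/-- upper unitriangular element of `SL₂` -/
def sl2U (c : F) : Matrix.SpecialLinearGroup (Fin 2) F :=
  ⟨!![1, c; 0, 1], by simp [Matrix.det_fin_two]⟩

/-- diagonal element of `SL₂` -/
def sl2D (l : Fˣ) : Matrix.SpecialLinearGroup (Fin 2) F :=
  ⟨!![(l : F), 0; 0, ((l⁻¹ : Fˣ) : F)], by simp [Matrix.det_fin_two]⟩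

/-- Weyl element of `SL₂` -/
def sl2W : Matrix.SpecialLinearGroup (Fin 2) F :=
  ⟨!![0, 1; -1, 0], by simp [Matrix.det_fin_two]⟩

theorem sl2U_mul (a b : F) : sl2U a * sl2U b = sl2U (a + b) := by
  apply Subtype.ext
  rw [Matrix.SpecialLinearGroup.coe_mul]
  simp [sl2U, add_comm]

theorem sl2U_zero : sl2U (0 : F) = 1 := by
  apply Subtype.ext
  ext i j
  fin_cases i <;> fin_cases j <;> simp [sl2U]

theorem sl2U_inv (a : F) : (sl2U a)⁻¹ = sl2U (-a) := by
  rw [inv_eq_iff_mul_eq_one, sl2U_mul, add_neg_cancel, sl2U_zero]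

theorem sl2U_injective : Function.Injective (sl2U : F → Matrix.SpecialLinearGroup (Fin 2) F) := by
  intro a b h
  have := congrFun (congrFun (congrArg Subtype.val h) 0) 1
  simpa [sl2U] using this

theorem sl2D_conj (l : Fˣ) (c : F) : sl2D l * sl2U c * (sl2D l)⁻¹ = sl2U ((l : F) ^ 2 * c) := by
  rw [mul_inv_eq_iff_eq_mul]
  apply Subtype.ext
  rw [Matrix.SpecialLinearGroup.coe_mul, Matrix.SpecialLinearGroup.coe_mul]
  simp [sl2U, sl2D]
  field_simp

theorem sl2_eq_U_of_fix {g : Matrix.SpecialLinearGroup (Fin 2) F}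
    (hfix : g.1 *ᵥ ![1, 0] = ![1, 0]) : g = sl2U (g.1 0 1) := by
  have h0 := congrFun hfix 0
  have h1 := congrFun hfix 1
  simp [Matrix.mulVec, dotProduct, Fin.sum_univ_two] at h0 h1
  have hd := g.2
  rw [Matrix.det_fin_two] at hd
  have h11 : g.1 1 1 = 1 := by linear_combination hd - g.1 1 1 * h0 + g.1 0 1 * h1
  apply Subtype.ext
  ext i j
  fin_cases i <;> fin_cases j <;> simp [sl2U, h0, h1, h11]

theorem sl2U_fix (c : F) : (sl2U c).1 *ᵥ ![1, 0] = ![1, 0] := by
  ext i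
  fin_cases i <;> simp [sl2U, Matrix.mulVec, dotProduct, Fin.sum_univ_two]

theorem sl2_exists_move {v : Fin 2 → F} (hv : v ≠ 0) :
    ∃ k : Matrix.SpecialLinearGroup (Fin 2) F, k.1 *ᵥ ![1, 0] = v := by
  by_cases h0 : v 0 = 0
  · have h1 : v 1 ≠ 0 := by
      intro h1
      apply hv
      ext i
      fin_cases i <;> simp [h0, h1]
    refine ⟨⟨!![v 0, -(v 1)⁻¹; v 1, 0], by simp [Matrix.det_fin_two, h1]⟩, ?_⟩
    ext i
    fin_cases i <;> simp [Matrix.mulVec, dotProduct, Fin.sum_univ_two]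
  · refine ⟨⟨!![v 0, 0; v 1, (v 0)⁻¹], by simp [Matrix.det_fin_two, h0]⟩, ?_⟩
    ext i
    fin_cases i <;> simp [Matrix.mulVec, dotProduct, Fin.sum_univ_two]

/-- the upper triangular subgroup -/
def sl2B : Subgroup (Matrix.SpecialLinearGroup (Fin 2) F) where
  carrier := {g | g.1 1 0 = 0}
  one_mem' := by simp
  mul_mem' := by
    intro a b ha hb
    simp only [Set.mem_ofPred_eq] at ha hb ⊢
    simp [Matrix.SpecialLinearGroup.coe_mul, Matrix.mul_apply, Fin.sum_univ_two, ha, hb]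
  inv_mem' := by
    intro a ha
    simp only [Set.mem_ofPred_eq] at ha ⊢
    simp [Matrix.SpecialLinearGroup.coe_inv, Matrix.adjugate_fin_two, ha]

theorem sl2B_ne_top : (sl2B : Subgroup (Matrix.SpecialLinearGroup (Fin 2) F)) ≠ ⊤ := by
  intro h
  have : (sl2W : Matrix.SpecialLinearGroup (Fin 2) F) ∈ sl2B := by rw [h]; trivial
  have h1 : (sl2W : Matrix.SpecialLinearGroup (Fin 2) F).1 1 0 = 0 := this
  simp [sl2W] at h1

theorem sl2_exists_fixed_vec [Fintype F] {p : ℕ} [Fact p.Prime]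
    (P : Subgroup (Matrix.SpecialLinearGroup (Fin 2) F)) (hP : IsPGroup p P)
    (hp : p ∣ Fintype.card F) :
    ∃ v : Fin 2 → F, v ≠ 0 ∧ ∀ g ∈ P, g.1 *ᵥ v = v := by
  letI : MulAction P (Fin 2 → F) :=
    { smul := fun g v => g.1.1 *ᵥ v
      one_smul := fun v => by
        show (1 : P).1.1 *ᵥ v = v
        simp
      mul_smul := fun g h v => by
        show (g * h).1.1 *ᵥ v = g.1.1 *ᵥ (h.1.1 *ᵥ v)
        rw [Subgroup.coe_mul, Matrix.SpecialLinearGroup.coe_mul, Matrix.mulVec_mulVec] }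
  have hcard : p ∣ Nat.card (Fin 2 → F) := by
    rw [Nat.card_eq_fintype_card, Fintype.card_fun, Fintype.card_fin]
    exact dvd_pow hp two_ne_zero
  have h0 : (0 : Fin 2 → F) ∈ fixedPoints P (Fin 2 → F) := by
    intro g
    show g.1.1 *ᵥ 0 = 0
    simp
  obtain ⟨b, hb, hne⟩ := hP.exists_fixed_point_of_prime_dvd_card_of_fixed_point (Fin 2 → F) hcard h0
  exact ⟨b, fun h => hne h.symm, fun g hg => hb ⟨g, hg⟩⟩

theorem sl2_prime_dvd_card [Fintype F] {p : ℕ} [Fact p.Prime]
    {Yb : Subgroup (Matrix.SpecialLinearGroup (Fin 2) F)} (hY : IsPGroup p Yb)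
    (hcard : Nat.card Yb = Fintype.card F) : p ∣ Fintype.card F := by
  obtain ⟨k, hk⟩ := IsPGroup.iff_card.1 hY
  have h1 : 1 < Fintype.card F := Fintype.one_lt_card
  rw [← hcard, hk] at h1 ⊢
  have hk0 : k ≠ 0 := by
    rintro rfl
    simp at h1
  exact dvd_pow_self p hk0

theorem sl2_ringChar [Fintype F] {p : ℕ} [hp : Fact p.Prime] (h : p ∣ Fintype.card F) :
    ringChar F = p := by
  haveI := ringChar.charP F
  have hprime : (ringChar F).Prime := CharP.char_is_prime F (ringChar F)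
  obtain ⟨n, hn⟩ := FiniteField.card F (ringChar F)
  rw [hn.2] at h
  exact ((Nat.prime_dvd_prime_iff_eq hp.out hprime).1 (hp.out.dvd_of_dvd_pow h)).symm

theorem sl2_core_e1 [Fintype F] {p : ℕ} [Fact p.Prime]
    {Yb Nb V : Subgroup (Matrix.SpecialLinearGroup (Fin 2) F)} (h : YCfg p Yb Nb V)
    (hcard : Nat.card Yb = Fintype.card F)
    (hfix : ∀ g ∈ Yb, g.1 *ᵥ ![1, 0] = ![1, 0]) : V = Yb := by
  classical
  have hp := sl2_prime_dvd_card h.yp hcard
  have hchar := sl2_ringChar hp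
  -- `Yb` is the full unitriangular group
  have hYU : ∀ c : F, sl2U c ∈ Yb := by
    have hsub : (Yb : Set (Matrix.SpecialLinearGroup (Fin 2) F)) ⊆ Set.range sl2U := by
      intro g hg
      exact ⟨g.1 0 1, (sl2_eq_U_of_fix (hfix g hg)).symm⟩
    have hfin : (Set.range (sl2U : F → Matrix.SpecialLinearGroup (Fin 2) F)).Finite :=
      Set.finite_range _
    have hle : (Set.range (sl2U : F → Matrix.SpecialLinearGroup (Fin 2) F)).ncard ≤
        (Yb : Set (Matrix.SpecialLinearGroup (Fin 2) F)).ncard := by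
      rw [← Nat.card_coe_set_eq, ← Nat.card_coe_set_eq,
        Nat.card_range_of_injective sl2U_injective, Nat.card_eq_fintype_card]
      exact hcard.symm.le
    have heq := Set.eq_of_subset_of_ncard_le hsub hle hfin
    intro c
    have : sl2U c ∈ (Yb : Set (Matrix.SpecialLinearGroup (Fin 2) F)) := by
      rw [heq]; exact ⟨c, rfl⟩
    exact this
  -- the Borel subgroup lies in `Nb`
  have hB : (sl2B : Subgroup (Matrix.SpecialLinearGroup (Fin 2) F)) ≤ Nb := by
    apply h.nmax _ _ sl2B_ne_top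
    intro g hg
    have h1 := congrFun (hfix g hg) 1
    simp [Matrix.mulVec, dotProduct, Fin.sum_univ_two] at h1
    exact h1
  have hD : ∀ l : Fˣ, sl2D l ∈ Nb := by
    intro l
    apply hB
    show (sl2D l).1 1 0 = 0
    simp [sl2D]
  -- `V ≤ Yb`
  have hVY : V ≤ Yb := by
    have hP : IsPGroup p (Yb ⊔ V : Subgroup (Matrix.SpecialLinearGroup (Fin 2) F)) :=
      IsPGroup.to_sup_of_normal_right' h.yp h.vp (h.yle.trans h.vnorm)
    obtain ⟨v, hv0, hv⟩ := sl2_exists_fixed_vec _ hP hp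
    have hu := hv (sl2U 1) (le_sup_left (a := Yb) (hYU 1))
    have hu0 := congrFun hu 0
    simp [sl2U, Matrix.mulVec, dotProduct, Fin.sum_univ_two] at hu0
    have hv00 : v 0 ≠ 0 := by
      intro h0
      apply hv0
      ext i
      fin_cases i <;> simp [h0, hu0]
    intro g hg
    have hgv := hv g (le_sup_right (a := Yb) hg)
    have hg0 : g.1 0 0 * v 0 + g.1 0 1 * v 1 = v 0 := by
      simpa [Matrix.mulVec, dotProduct, Fin.sum_univ_two] using congrFun hgv 0
    have hg1 : g.1 1 0 * v 0 + g.1 1 1 * v 1 = v 1 := by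
      simpa [Matrix.mulVec, dotProduct, Fin.sum_univ_two] using congrFun hgv 1
    rw [hu0, mul_zero, add_zero] at hg0 hg1
    have h00 : g.1 0 0 = 1 := by
      apply mul_right_cancel₀ hv00
      rw [hg0, one_mul]
    have h10 : g.1 1 0 = 0 := by
      rcases mul_eq_zero.1 hg1 with h | h
      · exact h
      · exact absurd h hv00
    have hfixg : g.1 *ᵥ ![1, 0] = ![1, 0] := by
      ext i
      fin_cases i <;> simp [Matrix.mulVec, dotProduct, Fin.sum_univ_two, h00, h10]
    rw [sl2_eq_U_of_fix hfixg]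
    exact hYU _
  -- a nontrivial element of `V`
  obtain ⟨⟨g, hgV⟩, hg1⟩ := (Subgroup.ne_bot_iff_exists_ne_one).1 h.vne
  have hg1' : g ≠ 1 := fun hh => hg1 (Subtype.ext hh)
  have hgfix := hfix g (hVY hgV)
  have hgU := sl2_eq_U_of_fix hgfix
  set w := g.1 0 1 with hw
  have hw0 : w ≠ 0 := by
    intro h0
    apply hg1'
    rw [hgU, h0, sl2U_zero]
  have hUw : sl2U w ∈ V := hgU ▸ hgV
  -- all `sl2U (x ^ 2 * w)` lie in `V`
  have hsq : ∀ x : F, sl2U (x ^ 2 * w) ∈ V := by
    intro x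
    by_cases hx : x = 0
    · rw [hx]
      simp only [ne_eq, OfNat.ofNat_ne_zero, not_false_eq_true, zero_pow, zero_mul]
      rw [sl2U_zero]
      exact V.one_mem
    · have hd := h.vnorm (hD (Units.mk0 x hx))
      have := (Subgroup.mem_set_normalizer_iff.1 hd (sl2U w)).1 hUw
      rw [sl2D_conj] at this
      exact this
  have hall : ∀ c : F, sl2U c ∈ V := by
    intro c
    by_cases hp2 : p = 2
    · have hsqr : IsSquare (c / w) := FiniteField.isSquare_of_char_two (by rw [hchar, hp2]) _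
      obtain ⟨μ, hμ⟩ := hsqr
      have := hsq μ
      have e : μ ^ 2 * w = c := by
        rw [pow_two, ← hμ]
        field_simp
      rw [e] at this
      exact this
    · have h2 : (2 : F) ≠ 0 := Ring.two_ne_zero (by rw [hchar]; exact hp2)
      have h1 := hsq ((c / w + 1) / 2)
      have h2' := hsq ((c / w - 1) / 2)
      have h3 := V.mul_mem h1 (V.inv_mem h2')
      rw [sl2U_inv, sl2U_mul] at h3
      have e : ((c / w + 1) / 2) ^ 2 * w + -(((c / w - 1) / 2) ^ 2 * w) = c := by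
        field_simp
        ring
      rw [e] at h3
      exact h3
  apply le_antisymm hVY
  intro y hy
  rw [sl2_eq_U_of_fix (hfix y hy)]
  exact hall _

/-- the `SL₂` case of the core statement -/
theorem sl2_core [Fintype F] {p : ℕ} [Fact p.Prime]
    {Yb Nb V : Subgroup (Matrix.SpecialLinearGroup (Fin 2) F)} (h : YCfg p Yb Nb V)
    (hcard : Nat.card Yb = Fintype.card F) : V = Yb := by
  have hp := sl2_prime_dvd_card h.yp hcard
  obtain ⟨v, hv0, hv⟩ := sl2_exists_fixed_vec Yb h.yp hp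
  obtain ⟨k, hk⟩ := sl2_exists_move hv0
  have h' := h.map (MulAut.conj k⁻¹)
  apply YCfg.eq_of_map (MulAut.conj k⁻¹)
  apply sl2_core_e1 h'
  · rw [card_map_equiv, hcard]
  · rintro _ ⟨g, hg, rfl⟩
    have e : ((MulAut.conj k⁻¹).toMonoidHom g).1 = k⁻¹.1 * g.1 * k.1 := by
      simp [MulAut.conj_apply, Matrix.SpecialLinearGroup.coe_mul]
    rw [e, ← Matrix.mulVec_mulVec, ← Matrix.mulVec_mulVec, hk, hv g hg, ← hk, Matrix.mulVec_mulVec,
      ← Matrix.SpecialLinearGroup.coe_mul, inv_mul_cancel]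
    simp

end SL2

end Cfsg.Agent.H53
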