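import Mathlib
import Cfsg.Agent.H53.YL1

set_option autoImplicit false

namespace Cfsg.Agent.H53

open Subgroup MulAction

/-- the core statement in a group of order `2r`, `r` an odd prime (dihedral case) -/
theorem core_of_card_two_mul_prime {X : Type*} [Group X] [Finite X] {Yb Nb V : Subgroup X}
    (h : YCfg 2 Yb Nb V) {r : ℕ} (hr : r.Prime) (hX : Nat.card X = 2 * r) : V = Yb := by
  haveI : Nontrivial X := by
    rw [← Finite.one_lt_card_iff_nontrivial, hX]
    have := hr.two_le
    omega
  have hY1 := h.yne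
  -- 2 divides |Nb|
  have hYcard : 2 ∣ Nat.card Yb := by
    obtain ⟨k, hk⟩ := IsPGroup.iff_card.1 h.yp
    have hk0 : k ≠ 0 := by
      rintro rfl
      apply hY1
      rw [pow_zero] at hk
      exact Subgroup.card_eq_one.1 hk
    rw [hk]
    exact dvd_pow_self 2 hk0
  have hVcard : 2 ∣ Nat.card V := by
    obtain ⟨k, hk⟩ := IsPGroup.iff_card.1 h.vp
    have hk0 : k ≠ 0 := by
      rintro rfl
      apply h.vne
      rw [pow_zero] at hk
      exact Subgroup.card_eq_one.1 hk
    rw [hk]
    exact dvd_pow_self 2 hk0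
  have hN2 : 2 ∣ Nat.card Nb := hYcard.trans (Subgroup.card_dvd_of_le h.yle)
  have hNdvd : Nat.card Nb ∣ 2 * r := hX ▸ Subgroup.card_subgroup_dvd_card Nb
  have hNne : Nat.card Nb ≠ 2 * r := by
    intro hh
    exact h.ntop ((Subgroup.card_eq_iff_eq_top Nb).1 (hh.trans hX.symm))
  have hN : Nat.card Nb = 2 := by
    obtain ⟨c, hc⟩ := hN2
    rw [hc] at hNdvd hNne ⊢
    have hcr : c ∣ r := (Nat.mul_dvd_mul_iff_left (by norm_num)).1 hNdvd
    rcases (Nat.dvd_prime hr).1 hcr with h1 | h1
    · rw [h1]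
    · exact absurd (by rw [h1]) hNne
  have hVN : V = Nb := Subgroup.eq_of_le_of_card_ge h.vle (by
    rw [hN]; exact Nat.le_of_dvd Nat.card_pos hVcard)
  have hYN : Yb = Nb := Subgroup.eq_of_le_of_card_ge h.yle (by
    rw [hN]; exact Nat.le_of_dvd Nat.card_pos hYcard)
  rw [hVN, hYN]

set_option maxRecDepth 100000 in
theorem perm_five_pow : ∀ σ : Equiv.Perm (Fin 5), σ ^ 4 = 1 ∨ σ ^ 5 = 1 ∨ σ ^ 6 = 1 := by
  decide

theorem orderOf_le_six_of_five_points {X : Type*} [Group X] {Ω : Type*} [MulAction X Ω]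
    [FaithfulSMul X Ω] (hΩ : Nat.card Ω = 5) (r : X) : orderOf r ≤ 6 := by
  haveI : Finite Ω := Nat.finite_of_card_ne_zero (by rw [hΩ]; norm_num)
  have e : Ω ≃ Fin 5 := Finite.equivFinOfCardEq hΩ
  let φ : X →* Equiv.Perm (Fin 5) := (e.permCongrHom.toMonoidHom).comp (MulAction.toPermHom X Ω)
  have hφ : Function.Injective φ := by
    intro a b hab
    exact MulAction.toPerm_injective (e.permCongrHom.injective hab)
  rw [← orderOf_injective φ hφ r]
  rcases perm_five_pow (φ r) with h | h | h
  · exact (Nat.le_of_dvd (by norm_num) (orderOf_dvd_of_pow_eq_one h)).trans (by norm_num)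
  · exact (Nat.le_of_dvd (by norm_num) (orderOf_dvd_of_pow_eq_one h)).trans (by norm_num)
  · exact Nat.le_of_dvd (by norm_num) (orderOf_dvd_of_pow_eq_one h)

/-- a group generated by two involutions `t`, `t'` has at most `2 * orderOf (t * t')` elements -/
theorem card_le_of_closure_two_involutions {X : Type*} [Group X] [Finite X] {t t' : X}
    (ht : t * t = 1) (ht' : t' * t' = 1) (hD : Subgroup.closure ({t, t'} : Set X) = ⊤) :
    Nat.card X ≤ 2 * orderOf (t * t') := by
  classical
  set r := t * t' with hr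
  have hrinv : t' * t = r⁻¹ := by
    rw [eq_inv_iff_mul_eq_one, hr]
    calc t' * t * (t * t') = t' * (t * t) * t' := by group
      _ = 1 := by rw [ht, mul_one, ht']
  have hall : ∀ x : X, x ∈ zpowers r ∨ t * x ∈ zpowers r := by
    intro x
    have hx : x ∈ Subgroup.closure ({t, t'} : Set X) := by rw [hD]; trivial
    have hstep : ∀ s ∈ ({t, t'} : Set X), ∀ y : X,
        (y ∈ zpowers r ∨ t * y ∈ zpowers r) → (s * y ∈ zpowers r ∨ t * (s * y) ∈ zpowers r) := by
      intro s hs y hy
      rcases hs with rfl | hs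
      · rcases hy with hy | hy
        · right
          rw [← mul_assoc, ht, one_mul]
          exact hy
        · left
          exact hy
      · rw [Set.mem_singleton_iff] at hs
        subst hs
        rcases hy with hy | hy
        · right
          rw [← mul_assoc]
          exact (zpowers r).mul_mem (Subgroup.mem_zpowers r) hy
        · left
          have e : s * y = (s * t) * (t * y) := by
            rw [mul_assoc, ← mul_assoc t t y, ht, one_mul]
          rw [e, hrinv]
          exact (zpowers r).mul_mem ((zpowers r).inv_mem (Subgroup.mem_zpowers r)) hy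
    have hinv : ∀ s ∈ ({t, t'} : Set X), s⁻¹ = s := by
      intro s hs
      rcases hs with rfl | hs
      · exact inv_eq_of_mul_eq_one_left ht
      · rw [Set.mem_singleton_iff] at hs
        subst hs
        exact inv_eq_of_mul_eq_one_left ht'
    refine Subgroup.closure_induction_left (p := fun y _ => y ∈ zpowers r ∨ t * y ∈ zpowers r)
      ?_ ?_ ?_ hx
    · left; exact (zpowers r).one_mem
    · intro s hs y _ hy
      exact hstep s hs y hy
    · intro s hs y _ hy
      rw [hinv s hs]
      exact hstep s hs y hy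
  have hsub : (Set.univ : Set X) ⊆ (zpowers r : Set X) ∪ (fun x => t⁻¹ * x) '' (zpowers r : Set X) := by
    intro x _
    rcases hall x with h | h
    · left; exact h
    · right
      exact ⟨t * x, h, by simp⟩
  have h1 : Nat.card X ≤ ((zpowers r : Set X) ∪ (fun x => t⁻¹ * x) '' (zpowers r : Set X)).ncard := by
    rw [← Set.ncard_univ]
    exact Set.ncard_le_ncard hsub (Set.toFinite _)
  have h2 := Set.ncard_union_le (zpowers r : Set X) ((fun x => t⁻¹ * x) '' (zpowers r : Set X))
  have h3 : ((fun x => t⁻¹ * x) '' (zpowers r : Set X)).ncard ≤ (zpowers r : Set X).ncard :=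
    Set.ncard_image_le (Set.toFinite _)
  have h4 : (zpowers r : Set X).ncard = orderOf r := by
    rw [← Nat.card_coe_set_eq]
    exact Nat.card_zpowers r
  omega

/-- No configuration `Yb ≤ Nb` with `|Yb| = 2` exists in a group of order `> 12` acting faithfully and
transitively on `5` points. -/
theorem no_cfg_of_five_points {X : Type*} [Group X] [Finite X] {Ω : Type*} [MulAction X Ω]
    [FaithfulSMul X Ω] [MulAction.IsPretransitive X Ω] (hΩ : Nat.card Ω = 5)
    (hX : 12 < Nat.card X) {Yb Nb : Subgroup X} (hY2 : Nat.card Yb = 2) (hntop : Nb ≠ ⊤)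
    (hmax : ∀ X1 : Subgroup X, Yb ≤ X1 → X1 ≠ ⊤ → X1 ≤ Nb) : False := by
  haveI : Finite Ω := Nat.finite_of_card_ne_zero (by rw [hΩ]; norm_num)
  haveI : Fact (Nat.Prime 2) := ⟨Nat.prime_two⟩
  have hYp : IsPGroup 2 Yb := IsPGroup.of_card (n := 1) (by rw [hY2]; norm_num)
  -- squares in `Yb` are trivial
  have hsq : ∀ y ∈ Yb, y * y = 1 := by
    intro y hy
    have := pow_card_eq_one' (G := Yb) (x := ⟨y, hy⟩)
    rw [hY2] at this
    have h2 := congrArg Subtype.val this
    simpa [pow_two] using h2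
  -- key: any `Yb`-fixed point has stabilizer `Nb`
  have key : ∀ ω' : Ω, (∀ y ∈ Yb, y • ω' = ω') → Nb = stabilizer X ω' := by
    intro ω' hfix
    have hidx : (stabilizer X ω').index = 5 := by
      rw [MulAction.index_stabilizer_of_transitive X ω', hΩ]
    have hSne : stabilizer X ω' ≠ ⊤ := by
      intro hh
      rw [hh, Subgroup.index_top] at hidx
      norm_num at hidx
    have hSN : stabilizer X ω' ≤ Nb := hmax _ (fun y hy => hfix y hy) hSne
    have hmul := Subgroup.relIndex_mul_index hSN
    rw [hidx] at hmul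
    have hNidx : Nb.index ≠ 1 := fun hh => hntop (Subgroup.index_eq_one.1 hh)
    have hdvd : Nb.index ∣ 5 := Dvd.intro_left _ hmul
    have h5 : Nb.index = 5 := by
      rcases (Nat.dvd_prime (by norm_num : Nat.Prime 5)).1 hdvd with h | h
      · exact absurd h hNidx
      · exact h
    rw [h5] at hmul
    have hrel : (stabilizer X ω').relIndex Nb = 1 := by omega
    exact le_antisymm (Subgroup.relIndex_eq_one.1 hrel) hSN
  -- a fixed point of `Yb`
  obtain ⟨ω, hω⟩ := hYp.nonempty_fixed_point_of_prime_not_dvd_card Ω (by rw [hΩ]; norm_num)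
  have hωfix : ∀ y ∈ Yb, y • ω = ω := fun y hy => hω ⟨y, hy⟩
  have hN := key ω hωfix
  -- `Yb` is nontrivial
  obtain ⟨⟨t0, ht0⟩, ht01⟩ : ∃ y : Yb, y ≠ 1 := by
    haveI : Nontrivial Yb := by
      rw [← Finite.one_lt_card_iff_nontrivial, hY2]; norm_num
    exact exists_ne 1
  have ht01' : t0 ≠ 1 := fun hh => ht01 (Subtype.ext hh)
  -- some point stabilizer differs from `Nb`
  have hex : ∃ g : X, stabilizer X (g • ω) ≠ stabilizer X ω := by
    by_contra hcon
    push Not at hcon
    apply ht01'
    apply FaithfulSMul.eq_of_smul_eq_smul (α := Ω)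
    intro a
    obtain ⟨g, rfl⟩ := MulAction.exists_smul_eq X ω a
    rw [one_smul]
    have : t0 ∈ stabilizer X (g • ω) := by
      rw [hcon g]
      exact hωfix t0 ht0
    exact this
  obtain ⟨g, hg⟩ := hex
  -- some `y ∈ Yb` with `g y g⁻¹ ∉ Nb`
  have hex2 : ∃ y ∈ Yb, g * y * g⁻¹ ∉ Nb := by
    by_contra hcon
    push Not at hcon
    apply hg
    have hfix2 : ∀ y ∈ Yb, y • (g⁻¹ • ω) = g⁻¹ • ω := by
      intro y hy
      have h1 := hcon y hy
      rw [hN] at h1
      have h2 : (g * y * g⁻¹) • ω = ω := h1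
      rw [mul_smul, mul_smul] at h2
      exact eq_inv_smul_iff.2 h2
    have hN2 := key (g⁻¹ • ω) hfix2
    ext n
    have e1 : n ∈ stabilizer X (g • ω) ↔ (g⁻¹ * n * g) ∈ stabilizer X ω := by
      rw [mem_stabilizer_iff, mem_stabilizer_iff, mul_smul, mul_smul, inv_smul_eq_iff]
    have e2 : (g⁻¹ * n * g) ∈ stabilizer X (g⁻¹ • ω) ↔ n ∈ stabilizer X ω := by
      rw [mem_stabilizer_iff, mem_stabilizer_iff, mul_smul, mul_smul, smul_inv_smul,
        smul_left_cancel_iff]
    exact e1.trans ((by rw [← hN, hN2] : g⁻¹ * n * g ∈ stabilizer X ω ↔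
      g⁻¹ * n * g ∈ stabilizer X (g⁻¹ • ω)).trans e2)
  obtain ⟨t, htY, ht'N⟩ := hex2
  have ht1 : t ≠ 1 := by
    rintro rfl
    apply ht'N
    rw [mul_one, mul_inv_cancel]
    exact Nb.one_mem
  have htt := hsq t htY
  have ht't' : (g * t * g⁻¹) * (g * t * g⁻¹) = 1 := by
    calc (g * t * g⁻¹) * (g * t * g⁻¹) = g * (t * t) * g⁻¹ := by group
      _ = 1 := by rw [htt, mul_one, mul_inv_cancel]
  have hord : orderOf t = 2 := by
    have hdvd : orderOf t ∣ 2 := orderOf_dvd_of_pow_eq_one (by rw [pow_two]; exact htt)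
    rcases (Nat.dvd_prime Nat.prime_two).1 hdvd with h | h
    · exact absurd (orderOf_eq_one_iff.1 h) ht1
    · exact h
  have hYz : zpowers t = Yb := by
    apply Subgroup.eq_of_le_of_card_ge (Subgroup.zpowers_le.2 htY)
    rw [Nat.card_zpowers, hord, hY2]
  have hYcl : Yb ≤ Subgroup.closure ({t, g * t * g⁻¹} : Set X) := by
    rw [← hYz, Subgroup.zpowers_le]
    exact Subgroup.subset_closure (by simp)
  have hD : Subgroup.closure ({t, g * t * g⁻¹} : Set X) = ⊤ := by
    by_contra hne
    exact ht'N (hmax _ hYcl hne (Subgroup.subset_closure (by simp)))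
  have hcard := card_le_of_closure_two_involutions htt ht't' hD
  have h6 := orderOf_le_six_of_five_points hΩ (t * (g * t * g⁻¹))
  omega

end Cfsg.Agent.H53
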