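import Mathlib
import Cfsg.Agent.H53.YL1
import Cfsg.Agent.H53.Conj
import Cfsg.Agent.H53.WC
import Cfsg.Agent.H8.SzLie

set_option autoImplicit false

namespace Cfsg.Agent.H53

open Subgroup Matrix MulAction Cfsg Cfsg.Agent.H8

section SzCase

variable {F : Type*} [Field F] [Fintype F] {m : ℕ}

/-- the central elements of the unipotent group, in the Suzuki group -/
def szZf (hF : Fintype.card F = 2 ^ (2 * m + 1)) (c : F) : Sz F m :=
  ((szUM (m := m) hF 0 c : szU (m := m) hF) : Sz F m)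

theorem szZf_injective (hF : Fintype.card F = 2 ^ (2 * m + 1)) :
    Function.Injective (szZf (m := m) hF) := by
  intro c c' h
  exact (szUM_inj hF (Subtype.ext h)).2

theorem szZf_zero (hF : Fintype.card F = 2 ^ (2 * m + 1)) : szZf (m := m) hF 0 = 1 := by
  unfold szZf
  rw [szUM_zero]
  rfl

/-- elements of order at most two of the unipotent group are central -/
theorem sz_eq_Zf_of_sq (hF : Fintype.card F = 2 ^ (2 * m + 1)) {y : Sz F m}
    (hy : y ∈ szU (m := m) hF) (h2 : y ^ 2 = 1) : ∃ c, y = szZf hF c := by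
  obtain ⟨a, b, hab⟩ := hy
  have hy' : y = ((szUM (m := m) hF a b : szU (m := m) hF) : Sz F m) := Subtype.ext hab
  have h3 : szUM (m := m) hF a b * szUM hF a b = szUM hF 0 0 := by
    rw [szUM_zero]
    apply Subtype.ext
    rw [Subgroup.coe_mul, ← hy', ← pow_two, h2]
    rfl
  rw [szUM_sq] at h3
  have h4 := (szUM_inj hF h3).2
  have ha : a = 0 := by
    rcases mul_eq_zero.1 h4 with h | h
    · exact h
    · exact szT_eq_zero.1 h
  subst ha
  exact ⟨b, hy'⟩

theorem szZf_mem (hF : Fintype.card F = 2 ^ (2 * m + 1)) (c : F) :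
    szZf (m := m) hF c ∈ szU (m := m) hF := (szUM hF 0 c).2

theorem szHG_conj_Zf (hF : Fintype.card F = 2 ^ (2 * m + 1)) (κ : Fˣ) (c : F) :
    szHG hF κ * szZf (m := m) hF c * (szHG hF κ)⁻¹ = szZf hF ((κ : F) * szT m (κ : F) * c) := by
  rw [mul_inv_eq_iff_eq_mul]
  apply Subtype.ext
  show szH m κ * szM m 0 c = szM m 0 ((κ : F) * szT m (κ : F) * c) * szH m κ
  rw [szH_szM hF, mul_zero]

theorem szHG_mem_normalizer (hF : Fintype.card F = 2 ^ (2 * m + 1)) (κ : Fˣ) :
    szHG (m := m) hF κ ∈ Subgroup.normalizer (szU (m := m) hF : Set (Sz F m)) := by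
  rw [Subgroup.mem_set_normalizer_iff]
  intro x
  constructor
  · intro hx
    exact szHG_conj_mem hF κ hx
  · intro hx
    have h1 := szHG_conj_mem hF κ⁻¹ hx
    rw [map_inv, inv_inv] at h1
    have e : (szHG (m := m) hF κ)⁻¹ * (szHG hF κ * x * (szHG hF κ)⁻¹) * szHG hF κ = x := by group
    rw [e] at h1
    exact h1

/-- the core statement in the Suzuki group when `Yb` lies in the standard unipotent subgroup -/
theorem sz_core_U (hm : 1 ≤ m) (hF : Fintype.card F = 2 ^ (2 * m + 1))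
    {Yb Nb V : Subgroup (Sz F m)} (h : YCfg 2 Yb Nb V) (hcard : Nat.card Yb = Fintype.card F)
    (hYU : Yb ≤ szU (m := m) hF) : V = Yb := by
  classical
  haveI : Fact (Nat.Prime 2) := ⟨Nat.prime_two⟩
  -- `Yb` is the centre of the unipotent group
  have hYZ : ∀ c : F, szZf (m := m) hF c ∈ Yb := by
    have hsub : (Yb : Set (Sz F m)) ⊆ Set.range (szZf (m := m) hF) := by
      intro y hy
      obtain ⟨c, hc⟩ := sz_eq_Zf_of_sq hF (hYU hy) (h.yexp y hy)
      exact ⟨c, hc.symm⟩
    have hfin : (Set.range (szZf (m := m) hF)).Finite := Set.finite_range _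
    have hle : (Set.range (szZf (m := m) hF)).ncard ≤ (Yb : Set (Sz F m)).ncard := by
      rw [← Nat.card_coe_set_eq, ← Nat.card_coe_set_eq,
        Nat.card_range_of_injective (szZf_injective hF), Nat.card_eq_fintype_card]
      exact hcard.symm.le
    have heq := Set.eq_of_subset_of_ncard_le hsub hle hfin
    intro c
    have : szZf (m := m) hF c ∈ (Yb : Set (Sz F m)) := by
      rw [heq]; exact ⟨c, rfl⟩
    exact this
  -- the normalizer of the unipotent group lies in `Nb`
  have hco := (sz_sylow_normalizer_max hm hF (szUSyl hm hF)).1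
  rw [szUSyl_coe] at hco
  have hNN : Subgroup.normalizer (szU (m := m) hF : Set (Sz F m)) ≤ Nb :=
    h.nmax _ (hYU.trans Subgroup.le_normalizer) hco.1
  have hUN : szU (m := m) hF ≤ Nb := Subgroup.le_normalizer.trans hNN
  -- `V ≤ szU`
  have hVU : V ≤ szU (m := m) hF := by
    have hP : IsPGroup 2 (V ⊔ szU (m := m) hF : Subgroup (Sz F m)) := by
      have hUp : IsPGroup 2 (szU (m := m) hF) := by
        have := (szUSyl hm hF).isPGroup'
        rwa [szUSyl_coe] at this
      exact IsPGroup.to_sup_of_normal_left' h.vp hUp (hUN.trans h.vnorm)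
    have hmax := (szUSyl hm hF).is_maximal' hP (by rw [szUSyl_coe]; exact le_sup_right)
    rw [szUSyl_coe] at hmax
    rw [← hmax]
    exact le_sup_left
  have hVY : V ≤ Yb := by
    intro v hv
    obtain ⟨c, hc⟩ := sz_eq_Zf_of_sq hF (hVU hv) (h.vexp v hv)
    rw [hc]
    exact hYZ c
  -- a nontrivial element of `V`
  obtain ⟨⟨g, hgV⟩, hg1⟩ := (Subgroup.ne_bot_iff_exists_ne_one).1 h.vne
  have hg1' : g ≠ 1 := fun hh => hg1 (Subtype.ext hh)
  obtain ⟨c0, hc0⟩ := sz_eq_Zf_of_sq hF (hVU hgV) (h.vexp g hgV)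
  have hc00 : c0 ≠ 0 := by
    rintro rfl
    apply hg1'
    rw [hc0, szZf_zero]
  have hall : ∀ c : F, szZf (m := m) hF c ∈ V := by
    intro c
    by_cases hc : c = 0
    · rw [hc, szZf_zero]
      exact V.one_mem
    · obtain ⟨d, hd⟩ := sz_norm_surj (m := m) hF (c / c0)
      have hd0 : d ≠ 0 := by
        rintro rfl
        rw [zero_mul] at hd
        exact (div_ne_zero hc hc00) hd.symm
      have hκ := h.vnorm (hNN (szHG_mem_normalizer hF (Units.mk0 d hd0)))
      have h1 := (Subgroup.mem_set_normalizer_iff.1 hκ (szZf hF c0)).1 (hc0 ▸ hgV)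
      rw [szHG_conj_Zf] at h1
      have e : ((Units.mk0 d hd0 : Fˣ) : F) * szT m ((Units.mk0 d hd0 : Fˣ) : F) * c0 = c := by
        rw [Units.val_mk0, hd]
        field_simp
      rw [e] at h1
      exact h1
  apply le_antisymm hVY
  intro y hy
  obtain ⟨c, hc⟩ := sz_eq_Zf_of_sq hF (hYU hy) (h.yexp y hy)
  rw [hc]
  exact hall c

/-- the core statement in the Suzuki group, `m ≥ 1` -/
theorem sz_core (hm : 1 ≤ m) (hF : Fintype.card F = 2 ^ (2 * m + 1))
    {Yb Nb V : Subgroup (Sz F m)} (h : YCfg 2 Yb Nb V) (hcard : Nat.card Yb = Fintype.card F) :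
    V = Yb := by
  haveI : Fact (Nat.Prime 2) := ⟨Nat.prime_two⟩
  obtain ⟨P, hP⟩ := h.yp.exists_le_sylow
  obtain ⟨g, hg⟩ := sz_sylow_conj hm hF P
  have hPc : (P : Subgroup (Sz F m)) = cj(g, szU (m := m) hF) := by
    rw [← hg, sylow_smul_eq_cj, szUSyl_coe]
  have h' := h.map (MulAut.conj g⁻¹)
  apply YCfg.eq_of_map (MulAut.conj g⁻¹)
  apply sz_core_U hm hF h'
  · rw [card_map_equiv, hcard]
  · have h1 : cj(g⁻¹, Yb) ≤ cj(g⁻¹, (cj(g, szU (m := m) hF))) := cj_mono g⁻¹ (hPc ▸ hP)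
    rw [cj_inv_cj] at h1
    exact h1

end SzCase

end Cfsg.Agent.H53
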