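import Mathlib
import Cfsg.Agent.H53.YL1
import Cfsg.Agent.H53.YL3
import Cfsg.Agent.H8.SzLie

set_option autoImplicit false

namespace Cfsg.Agent.H53

open Subgroup Matrix MulAction Cfsg Cfsg.Agent.H8

section Sz0

variable {F : Type*} [Field F] [Fintype F] {m : ℕ}

omit [Field F] in
theorem eq_of_card_two_of_ne [Zero F] [One F] [NeZero (1 : F)] (hF2 : Fintype.card F = 2) {c : F}
    (hc : c ≠ 0) : c = 1 := by
  by_contra h1
  have : 2 < Fintype.card F :=
    Fintype.two_lt_card_iff.2 ⟨0, 1, c, zero_ne_one, fun h => hc h.symm, fun h => h1 h.symm⟩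
  omega

theorem sz0_mulVec_eq (hF2 : Fintype.card F = 2) {g : Matrix.SpecialLinearGroup (Fin 4) F}
    {v : Fin 4 → F} (hv : v ≠ 0)
    (h : g • Projectivization.mk F v hv = Projectivization.mk F v hv) : g.1 *ᵥ v = v := by
  obtain ⟨c, hc0, hc⟩ := sz_smul_mk_eq g v hv v hv h
  rw [hc, eq_of_card_two_of_ne hF2 hc0, one_smul]

/-- over the field with two elements an element fixing the five ovoid points is trivial -/
theorem sz0_eq_one (hF2 : Fintype.card F = 2) {g : Matrix.SpecialLinearGroup (Fin 4) F}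
    (hfix : ∀ q, g • szPt F m q = szPt F m q) : g = 1 := by
  have hinf : g.1 *ᵥ szInf F = szInf F := sz0_mulVec_eq hF2 (szInf_ne_zero F) (hfix none)
  have h00 : g.1 *ᵥ szv F m 0 0 = szv F m 0 0 :=
    sz0_mulVec_eq hF2 (szv_ne_zero F m 0 0) (hfix (some (0, 0)))
  have h10 : g.1 *ᵥ szv F m 1 0 = szv F m 1 0 :=
    sz0_mulVec_eq hF2 (szv_ne_zero F m 1 0) (hfix (some (1, 0)))
  have h01 : g.1 *ᵥ szv F m 0 1 = szv F m 0 1 :=
    sz0_mulVec_eq hF2 (szv_ne_zero F m 0 1) (hfix (some (0, 1)))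
  have c0 : ∀ i, g.1 i 0 = szInf F i := fun i => by
    have := congrFun hinf i
    rw [sz_mulVec_inf_apply] at this
    exact this
  have c3 : ∀ i, g.1 i 3 = szv F m 0 0 i := fun i => by
    have := congrFun h00 i
    rw [sz_mulVec_szv_apply] at this
    simpa [szf] using this
  have c2 : ∀ i, g.1 i 0 + g.1 i 2 + g.1 i 3 = szv F m 1 0 i := fun i => by
    have := congrFun h10 i
    rw [sz_mulVec_szv_apply] at this
    simpa [szf] using this
  have c1 : ∀ i, g.1 i 0 + g.1 i 1 + g.1 i 3 = szv F m 0 1 i := fun i => by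
    have := congrFun h01 i
    rw [sz_mulVec_szv_apply] at this
    simpa [szf] using this
  apply Subtype.ext
  ext i j
  have e0 := c0 i
  have e1 := c1 i
  have e2 := c2 i
  have e3 := c3 i
  fin_cases i <;> fin_cases j <;> simp [szInf, szv, szf] at e0 e1 e2 e3 ⊢ <;>
    first | exact e0 | exact e3 | (rw [e0, e3] at e1; simpa using e1) | (rw [e0, e3] at e2; simpa using e2)

/-- the preimage of the Lie-model Suzuki group inside the ovoid stabiliser -/
def szK (F : Type*) [Field F] (m : ℕ) : Subgroup (Sz F m) :=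
  (Lie.Sz F (2 ^ (m + 1))).comap ((Matrix.SpecialLinearGroup.toGL).comp (Sz F m).subtype)

theorem szK_equiv (hF : Fintype.card F = 2 ^ (2 * m + 1)) :
    Nonempty (↥(szK F m) ≃* ↥(Lie.Sz F (2 ^ (m + 1)))) := by
  have hj : Function.Injective ((Matrix.SpecialLinearGroup.toGL).comp (Sz F m).subtype :
      ↥(Sz F m) →* GL (Fin 4) F) :=
    Matrix.SpecialLinearGroup.toGL_injective.comp Subtype.val_injective
  have hle : Lie.Sz F (2 ^ (m + 1)) ≤
      ((Matrix.SpecialLinearGroup.toGL).comp (Sz F m).subtype : ↥(Sz F m) →* GL (Fin 4) F).range := by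
    have hS : Lie.Sz F (2 ^ (m + 1)) = Subgroup.closure (lieSzSet F m) := rfl
    rw [hS, Subgroup.closure_le]
    rintro g ⟨hg, hstar⟩
    obtain ⟨g', hg', rfl⟩ := lie_mem_sz hF g hg hstar
    exact ⟨⟨g', hg'⟩, rfl⟩
  have hmap : (szK F m).map ((Matrix.SpecialLinearGroup.toGL).comp (Sz F m).subtype) =
      Lie.Sz F (2 ^ (m + 1)) := by
    unfold szK
    rw [Subgroup.map_comap_eq, inf_eq_right]
    exact hle
  exact ⟨((szK F m).equivMapOfInjective _ hj).trans (MulEquiv.subgroupCongr hmap)⟩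

theorem szM_mem_szK (hF : Fintype.card F = 2 ^ (2 * m + 1)) (a b : F) :
    (⟨szM m a b, szM_mem hF a b⟩ : Sz F m) ∈ szK F m :=
  Subgroup.subset_closure (toGL_mem_lieSzSet (szPres_M hF a b) (star4_szM hF a b))

theorem szW_mem_szK (hF : Fintype.card F = 2 ^ (2 * m + 1)) :
    szWG (m := m) hF ∈ szK F m :=
  Subgroup.subset_closure (toGL_mem_lieSzSet szPres_W (star4_szW hF))

theorem szU_le_szK (hF : Fintype.card F = 2 ^ (2 * m + 1)) : szU (m := m) hF ≤ szK F m := by
  rintro x ⟨a, b, hab⟩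
  have : x = ⟨szM m a b, szM_mem hF a b⟩ := Subtype.ext hab
  rw [this]
  exact szM_mem_szK hF a b

theorem szK_orbit (hF : Fintype.card F = 2 ^ (2 * m + 1)) (ω : suzukiOvoid F m) :
    ∃ k : szK F m, k • szP F m none = ω := by
  obtain ⟨q, rfl⟩ := szP_surj ω
  match q with
  | none => exact ⟨1, one_smul _ _⟩
  | some (a, b) =>
    refine ⟨⟨⟨szM m a b, szM_mem hF a b⟩ * szWG hF,
      (szK F m).mul_mem (szM_mem_szK hF a b) (szW_mem_szK hF)⟩, ?_⟩
    show ((⟨szM m a b, szM_mem hF a b⟩ : Sz F m) * szWG hF) • szP F m none = szP F m (some (a, b))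
    rw [sz_smul_szP]
    show (szM m a b * szW F) • szPt F m none = szPt F m (some (a, b))
    rw [mul_smul, szW_smul_none, szM_smul_zero hF]

/-- there is no configuration in the Lie-model Suzuki group over the field with two elements -/
theorem sz0_no_cfg (hF : Fintype.card F = 2 ^ (2 * m + 1)) (hm : m = 0)
    {Yb Nb V : Subgroup ↥(Lie.Sz F (2 ^ (m + 1)))} (h : YCfg 2 Yb Nb V)
    (hcard : Nat.card Yb = Fintype.card F) : False := by
  have hF2 : Fintype.card F = 2 := by rw [hF, hm]; norm_num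
  obtain ⟨e⟩ := szK_equiv (m := m) hF
  have h' := h.map e.symm
  haveI : IsPretransitive (szK F m) (suzukiOvoid F m) := by
    refine ⟨fun x y => ?_⟩
    obtain ⟨kx, hkx⟩ := szK_orbit hF x
    obtain ⟨ky, hky⟩ := szK_orbit hF y
    refine ⟨ky * kx⁻¹, ?_⟩
    rw [← hkx, mul_smul, inv_smul_smul, hky]
  haveI : FaithfulSMul (szK F m) (suzukiOvoid F m) := by
    refine ⟨fun {k k'} hk => ?_⟩
    have key : ∀ q, (((k'⁻¹ * k : szK F m) : Sz F m) : Matrix.SpecialLinearGroup (Fin 4) F) •
        szPt F m q = szPt F m q := by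
      intro q
      have h1 := hk (szP F m q)
      have h2 : (k'⁻¹ * k) • szP F m q = szP F m q := by rw [mul_smul, h1, inv_smul_smul]
      exact (sz_smul_szP _ _ _).1 h2
    have h3 := sz0_eq_one hF2 key
    have h4 : k'⁻¹ * k = 1 := Subtype.ext (Subtype.ext h3)
    exact (inv_mul_eq_one.1 h4).symm
  have hΩ : Nat.card (suzukiOvoid F m) = 5 := by
    rw [card_suzukiOvoid, hF2]
    norm_num
  have hX : 12 < Nat.card (szK F m) := by
    have h4 : 4 ∣ Nat.card (szK F m) := by
      have := Subgroup.card_dvd_of_le (szU_le_szK (m := m) hF)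
      have e4 : (2 ^ (2 * m + 1)) ^ 2 = 4 := by rw [hm]; norm_num
      rw [szU_card, e4] at this
      exact this
    have h5 : 5 ∣ Nat.card (szK F m) := by
      have := Subgroup.index_dvd_card (stabilizer (szK F m) (szP F m none))
      rwa [MulAction.index_stabilizer_of_transitive, hΩ] at this
    have h20 : 20 ∣ Nat.card (szK F m) :=
      Nat.Coprime.mul_dvd_of_dvd_of_dvd (by norm_num : Nat.Coprime 4 5) h4 h5
    have hpos : 0 < Nat.card (szK F m) := Nat.card_pos
    have := Nat.le_of_dvd hpos h20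
    omega
  exact no_cfg_of_five_points hΩ hX (by rw [card_map_equiv, hcard, hF2]) h'.ntop h'.nmax

end Sz0

end Cfsg.Agent.H53
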