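import Mathlib
import Cfsg.Prelude.Def_CaseTheorems
import Cfsg.Prelude.Def_LocalStructure
import Cfsg.Agent.H53.YL1
import Cfsg.Agent.H53.YL2
import Cfsg.Agent.H53.YL3
import Cfsg.Agent.H53.YL4
import Cfsg.Agent.H53.YL5
import Cfsg.Agent.H53.POf
import Cfsg.Agent.H53.PRed

set_option autoImplicit false

namespace Cfsg.Agent.H53

open Subgroup Cfsg Cfsg.Agent.H8

section FrakL

variable {G : Type*} [Group G] {p : ℕ}

/-- the image of `Y_M` in `L / O_p(L)` -/
def frakLYb (p : ℕ) (M L : Subgroup G) : Subgroup (↥L ⧸ pCore p ↥L) :=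
  ((largestPReducedOf p M).subgroupOf L).map (QuotientGroup.mk' (pCore p ↥L))

/-- the image of `N_L(Y_M)` in `L / O_p(L)` -/
def frakLNb (p : ℕ) (M L : Subgroup G) : Subgroup (↥L ⧸ pCore p ↥L) :=
  ((L ⊓ normalizer (largestPReducedOf p M : Set G)).subgroupOf L).map
    (QuotientGroup.mk' (pCore p ↥L))

theorem frakLYb_card (p : ℕ) {M L : Subgroup G} (hYL : largestPReducedOf p M ≤ L) :
    Nat.card (frakLYb p M L) =
      (largestPReducedOf p M ⊓ pCoreOf p L).relIndex (largestPReducedOf p M) := by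
  unfold frakLYb
  rw [← Subgroup.relIndex_ker, QuotientGroup.ker_mk', Subgroup.inf_relIndex_left,
    ← pCoreOf_subgroupOf p L, Subgroup.subgroupOf, Subgroup.relIndex_comap,
    Subgroup.map_subgroupOf_eq_of_le hYL]

theorem frakL_ycfg [Fact p.Prime] {M L : Subgroup G} (hL : IsInFrakL p M L)
    (V' : Subgroup (↥L ⧸ pCore p ↥L)) (hV1 : V' ≤ frakLNb p M L)
    (hV2 : frakLNb p M L ≤ normalizer (V' : Set (↥L ⧸ pCore p ↥L)))
    (hV3 : IsPGroup p V') (hV4 : ∀ v ∈ V', v ^ p = 1) (hV5 : V' ≠ ⊥) :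
    YCfg p (frakLYb p M L) (frakLNb p M L) V' := by
  obtain ⟨hYL, -, hAN, hmin, -, ⟨hNlt, hNmax⟩, -⟩ := hL
  have hYel := (isElementaryAbelian_iff.1 (largestPReducedOf_isElementaryAbelian p M))
  have hYNL : largestPReducedOf p M ≤ L ⊓ normalizer (largestPReducedOf p M : Set G) :=
    le_inf hYL le_normalizer
  have hANL : pCoreOf p L ≤ L ⊓ normalizer (largestPReducedOf p M : Set G) :=
    le_inf (pCoreOf_le p L) hAN
  have hπsurj : Function.Surjective (QuotientGroup.mk' (pCore p ↥L)) :=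
    QuotientGroup.mk'_surjective _
  have hYp : IsPGroup p ↥(largestPReducedOf p M) := fun y =>
    ⟨1, by rw [pow_one]; exact Subtype.ext (by simpa using hYel.2 y.1 y.2)⟩
  refine ⟨(hYp.comap_subtype).map _, ?_, ?_, ?_, ?_, ?_, ?_, hV1, hV2, hV3, hV4, hV5⟩
  · rintro _ ⟨y, hy, rfl⟩
    rw [← map_pow]
    have : y ^ p = 1 := Subtype.ext (by simpa using hYel.2 y.1 (Subgroup.mem_subgroupOf.1 hy))
    rw [this, map_one]
  · exact Subgroup.map_mono (Subgroup.comap_mono hYNL)
  · intro ht
    have hker : (QuotientGroup.mk' (pCore p ↥L)).ker ≤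
        (L ⊓ normalizer (largestPReducedOf p M : Set G)).subgroupOf L := by
      rw [QuotientGroup.ker_mk', ← pCoreOf_subgroupOf p L]
      exact Subgroup.comap_mono hANL
    have h1 := Subgroup.comap_map_eq (QuotientGroup.mk' (pCore p ↥L))
      ((L ⊓ normalizer (largestPReducedOf p M : Set G)).subgroupOf L)
    rw [sup_eq_left.2 hker] at h1
    unfold frakLNb at ht
    rw [ht, Subgroup.comap_top] at h1
    have h2 := Subgroup.subgroupOf_eq_top.1 h1.symm
    exact lt_irrefl _ (lt_of_lt_of_le hNlt h2)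
  · intro X1 hY1 hX1
    have hlt : (X1.comap (QuotientGroup.mk' (pCore p ↥L))).map L.subtype < L := by
      refine lt_of_le_of_ne (Subgroup.map_subtype_le _) ?_
      intro heq
      apply hX1
      have h1 : X1.comap (QuotientGroup.mk' (pCore p ↥L)) = ⊤ := by
        apply Subgroup.map_injective L.subtype_injective
        rw [heq, ← MonoidHom.range_eq_map, Subgroup.range_subtype]
      rw [← Subgroup.map_comap_eq_self_of_surjective hπsurj X1, h1,
        Subgroup.map_top_of_surjective _ hπsurj]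
    have hYX : largestPReducedOf p M ≤
        (X1.comap (QuotientGroup.mk' (pCore p ↥L))).map L.subtype := by
      intro y hy
      refine ⟨⟨y, hYL hy⟩, ?_, rfl⟩
      apply hY1
      exact Subgroup.mem_map_of_mem _ (Subgroup.mem_subgroupOf.2 hy)
    have h2 := hNmax _ hYX hlt
    intro x hx
    obtain ⟨l, rfl⟩ := hπsurj x
    refine Subgroup.mem_map_of_mem _ ?_
    rw [Subgroup.mem_subgroupOf]
    exact h2 ⟨l, hx, rfl⟩
  · unfold frakLNb frakLYb
    refine le_trans (Subgroup.map_mono ?_) (Subgroup.le_normalizer_map _)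
    intro n hn
    rw [Subgroup.mem_subgroupOf] at hn
    have hn' := (Subgroup.mem_inf.1 hn).2
    rw [Subgroup.mem_set_normalizer_iff] at hn' ⊢
    intro h
    rw [SetLike.mem_coe, SetLike.mem_coe, Subgroup.mem_subgroupOf, Subgroup.mem_subgroupOf]
    exact hn' h.1
  · have h1 := Subgroup.map_normalClosure
      (((largestPReducedOf p M).subgroupOf L : Subgroup ↥L) : Set ↥L)
      (QuotientGroup.mk' (pCore p ↥L)) hπsurj
    rw [hmin.1, Subgroup.map_top_of_surjective _ hπsurj] at h1
    unfold frakLYb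
    rw [Subgroup.coe_map]
    exact h1.symm

end FrakL

end Cfsg.Agent.H53
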