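import Mathlib
import Cfsg.Agent.H53.YL6

set_option autoImplicit false

namespace Cfsg.Agent.H53

open Subgroup Cfsg Cfsg.Agent.H8

section FrakL2

variable {G : Type*} [Group G] {p : ℕ}

/-- the core statement in `X = L / O_p(L)` -/
theorem frakL_core [Finite G] [Fact p.Prime] {M L : Subgroup G} (hL : IsInFrakL p M L)
    {V' : Subgroup (↥L ⧸ pCore p ↥L)} (h : YCfg p (frakLYb p M L) (frakLNb p M L) V') :
    V' = frakLYb p M L := by
  have hcard := frakLYb_card p hL.1
  obtain ⟨-, -, -, -, -, -, hcases⟩ := hL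
  rcases hcases with ⟨F, _, _, hF, ⟨e⟩⟩ | ⟨hp2, F, _, _, m, hF, hF2, ⟨e⟩⟩ | ⟨hp2, r, hr, hr2, ⟨e⟩⟩
  · apply YCfg.eq_of_map e
    apply sl2_core (h.map e)
    rw [card_map_equiv, hcard, hF]
  · subst hp2
    by_cases hm : 1 ≤ m
    · apply YCfg.eq_of_map (e.trans (lieSzEquiv hm hF).symm)
      apply sz_core hm hF (h.map (e.trans (lieSzEquiv hm hF).symm))
      rw [card_map_equiv, hcard, hF2]
    · exfalso
      exact sz0_no_cfg hF (by omega) (h.map e) (by rw [card_map_equiv, hcard, hF2])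
  · subst hp2
    have hX : Nat.card (↥L ⧸ pCore 2 ↥L) = 2 * r := by
      rw [Nat.card_congr e.toEquiv, DihedralGroup.nat_card]
    exact core_of_card_two_mul_prime h hr hX

theorem frakLYb_ne_bot [Finite G] [Fact p.Prime] {M L : Subgroup G} (hL : IsInFrakL p M L) :
    frakLYb p M L ≠ ⊥ := by
  intro hbot
  have hcard := frakLYb_card p hL.1
  rw [hbot, Subgroup.card_bot] at hcard
  obtain ⟨-, -, -, hmin, -, -, hcases⟩ := hL
  rcases hcases with ⟨F, _, _, hF, -⟩ | ⟨hp2, F, _, _, m, hF, hF2, -⟩ | ⟨hp2, r, hr, hr2, ⟨e⟩⟩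
  · have := Fintype.one_lt_card (α := F)
    omega
  · have := Fintype.one_lt_card (α := F)
    omega
  · have hπsurj : Function.Surjective (QuotientGroup.mk' (pCore p ↥L)) :=
      QuotientGroup.mk'_surjective _
    have h1 := Subgroup.map_normalClosure
      (((largestPReducedOf p M).subgroupOf L : Subgroup ↥L) : Set ↥L)
      (QuotientGroup.mk' (pCore p ↥L)) hπsurj
    rw [hmin.1, Subgroup.map_top_of_surjective _ hπsurj, ← Subgroup.coe_map] at h1
    have hb : ((largestPReducedOf p M).subgroupOf L).map (QuotientGroup.mk' (pCore p ↥L)) = ⊥ :=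
      hbot
    rw [hb] at h1
    have h2 : normalClosure (((⊥ : Subgroup (↥L ⧸ pCore p ↥L)) : Set (↥L ⧸ pCore p ↥L))) = ⊥ := by
      rw [Subgroup.coe_bot]
      exact Subgroup.normalClosure_eq_bot_iff.2 (by simp)
    rw [h2] at h1
    have hX : Nat.card (↥L ⧸ pCore p ↥L) = 2 * r := by
      rw [Nat.card_congr e.toEquiv, DihedralGroup.nat_card]
    have h3 : Nat.card (↥L ⧸ pCore p ↥L) = 1 := by
      rw [← Subgroup.card_top, h1, Subgroup.card_bot]
    have := hr.two_le
    omega

/-- `Y_M A / A` is the unique nontrivial elementary abelian normal `p`-subgroup of `N_L(Y_M) / A`. -/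
theorem frakL_unique [Finite G] [Fact p.Prime] {M L : Subgroup G} (hL : IsInFrakL p M L)
    (NL : Subgroup G)
    (hNL : NL = L ⊓ Subgroup.normalizer (((largestPReducedOf p M) : Subgroup G) : Set G))
    [hn : ((pCoreOf p L).subgroupOf NL).Normal] :
    let Ybar : Subgroup (↥NL ⧸ (pCoreOf p L).subgroupOf NL) :=
      ((largestPReducedOf p M).subgroupOf NL).map (QuotientGroup.mk' ((pCoreOf p L).subgroupOf NL))
    Ybar ≠ ⊥ ∧ Ybar.Normal ∧ IsElementaryAbelian p Ybar ∧
      ∀ V : Subgroup (↥NL ⧸ (pCoreOf p L).subgroupOf NL), V.Normal → IsElementaryAbelian p V →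
        V ≠ ⊥ → V = Ybar := by
  intro Ybar
  have hNLL : NL ≤ L := hNL ▸ inf_le_left
  have hNLN : NL ≤ Subgroup.normalizer (((largestPReducedOf p M) : Subgroup G) : Set G) :=
    hNL ▸ inf_le_right
  have hYNL : largestPReducedOf p M ≤ NL := by
    rw [hNL]
    exact le_inf hL.1 le_normalizer
  -- the comparison map
  let φ : ↥NL →* ↥L ⧸ pCore p ↥L :=
    (QuotientGroup.mk' (pCore p ↥L)).comp (Subgroup.inclusion hNLL)
  have hφker : φ.ker = (pCoreOf p L).subgroupOf NL := by
    ext x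
    rw [MonoidHom.mem_ker, Subgroup.mem_subgroupOf, mem_pCoreOf]
    show (QuotientGroup.mk' (pCore p ↥L)) (Subgroup.inclusion hNLL x) = 1 ↔ _
    rw [QuotientGroup.mk'_apply, QuotientGroup.eq_one_iff]
    constructor
    · intro h
      exact ⟨hNLL x.2, h⟩
    · rintro ⟨_, h⟩
      exact h
  let ι : ↥NL ⧸ (pCoreOf p L).subgroupOf NL →* ↥L ⧸ pCore p ↥L :=
    QuotientGroup.lift ((pCoreOf p L).subgroupOf NL) φ (by rw [hφker])
  have hιmk : ∀ x : ↥NL, ι (QuotientGroup.mk' ((pCoreOf p L).subgroupOf NL) x) = φ x := fun x => rfl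
  have hι : Function.Injective ι := by
    rw [injective_iff_map_eq_one]
    intro q hq
    obtain ⟨x, rfl⟩ := QuotientGroup.mk'_surjective ((pCoreOf p L).subgroupOf NL) q
    rw [hιmk] at hq
    have : x ∈ φ.ker := hq
    rw [hφker] at this
    exact (QuotientGroup.eq_one_iff x).2 this
  -- images
  have hYimg : Ybar.map ι = frakLYb p M L := by
    ext z
    constructor
    · rintro ⟨_, ⟨x, hx, rfl⟩, rfl⟩
      rw [hιmk]
      exact Subgroup.mem_map_of_mem _ (Subgroup.mem_subgroupOf.2 (Subgroup.mem_subgroupOf.1 hx))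
    · rintro ⟨l, hl, rfl⟩
      refine ⟨QuotientGroup.mk' ((pCoreOf p L).subgroupOf NL) ⟨l.1, hYNL (Subgroup.mem_subgroupOf.1 hl)⟩,
        Subgroup.mem_map_of_mem _ (Subgroup.mem_subgroupOf.2 (Subgroup.mem_subgroupOf.1 hl)), ?_⟩
      rw [hιmk]
      rfl
  have hrange : ∀ q, ι q ∈ frakLNb p M L := by
    intro q
    obtain ⟨x, rfl⟩ := QuotientGroup.mk'_surjective ((pCoreOf p L).subgroupOf NL) q
    rw [hιmk]
    refine Subgroup.mem_map_of_mem _ ?_
    rw [Subgroup.mem_subgroupOf]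
    show (x : G) ∈ L ⊓ normalizer (largestPReducedOf p M : Set G)
    rw [← hNL]
    exact x.2
  have hNbrange : ∀ n ∈ frakLNb p M L, ∃ q, ι q = n := by
    rintro _ ⟨l, hl, rfl⟩
    rw [SetLike.mem_coe, Subgroup.mem_subgroupOf, ← hNL] at hl
    exact ⟨QuotientGroup.mk' ((pCoreOf p L).subgroupOf NL) ⟨l.1, hl⟩, rfl⟩
  have hYel := largestPReducedOf_isElementaryAbelian p M
  have hYb1 := frakLYb_ne_bot hL
  refine ⟨?_, ?_, ?_, ?_⟩
  · intro hbot
    apply hYb1
    rw [← hYimg, hbot, Subgroup.map_bot]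
  · haveI : ((largestPReducedOf p M).subgroupOf NL).Normal :=
      (Subgroup.normal_subgroupOf_iff_le_normalizer hYNL).mpr hNLN
    exact Subgroup.Normal.map inferInstance _ (QuotientGroup.mk'_surjective _)
  · exact isElementaryAbelian_map _ (isElementaryAbelian_subgroupOf NL hYel)
  · intro V hVn hVel hV1
    have hVel' := isElementaryAbelian_iff.1 hVel
    apply Subgroup.map_injective hι
    rw [hYimg]
    apply frakL_core hL
    apply frakL_ycfg hL
    · rintro _ ⟨v, -, rfl⟩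
      exact hrange v
    · intro n hn
      obtain ⟨q, rfl⟩ := hNbrange n hn
      have h1 : ι q ∈ (normalizer (V : Set (↥NL ⧸ (pCoreOf p L).subgroupOf NL))).map ι := by
        refine Subgroup.mem_map_of_mem _ ?_
        rw [Subgroup.normalizer_eq_top_iff.2 hVn]
        trivial
      exact Subgroup.le_normalizer_map ι h1
    · have hVp : IsPGroup p V := fun v =>
        ⟨1, by rw [pow_one]; exact Subtype.ext (by simpa using hVel'.2 v.1 v.2)⟩
      exact hVp.map ι
    · rintro _ ⟨v, hv, rfl⟩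
      rw [← map_pow, hVel'.2 v hv, map_one]
    · intro hb
      exact hV1 ((Subgroup.map_eq_bot_iff_of_injective V hι).1 hb)

end FrakL2

end Cfsg.Agent.H53
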